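import Cfsg.Agent.Lib.AltDegree.Perm

/-!
Index, eigenvector and primary-part facts used in the reduction to irreducible minimal covers.
-/

set_option autoImplicit false

namespace Cfsg.Agent.AltDegree

open Equiv Equiv.Perm Module

theorem two_mul_card_alt {r : ℕ} (hr : 2 ≤ r) : 2 * Nat.card (alternatingGroup (Fin r)) = Nat.factorial r := by
  haveI : Nontrivial (Fin r) := Fin.nontrivial_iff_two_le.2 hr
  rw [two_mul_nat_card_alternatingGroup, Nat.card_perm, Nat.card_fin]

/-- Proper subgroups of the alternating group have index at least the degree. -/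
theorem index_ge {r : ℕ} (hr : 5 ≤ r) {H : Subgroup (alternatingGroup (Fin r))} (hH : H ≠ ⊤) : r ≤ H.index := by
  by_contra hlt
  push Not at hlt
  haveI := alternatingGroup.isSimpleGroup (α := Fin r) (by simpa using hr)
  have hinj : Function.Injective (MulAction.toPermHom (alternatingGroup (Fin r)) (alternatingGroup (Fin r) ⧸ H)) := by
    rw [← MonoidHom.ker_eq_bot_iff]
    refine (Subgroup.Normal.eq_bot_or_eq_top inferInstance).resolve_right fun h => hH (eq_top_iff.2 fun x _ => ?_)
    have := Equiv.Perm.congr_fun (show MulAction.toPermHom _ (alternatingGroup (Fin r) ⧸ H) x = 1 by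
      rw [← MonoidHom.mem_ker, h]; trivial) ((1 : alternatingGroup (Fin r)) : alternatingGroup (Fin r) ⧸ H)
    simp only [MulAction.toPermHom_apply, MulAction.toPerm_apply, Equiv.Perm.one_apply] at this
    rw [show x • ((1 : alternatingGroup (Fin r)) : alternatingGroup (Fin r) ⧸ H) = ((x * 1 : alternatingGroup (Fin r)) :
      alternatingGroup (Fin r) ⧸ H) from rfl, mul_one, QuotientGroup.eq, mul_one] at this
    simpa using this
  have h1 := Nat.card_le_card_of_injective _ hinj
  rw [Nat.card_perm, ← Subgroup.index_eq_card] at h1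
  have h2 := two_mul_card_alt (r := r) (by omega)
  have h3 : Nat.factorial H.index ≤ Nat.factorial (r - 1) := Nat.factorial_le (by omega)
  have h4 : Nat.factorial r = r * Nat.factorial (r - 1) := by
    conv_lhs => rw [show r = (r - 1) + 1 by omega, Nat.factorial_succ]
    rw [show r - 1 + 1 = r by omega]
  have h5 : 3 * Nat.factorial (r - 1) ≤ r * Nat.factorial (r - 1) := Nat.mul_le_mul_right _ (by omega)
  have h6 := Nat.factorial_pos (r - 1)
  omega

/-- Every element is in the join of the Sylow subgroups. -/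
theorem mem_iSup_sylow {G : Type*} [Group G] [Finite G] (x : G) :
    x ∈ ⨆ (q : Nat.Primes) (P : Sylow q G), (P : Subgroup G) := by
  set T := ⨆ (q : Nat.Primes) (P : Sylow q G), (P : Subgroup G) with hT
  have h0 : orderOf x ≠ 0 := (orderOf_pos x).ne'
  suffices ∀ n, n ≠ 0 → ∀ y : G, orderOf y = n → y ∈ T from this _ h0 x rfl
  intro n
  induction n using Nat.strong_induction_on with
  | _ n ih =>
    intro hn y hy
    by_cases h1 : n = 1
    · rw [h1, orderOf_eq_one_iff] at hy; rw [hy]; exact one_mem _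
    obtain ⟨q, hq, hqn⟩ := Nat.exists_prime_and_dvd h1
    haveI := Fact.mk hq
    obtain ⟨e, m, hm, hnm⟩ := Nat.exists_eq_pow_mul_and_not_dvd hn q hq.one_lt.ne'
    by_cases hm1 : m = 1
    · have hp : IsPGroup q (Subgroup.zpowers y) := IsPGroup.iff_card.2 ⟨e, by rw [Nat.card_zpowers, hy, hnm, hm1, mul_one]⟩
      obtain ⟨P, hP⟩ := hp.exists_le_sylow
      exact Subgroup.mem_iSup_of_mem (⟨q, hq⟩ : Nat.Primes) (Subgroup.mem_iSup_of_mem P (hP (Subgroup.mem_zpowers y)))
    have he : e ≠ 0 := fun h => hm (by rw [h, pow_zero, one_mul] at hnm; rwa [← hnm])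
    have hqe : 1 < q ^ e := Nat.one_lt_pow he hq.one_lt
    have hm0 : m ≠ 0 := fun h => hn (by rw [hnm, h, mul_zero])
    have hm2 : 1 < m := by omega
    have hcop : Nat.Coprime (q ^ e) m := Nat.Coprime.pow_left _ ((Nat.Prime.coprime_iff_not_dvd hq).2 hm)
    obtain ⟨a, b, hab⟩ : ∃ a b : ℤ, (q ^ e : ℕ) * a + (m : ℕ) * b = 1 := by
      refine ⟨Nat.gcdA (q ^ e) m, Nat.gcdB (q ^ e) m, ?_⟩
      rw [← Nat.gcd_eq_gcd_ab, hcop.gcd_eq_one]; rfl
    have hy1 : y = (y ^ (q ^ e)) ^ a * (y ^ m) ^ b := by
      rw [← zpow_natCast, ← zpow_natCast, ← zpow_mul, ← zpow_mul, ← zpow_add, hab, zpow_one]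
    rw [hy1]
    refine mul_mem (Subgroup.zpow_mem _ (ih m ?_ hm0 _ ?_) a) (Subgroup.zpow_mem _ (ih (q ^ e) ?_ (by omega) _ ?_) b)
    · rw [hnm]; exact lt_mul_of_one_lt_left (by omega) hqe
    · rw [orderOf_pow' _ (by omega), hy, Nat.gcd_eq_right (by rw [hnm]; exact Dvd.intro m rfl), hnm,
        Nat.mul_div_cancel_left _ (by omega)]
    · rw [hnm]; exact lt_mul_of_one_lt_right (by omega) hm2
    · rw [orderOf_pow' _ hm0, hy, Nat.gcd_eq_right (by rw [hnm]; exact Dvd.intro_left _ rfl), hnm,
        Nat.mul_div_cancel _ (by omega)]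

section Eigen

variable {k V : Type*} [Field k] [AddCommGroup V] [Module k V] {ι : Type*}

/-- Joint eigenvectors with distinct eigenvalue systems are independent. -/
theorem joint_eigen_indep (A : ι → Module.End k V) {κ : Type*} (v : κ → V) (χ : κ → ι → k)
    (hv : ∀ i, v i ≠ 0) (hχ : Function.Injective χ) (he : ∀ i j, A j (v i) = χ i j • v i) :
    LinearIndependent k v := by
  classical
  rw [linearIndependent_iff']
  intro s
  induction s using Finset.induction with
  | empty => simp
  | insert i₀ s hi₀ ih =>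
    intro c hsum
    have hz : ∀ i ∈ s, c i = 0 := by
      intro i hi
      obtain ⟨j, hj⟩ := Function.ne_iff.1 (show χ i ≠ χ i₀ from fun h => hi₀ (hχ h ▸ hi))
      have h1 := ih (fun i => c i * (χ i j - χ i₀ j)) ?_ i hi
      · exact (mul_eq_zero.1 h1).resolve_right (sub_ne_zero.2 hj)
      · have h2 := congrArg (A j) hsum
        simp only [map_sum, map_zero, map_smul, he, smul_smul] at h2
        have h3 := congrArg (χ i₀ j • ·) hsum
        simp only [smul_zero, Finset.smul_sum, smul_smul] at h3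
        rw [Finset.sum_insert hi₀] at h2 h3
        rw [mul_comm (χ i₀ j) (c i₀)] at h3
        have h4 : ∑ i ∈ s, (c i * χ i j) • v i - ∑ i ∈ s, (χ i₀ j * c i) • v i = 0 := by
          rw [sub_eq_zero]; exact add_left_cancel (h2.trans h3.symm)
        rw [← Finset.sum_sub_distrib] at h4
        rw [← h4]
        exact Finset.sum_congr rfl fun i _ => by rw [← sub_smul]; congr 1; ring
    intro i hi
    rcases Finset.mem_insert.1 hi with rfl | h
    · rw [Finset.sum_insert hi₀, Finset.sum_eq_zero (fun i hi => by rw [hz i hi, zero_smul]), add_zero] at hsum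
      exact (smul_eq_zero.1 hsum).resolve_right (hv _)
    · exact hz i h

/-- Commuting operators have a common eigenvector. -/
theorem exists_common_eigen [IsAlgClosed k] [FiniteDimensional k V] [Nontrivial V] (A : ι → Module.End k V)
    (hc : ∀ i j v, A i (A j v) = A j (A i v)) (s : Finset ι) :
    ∃ v : V, v ≠ 0 ∧ ∀ i ∈ s, ∃ c : k, A i v = c • v := by
  classical
  suffices ∀ s : Finset ι, ∃ W : Submodule k V, W ≠ ⊥ ∧ (∀ j, ∀ w ∈ W, A j w ∈ W) ∧
      ∀ i ∈ s, ∃ c : k, ∀ w ∈ W, A i w = c • w by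
    obtain ⟨W, hW, -, hWs⟩ := this s
    obtain ⟨v, hv, hv0⟩ := Submodule.exists_mem_ne_zero_of_ne_bot hW
    exact ⟨v, hv0, fun i hi => (hWs i hi).imp fun c hc => hc v hv⟩
  intro s
  induction s using Finset.induction with
  | empty => exact ⟨⊤, top_ne_bot, fun _ _ _ => trivial, by simp⟩
  | insert i₀ s hi₀ ih =>
    obtain ⟨W, hW, hinv, hWs⟩ := ih
    haveI : Nontrivial W := Submodule.nontrivial_iff_ne_bot.2 hW
    obtain ⟨c, hc'⟩ := Module.End.exists_eigenvalue ((A i₀).restrict (hinv i₀))
    obtain ⟨w, hw⟩ := hc'.exists_hasEigenvector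
    refine ⟨W ⊓ LinearMap.ker (A i₀ - c • LinearMap.id), fun h => ?_, fun j u hu => ?_, fun i hi => ?_⟩
    · have : (w : V) ∈ W ⊓ LinearMap.ker (A i₀ - c • LinearMap.id) := by
        refine ⟨w.2, ?_⟩
        rw [SetLike.mem_coe, LinearMap.mem_ker, LinearMap.sub_apply, LinearMap.smul_apply, LinearMap.id_apply,
          sub_eq_zero]
        exact congrArg Subtype.val hw.apply_eq_smul
      rw [h, Submodule.mem_bot] at this
      exact hw.2 (Subtype.ext this)
    · refine ⟨hinv j u hu.1, ?_⟩
      have h2 := hu.2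
      rw [SetLike.mem_coe, LinearMap.mem_ker, LinearMap.sub_apply, LinearMap.smul_apply, LinearMap.id_apply,
        sub_eq_zero] at h2 ⊢
      rw [hc, h2, map_smul]
    · rcases Finset.mem_insert.1 hi with rfl | hi
      · refine ⟨c, fun u hu => ?_⟩
        have h2 := hu.2
        rwa [SetLike.mem_coe, LinearMap.mem_ker, LinearMap.sub_apply, LinearMap.smul_apply, LinearMap.id_apply,
          sub_eq_zero] at h2
      · exact (hWs i hi).imp fun c hc u hu => hc u hu.1

end Eigen

end Cfsg.Agent.AltDegree
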