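import Mathlib

/-!
Joint eigenspaces of commuting operators of order dividing an invertible number.
-/

set_option autoImplicit false

namespace Cfsg.Agent.AltDegree

open Module

variable {k V : Type*} [Field k] [AddCommGroup V] [Module k V] {m : ℕ} {ω : k}

/-- The joint eigenspace for the exponents `χ`. -/
def wSpace {j : ℕ} (A : Fin j → Module.End k V) (ω : k) (χ : Fin j → Fin m) : Submodule k V :=
  ⨅ i, LinearMap.ker (A i - (ω ^ (χ i : ℕ)) • LinearMap.id)

theorem mem_wSpace {j : ℕ} {A : Fin j → Module.End k V} {χ : Fin j → Fin m} {v : V} :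
    v ∈ wSpace A ω χ ↔ ∀ i, A i v = (ω ^ (χ i : ℕ)) • v := by
  simp [wSpace, Submodule.mem_iInf, sub_eq_zero]

/-- A projection onto the eigenspace of `ω ^ a`. -/
def eProj (m : ℕ) (A : Module.End k V) (ω : k) (a : ℕ) : Module.End k V :=
  (m : k)⁻¹ • ∑ t ∈ Finset.range m, (((ω ^ a) ^ t)⁻¹) • A ^ t

theorem eProj_apply (A : Module.End k V) (a : ℕ) (v : V) :
    eProj m A ω a v = (m : k)⁻¹ • ∑ t ∈ Finset.range m, (((ω ^ a) ^ t)⁻¹) • (A ^ t) v := by
  simp [eProj, LinearMap.sum_apply]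

theorem apply_eProj [NeZero m] (hω : IsPrimitiveRoot ω m) {A : Module.End k V} (hA : A ^ m = 1) (a : ℕ) (v : V) :
    A (eProj m A ω a v) = (ω ^ a) • eProj m A ω a v := by
  rw [eProj_apply, map_smul, map_sum, smul_comm (ω ^ a)]
  congr 1
  rw [Finset.smul_sum]
  set z := ω ^ a with hz
  have hzm : z ^ m = 1 := by rw [hz, ← pow_mul, mul_comm, pow_mul, hω.pow_eq_one, one_pow]
  have hz0 : z ≠ 0 := fun h => by rw [h, zero_pow (NeZero.ne m)] at hzm; exact zero_ne_one hzm
  set f : ℕ → V := fun t => (z * (z ^ t)⁻¹) • (A ^ t) v with hf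
  have h1 : ∀ t, A (((z ^ t)⁻¹) • (A ^ t) v) = f (t + 1) := fun t => by
    rw [map_smul, hf]
    show _ = (z * (z ^ (t + 1))⁻¹) • (A ^ (t + 1)) v
    rw [pow_succ' A, Module.End.mul_apply, pow_succ' z, mul_inv, mul_inv_cancel_left₀ hz0]
  have h2 : ∀ t, z • ((z ^ t)⁻¹ • (A ^ t) v) = f t := fun t => by rw [smul_smul]
  simp only [h1, h2]
  have h3 := Finset.sum_range_succ' f m
  have h4 := Finset.sum_range_succ f m
  have h5 : f m = f 0 := by simp [hf, hzm, hA]
  rw [h4, h5] at h3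
  exact (add_right_cancel h3).symm

theorem sum_eProj [NeZero m] (hω : IsPrimitiveRoot ω m) (hm : (m : k) ≠ 0) (A : Module.End k V) (v : V) :
    ∑ a : Fin m, eProj m A ω (a : ℕ) v = v := by
  simp only [eProj_apply]
  rw [← Finset.smul_sum, Finset.sum_comm]
  simp only [← Finset.sum_smul]
  rw [Finset.sum_eq_single 0]
  · simp [smul_smul, inv_mul_cancel₀ hm]
  · intro t ht ht0
    rw [Finset.mem_range] at ht
    have hne : (ω ^ t)⁻¹ ≠ 1 := fun h => by
      rw [inv_eq_one] at h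
      exact ht0 (Nat.eq_zero_of_dvd_of_lt (hω.dvd_of_pow_eq_one t h) ht)
    have hpow : ((ω ^ t)⁻¹) ^ m = 1 := by
      rw [inv_pow, ← pow_mul, mul_comm, pow_mul, hω.pow_eq_one, one_pow, inv_one]
    have hz : ∑ a : Fin m, ((ω ^ t)⁻¹) ^ (a : ℕ) = 0 := by
      rw [Fin.sum_univ_eq_sum_range fun a => ((ω ^ t)⁻¹) ^ a, geom_sum_eq hne, hpow, sub_self, zero_div]
    rw [show ∑ a : Fin m, (((ω ^ (a : ℕ)) ^ t)⁻¹) = ∑ a : Fin m, ((ω ^ t)⁻¹) ^ (a : ℕ) from
      Finset.sum_congr rfl fun a _ => by rw [inv_pow, ← pow_mul, ← pow_mul, mul_comm], hz, zero_smul]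
  · intro h
    exact absurd (Finset.mem_range.2 (NeZero.pos m)) h

theorem eProj_commute {A B : Module.End k V} (h : ∀ v, A (B v) = B (A v)) (a : ℕ) (v : V) :
    B (eProj m A ω a v) = eProj m A ω a (B v) := by
  have hc : Commute B A := LinearMap.ext fun x => (h x).symm
  simp only [eProj_apply, map_smul, map_sum]
  congr 1
  exact Finset.sum_congr rfl fun t _ => by
    congr 1
    exact LinearMap.congr_fun (hc.pow_right t).eq v

/-- The joint eigenspaces span. -/
theorem mem_iSup_wSpace [NeZero m] (hω : IsPrimitiveRoot ω m) (hm : (m : k) ≠ 0) :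
    ∀ {j : ℕ} (A : Fin j → Module.End k V), (∀ i, A i ^ m = 1) → (∀ i i' v, A i (A i' v) = A i' (A i v)) →
      ∀ v, v ∈ ⨆ χ : Fin j → Fin m, wSpace A ω χ := by
  intro j
  induction j with
  | zero => intro A _ _ v; exact Submodule.mem_iSup_of_mem Fin.elim0 (mem_wSpace.2 fun i => i.elim0)
  | succ j ih =>
    intro A hA hc v
    have htail := ih (fun i => A i.succ) (fun i => hA _) (fun i i' => hc _ _) v
    rw [← sum_eProj hω hm (A 0) v]
    refine Submodule.sum_mem _ fun a _ => ?_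
    have hle : (⨆ χ : Fin j → Fin m, wSpace (fun i => A i.succ) ω χ) ≤
        (⨆ χ : Fin (j + 1) → Fin m, wSpace A ω χ).comap (eProj m (A 0) ω (a : ℕ)) := by
      refine iSup_le fun χ w hw => ?_
      refine Submodule.mem_iSup_of_mem (Fin.cons a χ) (mem_wSpace.2 fun i => ?_)
      refine Fin.cases ?_ (fun i => ?_) i
      · exact apply_eProj hω (hA 0) a w
      · rw [eProj_commute (hc 0 i.succ), show A i.succ w = (ω ^ (χ i : ℕ)) • w from mem_wSpace.1 hw i, map_smul,
          Fin.cons_succ]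
    exact hle htail

/-- The joint eigenspaces are independent. -/
theorem wSpace_indep [NeZero m] (hω : IsPrimitiveRoot ω m) {j : ℕ} (A : Fin j → Module.End k V)
    (s : Finset (Fin j → Fin m)) :
    ∀ (f : (Fin j → Fin m) → V), (∀ χ ∈ s, f χ ∈ wSpace A ω χ) → ∑ χ ∈ s, f χ = 0 → ∀ χ ∈ s, f χ = 0 := by
  classical
  induction s using Finset.induction with
  | empty => simp
  | insert χ₀ s hχ₀ ih =>
    intro f hf hsum
    have hz : ∀ χ ∈ s, f χ = 0 := by
      intro χ hχ
      obtain ⟨i, hi⟩ := Function.ne_iff.1 (show χ ≠ χ₀ from fun h => hχ₀ (h ▸ hχ))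
      have h1 := ih (fun χ => (ω ^ (χ i : ℕ) - ω ^ (χ₀ i : ℕ)) • f χ)
        (fun χ hχ => Submodule.smul_mem _ _ (hf χ (Finset.mem_insert_of_mem hχ))) ?_ χ hχ
      · refine (smul_eq_zero.1 h1).resolve_left (sub_ne_zero.2 fun e => hi (Fin.ext ?_))
        exact hω.pow_inj (χ i).2 (χ₀ i).2 e
      · have h2 := congrArg (A i) hsum
        rw [map_sum, map_zero, Finset.sum_insert hχ₀, mem_wSpace.1 (hf χ₀ (Finset.mem_insert_self _ _)) i] at h2
        rw [Finset.sum_insert hχ₀, add_eq_zero_iff_eq_neg] at hsum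
        rw [hsum, smul_neg, Finset.smul_sum] at h2
        simp only [sub_smul, Finset.sum_sub_distrib]
        rw [sub_eq_zero]
        rw [neg_add_eq_zero] at h2
        rw [h2]
        exact Finset.sum_congr rfl fun χ hχ => (mem_wSpace.1 (hf χ (Finset.mem_insert_of_mem hχ)) i).symm
    intro χ hχ
    rcases Finset.mem_insert.1 hχ with rfl | h
    · rwa [Finset.sum_insert hχ₀, Finset.sum_eq_zero hz, add_zero] at hsum
    · exact hz χ h

/-- The dimensions of distinct joint eigenspaces inside a subspace add up to at most its dimension. -/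
theorem sum_finrank_wSpace_le [FiniteDimensional k V] [NeZero m] (hω : IsPrimitiveRoot ω m) {j : ℕ}
    (A : Fin j → Module.End k V) (s : Finset (Fin j → Fin m)) (W : Submodule k V)
    (hW : ∀ χ ∈ s, wSpace A ω χ ≤ W) :
    ∑ χ ∈ s, finrank k (wSpace A ω χ) ≤ finrank k W := by
  classical
  let Φ : ((χ : s) → wSpace A ω (χ : Fin j → Fin m)) →ₗ[k] W :=
    { toFun := fun f => ∑ χ : s, ⟨(f χ : V), hW _ χ.2 (f χ).2⟩
      map_add' := fun f g => by rw [← Finset.sum_add_distrib]; exact Finset.sum_congr rfl fun χ _ => rfl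
      map_smul' := fun c f => by
        rw [RingHom.id_apply, Finset.smul_sum]; exact Finset.sum_congr rfl fun χ _ => rfl }
  have hinj : Function.Injective Φ := by
    rw [injective_iff_map_eq_zero]
    intro f hf
    have h0 : ∑ χ : s, (f χ : V) = 0 := by
      simpa [Φ, Submodule.coe_sum] using congrArg (fun w : W => (w : V)) hf
    let F : (Fin j → Fin m) → V := fun χ => if h : χ ∈ s then (f ⟨χ, h⟩ : V) else 0
    have h1 := wSpace_indep hω A s F (fun χ hχ => by simp only [F, dif_pos hχ]; exact (f ⟨χ, hχ⟩).2) (by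
      rw [← Finset.sum_coe_sort]
      rw [← h0]
      exact Finset.sum_congr rfl fun χ _ => by simp [F, χ.2])
    funext χ
    have := h1 χ χ.2
    simp only [F, dif_pos χ.2] at this
    exact Subtype.ext this
  have h := LinearMap.finrank_le_finrank_of_injective hinj
  rw [Module.finrank_pi_fintype] at h
  rwa [Finset.sum_coe_sort s fun χ => finrank k (wSpace A ω χ)] at h

/-- A semilinear symmetry carries weights to weights. -/
theorem wSpace_map {j : ℕ} {A : Fin j → Module.End k V} {χ χ' : Fin j → Fin m} {g : V ≃ₗ[k] V}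
    (h : ∀ i, ∀ v ∈ wSpace A ω χ, A i (g v) = (ω ^ (χ' i : ℕ)) • g v) :
    (wSpace A ω χ).map g.toLinearMap ≤ wSpace A ω χ' := by
  rintro _ ⟨v, hv, rfl⟩
  exact mem_wSpace.2 fun i => h i v hv

theorem finrank_wSpace_map [FiniteDimensional k V] {j : ℕ} {A : Fin j → Module.End k V} {χ χ' : Fin j → Fin m}
    {g : V ≃ₗ[k] V} (h : ∀ i, ∀ v ∈ wSpace A ω χ, A i (g v) = (ω ^ (χ' i : ℕ)) • g v) :
    finrank k (wSpace A ω χ) ≤ finrank k (wSpace A ω χ') :=
  (LinearEquiv.finrank_map_eq g _).ge.trans (Submodule.finrank_mono (wSpace_map h))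

theorem finrank_pos_of_ne_zero [FiniteDimensional k V] {W : Submodule k V} {v : V} (hv : v ∈ W) (hv0 : v ≠ 0) :
    0 < finrank k W :=
  Module.finrank_pos_iff.2 ⟨⟨⟨v, hv⟩, 0, fun h => hv0 (congrArg Subtype.val h)⟩⟩

end Cfsg.Agent.AltDegree
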