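import Cfsg.Agent.Lib.AltDegree.Embed
import Cfsg.Agent.Lib.AltDegree.Weights

/-!
Weights of an elementary abelian group generated by three disjoint three-cycles, and of two disjoint five-cycles.
-/

set_option autoImplicit false

namespace Cfsg.Agent.AltDegree

open Equiv Equiv.Perm Module

variable {k V : Type*} [Field k] [AddCommGroup V] [Module k V] {r : ℕ}
  {G : Type*} [Group G] {π : G →* alternatingGroup (Fin r)} {ρ : G →* (V ≃ₗ[k] V)}

/-- `ρ (lift of c) - 1`. -/
noncomputable def gN (π : G →* alternatingGroup (Fin r)) (ρ : G →* (V ≃ₗ[k] V)) (c : alternatingGroup (Fin r)) :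
    Module.End k V :=
  (ρ (lift3 π c)).toLinearMap - LinearMap.id

theorem gN_apply (c : alternatingGroup (Fin r)) (v : V) : gN π ρ c v = ρ (lift3 π c) v - v := rfl

/-- Lifts of disjoint three-cycles fix each other's moved spaces. -/
def CoverTriv (π : G →* alternatingGroup (Fin r)) (ρ : G →* (V ≃ₗ[k] V)) : Prop :=
  ∀ c d : alternatingGroup (Fin r), (c : Perm (Fin r)).IsThreeCycle → (d : Perm (Fin r)).IsThreeCycle →
    _root_.Disjoint (c : Perm (Fin r)).support (d : Perm (Fin r)).support →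
      ∀ v, ρ (lift3 π d) (gN π ρ c v) = gN π ρ c v

theorem exists_primitive_root [IsAlgClosed k] {m : ℕ} [NeZero m] (hm : (m : k) ≠ 0) :
    ∃ ω : k, IsPrimitiveRoot ω m := by
  haveI : NeZero (m : k) := ⟨hm⟩
  obtain ⟨z, hz⟩ := IsAlgClosed.exists_root (Polynomial.cyclotomic m k)
    (Polynomial.degree_cyclotomic_pos m k (NeZero.pos m)).ne'
  exact ⟨z, Polynomial.isRoot_cyclotomic_iff.1 hz⟩

theorem pow_of_eigen {A : Module.End k V} {a : k} {v : V} (h : A v = a • v) : ∀ t : ℕ, (A ^ t) v = a ^ t • v := by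
  intro t
  induction t with
  | zero => simp
  | succ t ih => rw [pow_succ', Module.End.mul_apply, ih, map_smul, h, smul_smul, ← pow_succ]

/-- An element permuting generators up to powers moves the joint eigenspaces. -/
theorem weight_move [FiniteDimensional k V] {j m : ℕ} [NeZero m] {ω : k} (hω : IsPrimitiveRoot ω m)
    {a : Fin j → G} {g : G} (τ : Fin j → Fin j) (e : Fin j → Fin m)
    (hg : ∀ i, g⁻¹ * a i * g = a (τ i) ^ (e i : ℕ)) (χ : Fin j → Fin m) :
    finrank k (wSpace (fun i => (ρ (a i)).toLinearMap) ω χ) ≤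
      finrank k (wSpace (fun i => (ρ (a i)).toLinearMap) ω fun i => e i * χ (τ i)) := by
  refine finrank_wSpace_map (g := ρ g) fun i v hv => ?_
  rw [mem_wSpace] at hv
  show ρ (a i) (ρ g v) = _
  have h1 : ρ (a i) (ρ g v) = ρ g (ρ (a (τ i) ^ (e i : ℕ)) v) := by
    rw [← hg i, ← LinearEquiv.mul_apply, ← LinearEquiv.mul_apply, ← map_mul, ← map_mul,
      mul_assoc g⁻¹, mul_inv_cancel_left]
  have h3 : ∀ t : ℕ, ρ (a (τ i) ^ t) v = ((ρ (a (τ i))).toLinearMap ^ t) v := by
    intro t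
    induction t with
    | zero => simp
    | succ t ih => rw [pow_succ', pow_succ', map_mul, LinearEquiv.mul_apply, Module.End.mul_apply, ih]; rfl
  rw [h1, h3, pow_of_eigen (hv (τ i)), map_smul, ← pow_mul, Fin.val_mul, mul_comm (χ (τ i) : ℕ)]
  congr 1
  exact pow_eq_pow_of_modEq (Nat.mod_modEq _ m).symm hω.pow_eq_one

/-- Three disjoint three-cycles on nine points. -/
def nineT : Fin 3 → Perm (Fin 9) := ![c[(0 : Fin 9), 1, 2], c[(3 : Fin 9), 4, 5], c[(6 : Fin 9), 7, 8]]

/-- Elements normalising them. -/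
def nineG : Fin 4 → Perm (Fin 9) :=
  ![c[(0 : Fin 9), 1] * c[(3 : Fin 9), 4], c[(3 : Fin 9), 4] * c[(6 : Fin 9), 7],
    c[(0 : Fin 9), 3, 6] * c[(1 : Fin 9), 4, 7] * c[(2 : Fin 9), 5, 8],
    c[(0 : Fin 9), 3] * c[(1 : Fin 9), 4] * c[(2 : Fin 9), 5] * c[(6 : Fin 9), 7]]

/-- The index part of the induced maps. -/
def nineTau : Fin 4 → Fin 3 → Fin 3 := ![![0, 1, 2], ![0, 1, 2], ![2, 0, 1], ![1, 0, 2]]

/-- The exponent part of the induced maps. -/
def nineExp : Fin 4 → Fin 3 → Fin 3 := ![![2, 2, 1], ![1, 2, 2], ![1, 1, 1], ![1, 1, 2]]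

/-- The map on weights. -/
def nineAct (t : Fin 4) (χ : Fin 3 → Fin 3) : Fin 3 → Fin 3 := fun i => nineExp t i * χ (nineTau t i)

theorem nineT_mem : ∀ i, nineT i ∈ alternatingGroup (Fin 9) := by
  simp only [mem_alternatingGroup]; decide

theorem nineG_mem : ∀ i, nineG i ∈ alternatingGroup (Fin 9) := by
  simp only [mem_alternatingGroup]; decide

theorem nine_rel : ∀ t i, (nineG t)⁻¹ * nineT i * nineG t = nineT (nineTau t i) ^ (nineExp t i : ℕ) := by
  decide

theorem nine_comm : ∀ i i', nineT i * nineT i' = nineT i' * nineT i := by decide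

theorem nineT_three : ∀ i, (nineT i).IsThreeCycle := by
  intro i
  rw [← card_support_eq_three_iff]
  revert i
  decide

theorem nineT_pow : ∀ i, nineT i ^ 3 = 1 := by decide

/-- Number of non-zero entries. -/
def wSize {j m : ℕ} [NeZero m] (χ : Fin j → Fin m) : ℕ := (Finset.univ.filter fun i => χ i ≠ 0).card

/-- Representatives of the sizes. -/
def nineRep : ℕ → Fin 3 → Fin 3
  | 0 => ![0, 0, 0]
  | 1 => ![1, 0, 0]
  | 2 => ![1, 1, 0]
  | _ => ![1, 1, 1]

/-- Words to the representative. -/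
def nineTo : Fin 27 → List (Fin 4) :=
  ![[], [2], [1, 2], [3], [2, 2], [3, 2], [0, 3], [0, 2, 2], [0, 3, 2], [], [2], [1, 2], [], [], [3], [1],
    [1, 3], [1], [0], [0, 2], [2, 0], [0, 1], [3, 1], [0, 1], [0], [0], [0, 3]]

/-- Words from the representative. -/
def nineFrom : Fin 27 → List (Fin 4) :=
  ![[], [2, 2], [0, 2, 2], [2], [2], [1, 2], [0, 2], [2, 0], [0, 2], [], [2, 2], [2, 3], [], [], [3], [1],
    [3, 1], [1], [0], [0, 2, 3], [0, 2, 2], [0, 1], [1, 3], [0, 1], [0], [0], [0, 3]]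

/-- Code of a weight. -/
def nineCode (χ : Fin 3 → Fin 3) : Fin 27 := ⟨(χ 0 : ℕ) * 9 + (χ 1 : ℕ) * 3 + (χ 2 : ℕ), by omega⟩

theorem nine_orbit : ∀ χ : Fin 3 → Fin 3,
    (nineTo (nineCode χ)).foldl (fun x t => nineAct t x) χ = nineRep (wSize χ) ∧
      (nineFrom (nineCode χ)).foldl (fun x t => nineAct t x) (nineRep (wSize χ)) = χ := by
  decide

theorem nine_count : (Finset.univ.filter fun χ : Fin 3 → Fin 3 => wSize χ = 1).card = 6 ∧
    (Finset.univ.filter fun χ : Fin 3 → Fin 3 => wSize χ = 2).card = 12 ∧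
    (Finset.univ.filter fun χ : Fin 3 → Fin 3 => wSize χ = 3).card = 8 ∧
    (Finset.univ.filter fun χ : Fin 3 → Fin 3 => wSize χ = 1 ∨ wSize χ = 3).card = 14 ∧
    (∀ χ : Fin 3 → Fin 3, wSize χ = 3 → ∀ i, χ i ≠ 0) ∧
    (∀ χ : Fin 3 → Fin 3, wSize χ = 1 → χ 0 ≠ 0 → χ 1 = 0) ∧
    (∀ χ : Fin 3 → Fin 3, wSize χ ≤ 3) ∧ (∀ χ : Fin 3 → Fin 3, wSize χ = 0 → ∀ i, χ i = 0) := by
  decide

theorem foldl_mono {α β : Type*} (f : β → α → α) (D : α → ℕ) (h : ∀ t x, D x ≤ D (f t x)) :
    ∀ (l : List β) (x : α), D x ≤ D (l.foldl (fun x t => f t x) x) := by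
  intro l
  induction l with
  | nil => intro x; exact le_rfl
  | cons t l ih => intro x; exact (h t x).trans (ih _)

/-- Either disjoint three-cycles act trivially on each other's moved spaces or the spin situation occurs. -/
theorem Cover.three_cases [IsAlgClosed k] [FiniteDimensional k V] (C : Cover π ρ) (h3 : (3 : k) ≠ 0) (hr : 9 ≤ r)
    (hn : finrank k V ≤ 9) :
    CoverTriv π ρ ∨ (8 ≤ finrank k V ∧ ∀ c : alternatingGroup (Fin r), (c : Perm (Fin r)).IsThreeCycle →
      finrank k (LinearMap.ker (gN π ρ c)) + 8 ≤ finrank k V) := by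
  classical
  let e : Fin 9 ↪ Fin r := Fin.castLEEmb hr
  let T : Fin 3 → alternatingGroup (Fin r) := fun i => altEmb e ⟨nineT i, nineT_mem i⟩
  have hT : ∀ i, T i ^ 3 = 1 := fun i => by
    rw [← map_pow, show (⟨nineT i, nineT_mem i⟩ : alternatingGroup (Fin 9)) ^ 3 = 1 from Subtype.ext (nineT_pow i),
      map_one]
  have hT3 : ∀ i, (T i : Perm (Fin r)).IsThreeCycle := fun i => altEmb_isThreeCycle e (nineT_three i)
  set a : Fin 3 → G := fun i => lift3 π (T i) with ha
  set A : Fin 3 → Module.End k V := fun i => (ρ (a i)).toLinearMap with hA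
  have hA3 : ∀ i, A i ^ 3 = 1 := fun i => LinearMap.ext fun v => by
    rw [pow_succ, pow_two, Module.End.mul_apply, Module.End.mul_apply]
    show ρ (a i) (ρ (a i) (ρ (a i) v)) = v
    rw [← LinearEquiv.mul_apply, ← LinearEquiv.mul_apply, ← map_mul, ← map_mul, ← pow_two, ← pow_succ,
      C.lift3_pow (hT i), map_one]
    rfl
  have hAc : ∀ i i' v, A i (A i' v) = A i' (A i v) := fun i i' v => by
    show ρ (a i) (ρ (a i') v) = ρ (a i') (ρ (a i) v)
    rw [← LinearEquiv.mul_apply, ← LinearEquiv.mul_apply, ← map_mul, ← map_mul, C.lift3_commute (hT i) (hT i')]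
    rw [← map_mul, ← map_mul, show (⟨nineT i, nineT_mem i⟩ : alternatingGroup (Fin 9)) * ⟨nineT i', nineT_mem i'⟩ =
      ⟨nineT i', nineT_mem i'⟩ * ⟨nineT i, nineT_mem i⟩ from Subtype.ext (nine_comm i i')]
  obtain ⟨ω, hω⟩ := exists_primitive_root (k := k) (m := 3) (by exact_mod_cast h3)
  have hm : ((3 : ℕ) : k) ≠ 0 := by exact_mod_cast h3
  let D : (Fin 3 → Fin 3) → ℕ := fun χ => finrank k (wSpace A ω χ)
  have hstep : ∀ t χ, D χ ≤ D (nineAct t χ) := by
    intro t χ
    obtain ⟨g, hg⟩ := C.surj (altEmb e ⟨nineG t, nineG_mem t⟩)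
    refine weight_move hω (g := g) (nineTau t) (nineExp t) (fun i => ?_) χ
    have h := C.conj_lift3 (hT i) g⁻¹
    rw [inv_inv, map_inv, inv_inv, hg] at h
    rw [h]
    refine (C.eq_lift3 ?_ ?_ ?_).symm
    · rw [← map_inv, ← map_mul, ← map_mul, ← map_pow]
      refine (congrArg (altEmb e) (?_ : _ = (1 : alternatingGroup (Fin 9)))).trans (map_one _)
      refine Subtype.ext ?_
      rw [Subgroup.coe_pow, Subgroup.coe_mul, Subgroup.coe_mul, Subgroup.coe_inv, Subgroup.coe_one]
      show ((nineG t)⁻¹ * nineT i * nineG t) ^ 3 = 1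
      rw [nine_rel, ← pow_mul, mul_comm, pow_mul, nineT_pow, one_pow]
    · rw [map_pow, C.π_lift3 (hT _), ← map_inv, ← map_mul, ← map_mul, ← map_pow]
      refine congrArg (altEmb e) (Subtype.ext ?_)
      exact (nine_rel t i).symm
    · rw [← pow_mul, mul_comm, pow_mul, C.lift3_pow (hT _), one_pow]
  have hDrep : ∀ χ, D χ = D (nineRep (wSize χ)) := fun χ => by
    obtain ⟨h1, h2⟩ := nine_orbit χ
    refine le_antisymm ?_ ?_
    · conv_rhs => rw [← h1]
      exact foldl_mono nineAct D hstep _ χ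
    · conv_rhs => rw [← h2]
      exact foldl_mono nineAct D hstep _ _
  obtain ⟨c1, c2, c3, c13, f3, f1, fle, f0⟩ := nine_count
  have hbound : ∀ (s : Finset (Fin 3 → Fin 3)), (∀ χ ∈ s, 0 < D χ) → s.card ≤ finrank k V := by
    intro s hs
    have h1 := Finset.card_nsmul_le_sum s D 1 hs
    have h2 := sum_finrank_wSpace_le (k := k) hω A s ⊤ fun _ _ => le_top
    rw [finrank_top] at h2
    rw [smul_eq_mul, mul_one] at h1
    exact h1.trans h2
  have hno2 : ∀ χ, wSize χ = 2 → D χ = 0 := fun χ hχ => by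
    by_contra h
    have := hbound (Finset.univ.filter fun χ => wSize χ = 2) fun χ' hχ' => by
      rw [hDrep, (Finset.mem_filter.1 hχ').2, ← hχ, ← hDrep]; omega
    omega
  have hspan : ∀ v, v ∈ ⨆ χ : Fin 3 → Fin 3, wSpace A ω χ := mem_iSup_wSpace hω hm A hA3 hAc
  have hzero : ∀ χ, D χ = 0 → wSpace A ω χ = ⊥ := fun χ h => Submodule.finrank_eq_zero.1 h
  by_cases h33 : D (nineRep 3) = 0
  · left
    -- disjoint three-cycles fix each other's moved space
    intro c d hc hd hcd v
    obtain ⟨g, hg1, hg2⟩ := conj_pair (by omega) (hT3 0) (hT3 1) (by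
      rw [altEmb_support, altEmb_support, Finset.disjoint_map]
      decide) hc hd hcd
    obtain ⟨x, hx⟩ := C.surj g
    have key : ∀ w, ρ (a 1) (gN π ρ (T 0) w) = gN π ρ (T 0) w := by
      have hle : (⨆ χ : Fin 3 → Fin 3, wSpace A ω χ) ≤
          (LinearMap.ker (A 1 - LinearMap.id)).comap (gN π ρ (T 0)) := iSup_le fun χ w hw => by
        have hw' := mem_wSpace.1 hw
        rw [Submodule.mem_comap, LinearMap.mem_ker, LinearMap.sub_apply, LinearMap.id_apply, gN_apply, map_sub,
          show ρ (lift3 π (T 0)) w = A 0 w from rfl, hw' 0, map_smul, hw' 1]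
        by_cases h0 : χ 0 = 0
        · simp [h0]
        · by_cases hw0 : w = 0
          · simp [hw0]
          have hpos : 0 < D χ := finrank_pos_of_ne_zero hw hw0
          have h1 : wSize χ = 1 := by
            have := fle χ
            have h3 : wSize χ ≠ 3 := fun h => by rw [hDrep, h, h33] at hpos; omega
            have h2' : wSize χ ≠ 2 := fun h => by rw [hno2 χ h] at hpos; omega
            have h0' : wSize χ ≠ 0 := fun h => h0 (f0 χ h 0)
            omega
          rw [f1 χ h1 h0, Fin.val_zero, pow_zero, one_smul, sub_self]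
      intro w
      have := hle (hspan w)
      rw [Submodule.mem_comap, LinearMap.mem_ker, LinearMap.sub_apply, sub_eq_zero] at this
      exact this
    have hcv : gN π ρ c v = ρ x (gN π ρ (T 0) (ρ x⁻¹ v)) := by
      rw [gN_apply, gN_apply, map_sub, ← hg1, ← hx, ← C.conj_lift3 (hT 0)]
      simp [map_mul, map_inv]
    rw [hcv, ← hg2, ← hx, ← C.conj_lift3 (hT 1), map_mul, map_mul, LinearEquiv.mul_apply, LinearEquiv.mul_apply,
      ← LinearEquiv.mul_apply (ρ x⁻¹), ← map_mul, inv_mul_cancel, map_one]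
    exact congrArg (ρ x) (key _)
  · right
    have hno1 : ∀ χ, wSize χ = 1 → D χ = 0 := fun χ hχ => by
      by_contra h
      have := hbound (Finset.univ.filter fun χ => wSize χ = 1 ∨ wSize χ = 3) fun χ' hχ' => by
        rcases (Finset.mem_filter.1 hχ').2 with h' | h'
        · rw [hDrep, h', ← hχ, ← hDrep]; omega
        · rw [hDrep, h']; omega
      omega
    have hpos3 : ∀ χ ∈ (Finset.univ.filter fun χ : Fin 3 → Fin 3 => wSize χ = 3), 0 < D χ := fun χ hχ => by
      rw [hDrep, (Finset.mem_filter.1 hχ).2]; omega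
    refine ⟨by have := hbound _ hpos3; omega, fun c hc => ?_⟩
    -- the fixed space of the first three-cycle
    have hfix : LinearMap.ker (gN π ρ (T 0)) ≤ wSpace A ω fun _ => (0 : Fin 3) := by
      intro v hv
      rw [LinearMap.mem_ker, gN_apply, sub_eq_zero] at hv
      have hA0 : A 0 v = v := hv
      have h1 := (eProj_apply (m := 3) (ω := ω) (A 0) 0 v)
      have hp : eProj 3 (A 0) ω 0 v = v := by
        rw [h1]
        simp [pow_of_eigen (show A 0 v = (1 : k) • v by rw [one_smul]; exact hA0), Finset.sum_const, ← Nat.cast_smul_eq_nsmul k,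
          smul_smul, h3]
      rw [← hp]
      have hle : (⨆ χ : Fin 3 → Fin 3, wSpace A ω χ) ≤ (wSpace A ω fun _ => (0 : Fin 3)).comap (eProj 3 (A 0) ω 0) :=
        iSup_le fun χ w hw => by
          rw [Submodule.mem_comap]
          by_cases hw0 : w = 0
          · simp [hw0]
          have hpos : 0 < D χ := finrank_pos_of_ne_zero hw hw0
          have hcases : wSize χ = 0 ∨ wSize χ = 3 := by
            have := fle χ
            have h2' : wSize χ ≠ 2 := fun h => by rw [hno2 χ h] at hpos; omega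
            have h1' : wSize χ ≠ 1 := fun h => by rw [hno1 χ h] at hpos; omega
            omega
          rcases hcases with h | h
          · rw [mem_wSpace]
            intro i
            rw [eProj_commute (hAc 0 i), mem_wSpace.1 hw i, map_smul, f0 χ h i]
          · -- the component vanishes
            have hz : eProj 3 (A 0) ω 0 w = 0 := by
              have h2 := apply_eProj hω (hA3 0) 0 w
              rw [eProj_commute (fun _ => rfl), mem_wSpace.1 hw 0, map_smul, pow_zero, one_smul] at h2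
              have h4 : (ω ^ (χ 0 : ℕ) - 1) • eProj 3 (A 0) ω 0 w = 0 := by rw [sub_smul, one_smul, h2, sub_self]
              refine (smul_eq_zero.1 h4).resolve_left (sub_ne_zero.2 fun h' => f3 χ h 0 (Fin.ext ?_))
              exact hω.pow_inj (χ 0).2 (0 : Fin 3).2 (by rw [h', Fin.val_zero, pow_zero])
            rw [hz]; exact zero_mem _
      exact hle (hspan v)
    have hn8 : finrank k (wSpace A ω fun _ => (0 : Fin 3)) + 8 ≤ finrank k V := by
      have h1 := Finset.card_nsmul_le_sum _ D 1 hpos3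
      have h2 := sum_finrank_wSpace_le (k := k) hω A
        (insert (fun _ => (0 : Fin 3)) (Finset.univ.filter fun χ : Fin 3 → Fin 3 => wSize χ = 3)) ⊤ fun _ _ => le_top
      rw [finrank_top, Finset.sum_insert (by decide)] at h2
      rw [smul_eq_mul, mul_one, c3] at h1
      simp only [D] at h1
      omega
    -- all three-cycles are conjugate
    obtain ⟨a', b', c', p1, p2, p3, hs, -⟩ := exists_rep hc
    obtain ⟨d, hd⟩ : ∃ d : alternatingGroup (Fin r), (d : Perm (Fin r)).IsThreeCycle ∧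
        _root_.Disjoint (c : Perm (Fin r)).support (d : Perm (Fin r)).support := by
      obtain ⟨U, hU, hU3⟩ := Finset.exists_subset_card_eq
        (show 3 ≤ ((c : Perm (Fin r)).support)ᶜ.card by rw [Finset.card_compl, Fintype.card_fin, hc.card_support]; omega)
      obtain ⟨u, v, w, uv, uw, vw, rfl⟩ := Finset.card_eq_three.1 hU3
      obtain ⟨d, hd, hds, -⟩ := exists_c3 uv uw vw
      exact ⟨d, hd, by rw [hds]; exact disjoint_compl_right.mono_right hU⟩
    obtain ⟨g, hg1, -⟩ := conj_pair (by omega) hc hd.1 hd.2 (hT3 0) (hT3 1) (by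
      rw [altEmb_support, altEmb_support, Finset.disjoint_map]; decide)
    obtain ⟨x, hx⟩ := C.surj g
    have hle : (LinearMap.ker (gN π ρ c)).map (ρ x).toLinearMap ≤ LinearMap.ker (gN π ρ (T 0)) := by
      rintro _ ⟨v, hv, rfl⟩
      rw [SetLike.mem_coe, LinearMap.mem_ker, gN_apply, sub_eq_zero] at hv
      rw [LinearMap.mem_ker, gN_apply, sub_eq_zero, LinearEquiv.coe_coe, ← hg1, ← hx,
        ← C.conj_lift3 (pow_three_of_cyc hc), map_mul, map_mul, LinearEquiv.mul_apply, LinearEquiv.mul_apply,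
        ← LinearEquiv.mul_apply (ρ x⁻¹), ← map_mul, inv_mul_cancel, map_one]
      exact congrArg (ρ x) hv
    have h5 := ((LinearEquiv.finrank_map_eq (ρ x) _).ge.trans (Submodule.finrank_mono (hle.trans hfix)))
    omega

/-- Two disjoint five-cycles on ten points. -/
def tenT : Fin 2 → Perm (Fin 10) := ![c[(0 : Fin 10), 1, 2, 3, 4], c[(5 : Fin 10), 6, 7, 8, 9]]

/-- Elements normalising them. -/
def tenG : Fin 2 → Perm (Fin 10) :=
  ![c[(1 : Fin 10), 4] * c[(2 : Fin 10), 3], c[(0 : Fin 10), 5] * c[(1 : Fin 10), 6, 2, 7, 4, 9, 3, 8]]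

/-- The index part of the induced maps. -/
def tenTau : Fin 2 → Fin 2 → Fin 2 := ![![0, 1], ![1, 0]]

/-- The exponent part of the induced maps. -/
def tenExp : Fin 2 → Fin 2 → Fin 5 := ![![4, 1], ![3, 1]]

/-- The map on weights. -/
def tenAct (t : Fin 2) (χ : Fin 2 → Fin 5) : Fin 2 → Fin 5 := fun i => tenExp t i * χ (tenTau t i)

set_option maxRecDepth 100000 in
theorem tenT_mem : ∀ i, tenT i ∈ alternatingGroup (Fin 10) := by
  simp only [mem_alternatingGroup]; decide

set_option maxRecDepth 100000 in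
theorem tenG_mem : ∀ i, tenG i ∈ alternatingGroup (Fin 10) := by
  simp only [mem_alternatingGroup]; decide

set_option maxRecDepth 100000 in
theorem ten_rel : ∀ t i, (tenG t)⁻¹ * tenT i * tenG t = tenT (tenTau t i) ^ (tenExp t i : ℕ) := by
  decide

set_option maxRecDepth 100000 in
theorem tenT_pow : ∀ i, tenT i ^ 5 = 1 := by decide

set_option maxRecDepth 100000 in
theorem ten_comm : ∀ i i', tenT i * tenT i' = tenT i' * tenT i := by decide

/-- Representatives of the sizes. -/
def tenRep : ℕ → Fin 2 → Fin 5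
  | 0 => ![0, 0]
  | 1 => ![1, 0]
  | _ => ![1, 1]

/-- Words to the representative. -/
def tenTo : Fin 25 → List (Fin 2) :=
  ![[], [1, 0, 1, 1], [1], [1, 0], [1, 1, 1], [], [], [1], [1, 0], [0, 1, 1, 1, 1], [1, 1], [1, 0, 1, 1],
    [1, 1], [1, 0, 1], [1, 1, 1], [0, 1, 1], [0, 1, 0, 1, 1], [0, 1, 1], [0, 1, 0, 1], [0, 1, 1, 1], [0], [0],
    [0, 1], [0, 1, 0], [1, 1, 1, 1]]

/-- Words from the representative. -/
def tenFrom : Fin 25 → List (Fin 2) :=
  ![[], [1], [0, 1, 1, 1], [1, 1, 1], [0, 1], [], [], [0, 1, 0, 1, 1], [1, 0, 1, 1], [0, 1, 1, 1, 1], [0, 1, 1],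
    [1, 0], [0, 1, 0, 1], [0, 1, 1], [0, 1, 0], [1, 1], [1], [1, 0, 1], [1, 1], [0, 1], [0], [0], [0, 1, 1, 1],
    [1, 1, 1], [1, 1, 1, 1]]

/-- Code of a weight. -/
def tenCode (χ : Fin 2 → Fin 5) : Fin 25 := ⟨(χ 0 : ℕ) * 5 + (χ 1 : ℕ), by omega⟩

set_option maxRecDepth 100000 in
theorem ten_orbit : ∀ χ : Fin 2 → Fin 5,
    (tenTo (tenCode χ)).foldl (fun x t => tenAct t x) χ = tenRep (wSize χ) ∧
      (tenFrom (tenCode χ)).foldl (fun x t => tenAct t x) (tenRep (wSize χ)) = χ := by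
  decide

set_option maxRecDepth 100000 in
theorem ten_count : (Finset.univ.filter fun χ : Fin 2 → Fin 5 => wSize χ = 1).card = 8 ∧
    (Finset.univ.filter fun χ : Fin 2 → Fin 5 => wSize χ = 2).card = 16 ∧
    (∀ χ : Fin 2 → Fin 5, wSize χ ≤ 2) ∧
    (∀ χ : Fin 2 → Fin 5, wSize χ = 0 → χ 0 = 0) ∧
    (∀ χ : Fin 2 → Fin 5, wSize χ = 1 → χ 0 ≠ 0 → χ 1 = 0) ∧
    (Finset.univ.filter fun χ : Fin 2 → Fin 5 => wSize χ = 1 ∧ χ 0 ≠ 0).card = 4 := by
  decide

end Cfsg.Agent.AltDegree
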