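import Cfsg.Agent.Lib.AltDegree.Natural
import Cfsg.Agent.Lib.AltDegree.Three

/-!
A lifted three-cycle splits the space into layers carrying two copies of every non-trivial action of the
alternating group on the other points.
-/

set_option autoImplicit false

namespace Cfsg.Agent.AltDegree

open Equiv Equiv.Perm Module

variable {k V : Type*} [Field k] [AddCommGroup V] [Module k V] {r : ℕ}
  {G : Type*} [Group G] {π : G →* alternatingGroup (Fin r)} {ρ : G →* (V ≃ₗ[k] V)}

namespace Cover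

variable (C : Cover π ρ)

include C

theorem gN_comm {S : Finset (Fin r)} {c : alternatingGroup (Fin r)} (hc : (c : Perm (Fin r)).IsThreeCycle)
    (hd : _root_.Disjoint (c : Perm (Fin r)).support S) {g : G} (hg : g ∈ liftSub π S) (v : V) :
    gN π ρ c (ρ g v) = ρ g (gN π ρ c v) := by
  rw [gN_apply, gN_apply, map_sub, ← LinearEquiv.mul_apply, ← LinearEquiv.mul_apply, ← map_mul, ← map_mul,
    C.lift3_mem_center_of hc hd hg]

theorem lift3_cube_apply {c : alternatingGroup (Fin r)} (hc : (c : Perm (Fin r)).IsThreeCycle) (v : V) :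
    ρ (lift3 π c) (ρ (lift3 π c) (ρ (lift3 π c) v)) = v := by
  rw [← LinearEquiv.mul_apply, ← LinearEquiv.mul_apply, ← map_mul, ← map_mul, ← pow_two, ← pow_succ,
    C.lift3_pow (pow_three_of_cyc hc), map_one]
  rfl

theorem gN_cube (h3 : (3 : k) = 0) {c : alternatingGroup (Fin r)} (hc : (c : Perm (Fin r)).IsThreeCycle) (v : V) :
    gN π ρ c (gN π ρ c (gN π ρ c v)) = 0 := by
  have h := C.lift3_cube_apply hc v
  simp only [gN_apply, map_sub, h]
  have : (3 : k) • (ρ (lift3 π c) v - ρ (lift3 π c) (ρ (lift3 π c) v)) = 0 := by rw [h3, zero_smul]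
  rw [← this]
  module

theorem gN_ne_zero {c : alternatingGroup (Fin r)} (hc : (c : Perm (Fin r)).IsThreeCycle) : gN π ρ c ≠ 0 := by
  intro h
  have h1 : lift3 π c = 1 := C.inj (LinearEquiv.ext fun v => by
    have := LinearMap.congr_fun h v
    rw [gN_apply, LinearMap.zero_apply, sub_eq_zero] at this
    rw [this, map_one]; rfl)
  have h2 := C.π_lift3 (pow_three_of_cyc hc)
  rw [h1, map_one] at h2
  rw [← h2] at hc
  exact IsThreeCycle.ne_one hc (Subgroup.coe_one _) |>.elim

/-- In characteristic prime to three the moved space is two conjugate eigenspaces. -/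
theorem eigen_pair [IsAlgClosed k] [FiniteDimensional k V] (h3 : (3 : k) ≠ 0) {c : alternatingGroup (Fin r)}
    (hc : (c : Perm (Fin r)).IsThreeCycle) {S : Finset (Fin r)}
    (hd : _root_.Disjoint (c : Perm (Fin r)).support S) (hS : 2 ≤ S.card) :
    ∃ E E' : Submodule k V, (∀ g ∈ liftSub π S, ∀ w ∈ E, ρ g w ∈ E) ∧ (∀ g ∈ liftSub π S, ∀ w ∈ E', ρ g w ∈ E') ∧
      LinearMap.range (gN π ρ c) ≤ E ⊔ E' ∧ finrank k E = finrank k E' ∧
      finrank k E + finrank k E' ≤ finrank k (LinearMap.range (gN π ρ c)) := by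
  classical
  obtain ⟨ω, hω⟩ := exists_primitive_root (k := k) (m := 3) (by exact_mod_cast h3)
  have hm : ((3 : ℕ) : k) ≠ 0 := by exact_mod_cast h3
  set x := lift3 π c with hx
  let A : Fin 1 → Module.End k V := fun _ => (ρ x).toLinearMap
  have hA3 : ∀ i, A i ^ 3 = 1 := fun i => LinearMap.ext fun v => by
    rw [pow_succ, pow_two, Module.End.mul_apply, Module.End.mul_apply]
    exact C.lift3_cube_apply hc v
  have hspan : ∀ v, v ∈ ⨆ χ : Fin 1 → Fin 3, wSpace A ω χ := mem_iSup_wSpace hω hm A hA3 fun i i' v => rfl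
  have hinv : ∀ a : Fin 3, ∀ g ∈ liftSub π S, ∀ w ∈ wSpace A ω (fun _ => a), ρ g w ∈ wSpace A ω (fun _ => a) := by
    intro a g hg w hw
    rw [mem_wSpace] at hw ⊢
    intro i
    show ρ x (ρ g w) = _
    rw [← LinearEquiv.mul_apply, ← map_mul, ← C.lift3_mem_center_of hc hd hg, map_mul, LinearEquiv.mul_apply,
      show ρ x w = (ω ^ (a : ℕ)) • w from hw i, map_smul]
  -- an element inverting `c`
  obtain ⟨a1, a2, a3, q1, q2, q3, hs, e1, e2, e3⟩ := exists_rep hc
  obtain ⟨s, hsS, t, htS, hst⟩ := Finset.one_lt_card.1 hS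
  have hout : ∀ y ∈ S, y ≠ a1 ∧ y ≠ a2 ∧ y ≠ a3 := by
    intro y hy
    have := Finset.disjoint_right.1 hd hy
    rw [hs] at this
    simpa using this
  have hgmem : swap a1 a2 * swap s t ∈ alternatingGroup (Fin r) := by
    rw [mem_alternatingGroup, map_mul, sign_swap q1, sign_swap hst]; decide
  obtain ⟨g, hg⟩ := C.surj ⟨_, hgmem⟩
  have hinvc : π g * c * (π g)⁻¹ = c * c := by
    rw [hg]
    apply Subtype.ext
    refine ext_triple (a := a1) (b := a2) (c := a3) ?_ ?_ ?_ ?_ ?_
    · rw [Subgroup.coe_mul, Subgroup.coe_mul, Subgroup.coe_inv, Equiv.Perm.support_conj, hs]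
      simp [Finset.map_insert, swap_apply_of_ne_of_ne (hout s hsS).1.symm (hout t htS).1.symm,
        swap_apply_of_ne_of_ne (hout s hsS).2.1.symm (hout t htS).2.1.symm,
        swap_apply_of_ne_of_ne (hout s hsS).2.2.symm (hout t htS).2.2.symm,
        swap_apply_of_ne_of_ne q2.symm q3.symm, Finset.insert_subset_iff]
    · refine ((Equiv.Perm.support_mul_le _ _).trans ?_)
      rw [hs]; simp
    all_goals
      rw [Subgroup.coe_mul, Subgroup.coe_mul, Subgroup.coe_inv, Subgroup.coe_mul, _root_.mul_inv_rev, swap_inv,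
        swap_inv]
      simp [Equiv.Perm.mul_apply, swap_apply_of_ne_of_ne (hout s hsS).1.symm (hout t htS).1.symm,
        swap_apply_of_ne_of_ne (hout s hsS).2.1.symm (hout t htS).2.1.symm,
        swap_apply_of_ne_of_ne (hout s hsS).2.2.symm (hout t htS).2.2.symm,
        swap_apply_of_ne_of_ne q2.symm q3.symm, e1, e2, e3]
  have hgx : g * x * g⁻¹ = x * x := by
    rw [hx, C.conj_lift3 (pow_three_of_cyc hc), hinvc]
    refine (C.eq_lift3 ?_ ?_ ?_).symm
    · rw [← pow_two, ← pow_mul, mul_comm, pow_mul, pow_three_of_cyc hc, one_pow]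
    · rw [map_mul, C.π_lift3 (pow_three_of_cyc hc)]
    · rw [← pow_two, ← pow_mul, mul_comm, pow_mul, C.lift3_pow (pow_three_of_cyc hc), one_pow]
  have hdim : ∀ a b : Fin 3, a + a = b → finrank k (wSpace A ω fun _ => b) ≤ finrank k (wSpace A ω fun _ => a) := by
    intro a b hab
    have key := finrank_wSpace_map (A := A) (ω := ω) (χ := fun _ => b) (χ' := fun _ => a) (g := ρ g) fun i v hv => by
      have h2 : ρ g (ρ x v) = ρ x (ρ x (ρ g v)) := by
        rw [← LinearEquiv.mul_apply, ← LinearEquiv.mul_apply, ← LinearEquiv.mul_apply, ← map_mul, ← map_mul, ← map_mul,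
          ← hgx, inv_mul_cancel_right]
      rw [mem_wSpace] at hv
      rw [show ρ x v = (ω ^ (b : ℕ)) • v from hv i, map_smul] at h2
      have h3 := congrArg (ρ x) h2
      rw [map_smul, C.lift3_cube_apply hc] at h3
      show ρ x (ρ g v) = _
      have hpow : (ω ^ (a : ℕ)) * (ω ^ (b : ℕ)) = 1 := by
        rw [← pow_add, ← hab]
        exact (hω.pow_eq_one_iff_dvd _).2 (by
          fin_cases a <;> decide)
      calc ρ x (ρ g v) = ((ω ^ (a : ℕ)) * (ω ^ (b : ℕ))) • ρ x (ρ g v) := by rw [hpow, one_smul]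
        _ = (ω ^ (a : ℕ)) • ρ g v := by rw [mul_smul, h3]
    exact key
  have hEr : ∀ a : Fin 3, a ≠ 0 → wSpace A ω (fun _ => a) ≤ LinearMap.range (gN π ρ c) := by
    intro a ha w hw
    have h1 : ρ x w = (ω ^ (a : ℕ)) • w := mem_wSpace.1 hw 0
    have hne : ω ^ (a : ℕ) - 1 ≠ 0 := sub_ne_zero.2 fun h =>
      ha (Fin.ext (hω.pow_inj a.2 (0 : Fin 3).2 (by rw [h, Fin.val_zero, pow_zero])))
    refine ⟨(ω ^ (a : ℕ) - 1)⁻¹ • w, ?_⟩
    rw [map_smul, gN_apply, ← hx, h1]
    nth_rw 2 [← one_smul k w]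
    rw [← sub_smul, smul_smul, inv_mul_cancel₀ hne, one_smul]
  refine ⟨wSpace A ω fun _ => (1 : Fin 3), wSpace A ω fun _ => (2 : Fin 3), hinv 1, hinv 2, ?_,
    le_antisymm (hdim 2 1 rfl) (hdim 1 2 rfl), ?_⟩
  · rintro _ ⟨v, rfl⟩
    have hle : (⨆ χ : Fin 1 → Fin 3, wSpace A ω χ) ≤
        (wSpace A ω (fun _ => (1 : Fin 3)) ⊔ wSpace A ω (fun _ => (2 : Fin 3))).comap (gN π ρ c) := by
      refine iSup_le fun χ w hw => ?_
      have h1 : ρ x w = (ω ^ (χ 0 : ℕ)) • w := mem_wSpace.1 hw 0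
      rw [Submodule.mem_comap, gN_apply, ← hx, h1]
      nth_rw 2 [← one_smul k w]
      rw [← sub_smul]
      rcases (show χ 0 = 0 ∨ χ 0 = 1 ∨ χ 0 = 2 by omega) with h | h | h
      · simp [h]
      · refine Submodule.smul_mem _ _ (Submodule.mem_sup_left ?_)
        rwa [show (fun _ => (1 : Fin 3)) = χ from funext fun i => by rw [Subsingleton.elim i 0, h]]
      · refine Submodule.smul_mem _ _ (Submodule.mem_sup_right ?_)
        rwa [show (fun _ => (2 : Fin 3)) = χ from funext fun i => by rw [Subsingleton.elim i 0, h]]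
    exact hle (hspan v)
  · have h := sum_finrank_wSpace_le (k := k) hω A {(fun _ => (1 : Fin 3)), fun _ => 2}
      (LinearMap.range (gN π ρ c)) (by
        intro χ hχ
        simp only [Finset.mem_insert, Finset.mem_singleton] at hχ
        rcases hχ with rfl | rfl <;> exact hEr _ (by decide))
    rwa [Finset.sum_pair (fun h => by simpa using congrFun h 0)] at h

/-- Trivial action on the two layers gives trivial action on the moved space. -/
theorem trivial_range (h3 : (3 : k) = 0) {c : alternatingGroup (Fin r)} (hc : (c : Perm (Fin r)).IsThreeCycle)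
    {S : Finset (Fin r)} (hd : _root_.Disjoint (c : Perm (Fin r)).support S) (hS : 5 ≤ S.card)
    (hI : ∀ g ∈ liftSub π S, ∀ w ∈ LinearMap.range (gN π ρ c) ⊓ LinearMap.ker (gN π ρ c), ρ g w = w)
    (hR2 : ∀ g ∈ liftSub π S, ∀ w ∈ LinearMap.range (gN π ρ c * gN π ρ c), ρ g w = w) :
    ∀ g ∈ liftSub π S, ∀ w ∈ LinearMap.range (gN π ρ c), ρ g w = w := by
  have hWinv : ∀ g ∈ liftSub π S, ∀ w ∈ LinearMap.range (gN π ρ c), ρ g w ∈ LinearMap.range (gN π ρ c) := by
    rintro g hg _ ⟨u, rfl⟩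
    exact ⟨ρ g u, C.gN_comm hc hd hg u⟩
  have hdiff : ∀ g ∈ liftSub π S, ∀ w ∈ LinearMap.range (gN π ρ c),
      ρ g w - w ∈ LinearMap.range (gN π ρ c) ⊓ LinearMap.ker (gN π ρ c) := by
    intro g hg w hw
    refine ⟨Submodule.sub_mem _ (hWinv g hg w hw) hw, ?_⟩
    obtain ⟨u, rfl⟩ := hw
    rw [SetLike.mem_coe, LinearMap.mem_ker, map_sub, C.gN_comm hc hd hg]
    exact sub_eq_zero.2 (hR2 g hg _ ⟨u, rfl⟩)
  refine C.trivial_of_comm hS hWinv fun g hg h hh w hw => ?_
  have hadd : ∀ g ∈ liftSub π S, ∀ h ∈ liftSub π S, ρ g (ρ h w) = w + (ρ g w - w) + (ρ h w - w) := by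
    intro g hg h hh
    have h1 := hI g hg _ (hdiff h hh w hw)
    rw [map_sub, sub_eq_iff_eq_add] at h1
    rw [h1]
    abel
  rw [hadd g hg h hh, hadd h hh g hg]
  abel

theorem layer_bound [FiniteDimensional k V] (h3 : (3 : k) = 0) {c : alternatingGroup (Fin r)}
    (hc : (c : Perm (Fin r)).IsThreeCycle) :
    2 * finrank k ↥(LinearMap.range (gN π ρ c) ⊓ LinearMap.ker (gN π ρ c)) +
        finrank k (LinearMap.range (gN π ρ c * gN π ρ c)) ≤ finrank k V ∧
      finrank k (LinearMap.range (gN π ρ c * gN π ρ c)) ≤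
        finrank k ↥(LinearMap.range (gN π ρ c) ⊓ LinearMap.ker (gN π ρ c)) ∧
      finrank k (LinearMap.range (gN π ρ c)) = finrank k ↥(LinearMap.range (gN π ρ c) ⊓ LinearMap.ker (gN π ρ c)) +
        finrank k (LinearMap.range (gN π ρ c * gN π ρ c)) := by
  set N := gN π ρ c
  have h1 := LinearMap.finrank_range_add_finrank_ker N
  have h2 : finrank k ↥(LinearMap.range N ⊓ LinearMap.ker N) ≤ finrank k (LinearMap.ker N) :=
    Submodule.finrank_mono inf_le_right
  have h4 : finrank k (LinearMap.range N) = finrank k ↥(LinearMap.range N ⊓ LinearMap.ker N) +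
      finrank k (LinearMap.range (N * N)) := by
    have h := LinearMap.finrank_range_add_finrank_ker (N.domRestrict (LinearMap.range N))
    have e1 : LinearMap.range (N.domRestrict (LinearMap.range N)) = LinearMap.range (N * N) := by
      rw [LinearMap.range_domRestrict, Module.End.mul_eq_comp, LinearMap.range_comp]
    have e2 : finrank k (LinearMap.ker (N.domRestrict (LinearMap.range N))) =
        finrank k ↥(LinearMap.range N ⊓ LinearMap.ker N) := by
      rw [LinearMap.ker_domRestrict]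
      rw [← Submodule.map_comap_subtype]
      exact (Submodule.equivMapOfInjective _ (LinearMap.range N).injective_subtype _).finrank_eq
    rw [e1, e2] at h
    omega
  refine ⟨by omega, Submodule.finrank_mono ?_, h4⟩
  rintro _ ⟨u, rfl⟩
  exact ⟨⟨N u, rfl⟩, C.gN_cube h3 hc u⟩

/-- Two copies do not fit. -/
theorem coverTriv_of_small [IsAlgClosed k] [FiniteDimensional k V] (hr : 9 ≤ r) {δ : ℕ}
    (hδ : ∀ S : Finset (Fin r), S.card + 3 = r → ∀ W : Submodule k V,
      (∀ g ∈ liftSub π S, ∀ w ∈ W, ρ g w ∈ W) → finrank k W < δ → ∀ g ∈ liftSub π S, ∀ w ∈ W, ρ g w = w)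
    (hn : finrank k V < 2 * δ) : CoverTriv π ρ := by
  intro c d hc hd hcd v
  set S := (c : Perm (Fin r)).supportᶜ with hS
  have hScard : S.card + 3 = r := by rw [hS, Finset.card_compl, Fintype.card_fin, hc.card_support]; omega
  have hdis : _root_.Disjoint (c : Perm (Fin r)).support S := disjoint_compl_right
  have hdS : lift3 π d ∈ liftSub π S := Subgroup.subset_closure
    ⟨d, ⟨hd, fun x hx => Finset.mem_compl.2 fun h => Finset.disjoint_left.1 hcd h hx⟩, rfl⟩
  suffices ∀ g ∈ liftSub π S, ∀ w ∈ LinearMap.range (gN π ρ c), ρ g w = w from this _ hdS _ ⟨v, rfl⟩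
  by_cases h3 : (3 : k) = 0
  · obtain ⟨b1, b2, -⟩ := C.layer_bound (ρ := ρ) h3 hc
    refine C.trivial_range h3 hc hdis (by omega) (hδ S hScard _ ?_ (by omega)) (hδ S hScard _ ?_ (by omega))
    · rintro g hg w ⟨⟨u, rfl⟩, hw⟩
      refine ⟨⟨ρ g u, C.gN_comm hc hdis hg u⟩, ?_⟩
      rw [SetLike.mem_coe, LinearMap.mem_ker, C.gN_comm hc hdis hg, LinearMap.mem_ker.1 hw, map_zero]
    · rintro g hg _ ⟨u, rfl⟩
      refine ⟨ρ g u, ?_⟩
      rw [Module.End.mul_apply, Module.End.mul_apply, C.gN_comm hc hdis hg, C.gN_comm hc hdis hg]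
  · obtain ⟨E, E', hE, hE', hle, heq, hsum⟩ := C.eigen_pair h3 hc hdis (by omega)
    have hb := Submodule.finrank_le (LinearMap.range (gN π ρ c))
    intro g hg w hw
    obtain ⟨y, hy, z, hz, rfl⟩ := Submodule.mem_sup.1 (hle hw)
    rw [map_add, hδ S hScard E hE (by omega) g hg y hy, hδ S hScard E' hE' (by omega) g hg z hz]

end Cover

end Cfsg.Agent.AltDegree

namespace Cfsg.Agent.AltDegree

open Equiv Equiv.Perm Module

variable {k V : Type*} [Field k] [AddCommGroup V] [Module k V] {r : ℕ}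
  {G : Type*} [Group G] {π : G →* alternatingGroup (Fin r)} {ρ : G →* (V ≃ₗ[k] V)}

/-- The fixed spaces of all lifted three-cycles have the same dimension. -/
theorem Cover.finrank_ker_conj [FiniteDimensional k V] (C : Cover π ρ) (hr : 8 ≤ r)
    {c c' : alternatingGroup (Fin r)} (hc : (c : Perm (Fin r)).IsThreeCycle) (hc' : (c' : Perm (Fin r)).IsThreeCycle) :
    finrank k (LinearMap.ker (gN π ρ c')) ≤ finrank k (LinearMap.ker (gN π ρ c)) := by
  have hex : ∀ x : alternatingGroup (Fin r), (x : Perm (Fin r)).IsThreeCycle → ∃ d : alternatingGroup (Fin r),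
      (d : Perm (Fin r)).IsThreeCycle ∧ _root_.Disjoint (x : Perm (Fin r)).support (d : Perm (Fin r)).support := by
    intro x hx
    obtain ⟨U, hU, hU3⟩ := Finset.exists_subset_card_eq
      (show 3 ≤ ((x : Perm (Fin r)).support)ᶜ.card by rw [Finset.card_compl, Fintype.card_fin, hx.card_support]; omega)
    obtain ⟨u, v, w, uv, uw, vw, rfl⟩ := Finset.card_eq_three.1 hU3
    obtain ⟨d, hd, hds, -⟩ := exists_c3 uv uw vw
    exact ⟨d, hd, by rw [hds]; exact disjoint_compl_right.mono_right hU⟩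
  obtain ⟨d, hd, hcd⟩ := hex c hc
  obtain ⟨d', hd', hcd'⟩ := hex c' hc'
  obtain ⟨g, hg1, -⟩ := conj_pair hr hc' hd' hcd' hc hd hcd
  obtain ⟨x, hx⟩ := C.surj g
  refine (LinearEquiv.finrank_map_eq (ρ x) _).ge.trans (Submodule.finrank_mono ?_)
  rintro _ ⟨v, hv, rfl⟩
  rw [SetLike.mem_coe, LinearMap.mem_ker, gN_apply, sub_eq_zero] at hv
  rw [LinearMap.mem_ker, gN_apply, sub_eq_zero, LinearEquiv.coe_coe, ← hg1, ← hx,
    ← C.conj_lift3 (pow_three_of_cyc hc'), map_mul, map_mul, LinearEquiv.mul_apply, LinearEquiv.mul_apply,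
    ← LinearEquiv.mul_apply (ρ x⁻¹), ← map_mul, inv_mul_cancel, map_one]
  exact congrArg (ρ x) hv

end Cfsg.Agent.AltDegree
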