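import Cfsg.Agent.Lib.AltDegree.Three

/-!
In characteristic three the lifted alternating group on seven letters has no non-trivial action of degree below four.
-/

set_option autoImplicit false

namespace Cfsg.Agent.AltDegree

open Equiv Equiv.Perm Module

/-- A four-group on four of seven points. -/
def sevT : Fin 3 → Perm (Fin 7) :=
  ![c[(0 : Fin 7), 1] * c[(2 : Fin 7), 3], c[(1 : Fin 7), 2] * c[(0 : Fin 7), 3],
    c[(0 : Fin 7), 2] * c[(1 : Fin 7), 3]]

/-- A three-cycle normalising it. -/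
def sevX : Perm (Fin 7) := c[(0 : Fin 7), 1, 2]

/-- A three-cycle centralising it. -/
def sevY : Perm (Fin 7) := c[(4 : Fin 7), 5, 6]

theorem sev_facts : (∀ i, sevT i ∈ alternatingGroup (Fin 7)) ∧ sevX ∈ alternatingGroup (Fin 7) ∧
    sevY ∈ alternatingGroup (Fin 7) ∧ sevX.IsThreeCycle ∧ sevY.IsThreeCycle ∧
    (∀ i, sevT i * sevT i = 1) ∧ sevT 0 * sevT 1 = sevT 1 * sevT 0 ∧ sevT 0 * sevT 1 = sevT 2 ∧
    (∀ i, sevX * sevT i * sevX⁻¹ = sevT (i + 1)) ∧ (∀ i, sevT i * sevY = sevY * sevT i) ∧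
    sevX * sevY = sevY * sevX ∧ sevT 0 * sevX ≠ sevX * sevT 0 := by
  simp only [mem_alternatingGroup, ← card_support_eq_three_iff]
  decide

/-- The weights cycle. -/
def sevNext (χ : Fin 2 → Fin 2) : Fin 2 → Fin 2 := ![χ 0 + χ 1, χ 0]

theorem sevNext_facts : ∀ χ : Fin 2 → Fin 2, χ 0 ≠ 0 →
    ({fun _ => (0 : Fin 2), χ, sevNext χ, sevNext (sevNext χ)} : Finset (Fin 2 → Fin 2)).card = 4 := by
  decide

variable {k V : Type*} [Field k] [AddCommGroup V] [Module k V] {r : ℕ}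
  {G : Type*} [Group G] {π : G →* alternatingGroup (Fin r)} {ρ : G →* (V ≃ₗ[k] V)}

theorem Cover.trivial_of_small_three [FiniteDimensional k V] (C : Cover π ρ) (h3 : (3 : k) = 0)
    {S : Finset (Fin r)} (hS : 7 ≤ S.card) {W : Submodule k V}
    (hW : ∀ g ∈ liftSub π S, ∀ w ∈ W, ρ g w ∈ W) (hdim : finrank k W ≤ 3) :
    ∀ g ∈ liftSub π S, ∀ w ∈ W, ρ g w = w := by
  classical
  have h2 : (2 : k) ≠ 0 := fun h => one_ne_zero (α := k) (by linear_combination h3 - h)
  obtain ⟨e, he⟩ : ∃ e : Fin 7 ↪ Fin r, ∀ i, e i ∈ S := by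
    obtain ⟨T, hT, hT7⟩ := Finset.exists_subset_card_eq hS
    exact ⟨(T.orderEmbOfFin hT7).toEmbedding, fun i => hT (T.orderEmbOfFin_mem hT7 i)⟩
  obtain ⟨mT, mX, mY, fX, fY, f1, f2, f3, f4, f5, f6, f7⟩ := sev_facts
  choose a haS haπ using fun i => C.exists_in_liftSub e he ⟨sevT i, mT i⟩
  set σx := altEmb e ⟨sevX, mX⟩ with hσx
  set σy := altEmb e ⟨sevY, mY⟩ with hσy
  have hx3 : σx ^ 3 = 1 := pow_three_of_cyc (altEmb_isThreeCycle e fX)
  have hy3 : σy ^ 3 = 1 := pow_three_of_cyc (altEmb_isThreeCycle e fY)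
  have hsub : ∀ x : alternatingGroup (Fin 7), (altEmb e x : Perm (Fin r)).support ⊆ S := fun x => by
    rw [altEmb_support]
    intro i hi
    obtain ⟨j, -, rfl⟩ := Finset.mem_map.1 hi
    exact he j
  set x := lift3 π σx with hx
  set y := lift3 π σy with hy
  have hxS : x ∈ liftSub π S := Subgroup.subset_closure ⟨_, ⟨altEmb_isThreeCycle e fX, hsub _⟩, rfl⟩
  have hyS : y ∈ liftSub π S := Subgroup.subset_closure ⟨_, ⟨altEmb_isThreeCycle e fY, hsub _⟩, rfl⟩
  have hyx : y * x = x * y := C.lift3_commute hy3 hx3 (by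
    rw [hσy, hσx, ← map_mul, ← map_mul]
    exact congrArg (altEmb e) (Subtype.ext f6.symm))
  have hya : ∀ i, a i * y = y * a i := fun i => by
    have := C.conj_lift3 hy3 (a i)
    rw [haπ, hσy, ← map_inv, ← map_mul, ← map_mul, show (⟨sevT i, mT i⟩ : alternatingGroup (Fin 7)) * ⟨sevY, mY⟩ *
      ⟨sevT i, mT i⟩⁻¹ = ⟨sevY, mY⟩ from Subtype.ext (by
        show sevT i * sevY * (sevT i)⁻¹ = sevY
        rw [f5, mul_inv_cancel_right]), mul_inv_eq_iff_eq_mul] at this
    exact this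
  -- if `y` acts trivially, everything does
  by_cases hyT : ∀ w ∈ W, ρ y w = w
  · refine C.trivial_of_kernel (by omega) hW hyS hyT ?_
    rw [C.π_lift3 hy3]
    intro h
    have := congrArg (fun q : alternatingGroup (Fin 7) => (q : Perm (Fin 7)) 4)
      (altEmb_injective e (h.trans (map_one _).symm))
    exact absurd (show sevY 4 = 4 from this) (by decide)
  exfalso
  have hN : ∀ g ∈ liftSub π S, g * y = y * g → ∀ w, gN π ρ σy (ρ g w) = ρ g (gN π ρ σy w) := by
    intro g _ hg w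
    rw [gN_apply, gN_apply, map_sub, ← hy, ← LinearEquiv.mul_apply, ← LinearEquiv.mul_apply, ← map_mul, ← map_mul, hg]
  -- an invariant line
  set N : W →ₗ[k] W := (gN π ρ σy).restrict fun w hw => W.sub_mem (hW y hyS w hw) hw with hNdef
  have hN0 : 0 < finrank k (LinearMap.range N) := by
    rw [Module.finrank_pos_iff]
    by_contra h
    rw [not_nontrivial_iff_subsingleton] at h
    refine hyT fun w hw => ?_
    have h0 : N ⟨w, hw⟩ = 0 := congrArg Subtype.val
      (Subsingleton.elim (⟨_, ⟨w, hw⟩, rfl⟩ : LinearMap.range N) ⟨0, zero_mem _⟩)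
    have h1 : gN π ρ σy w = 0 := congrArg Subtype.val h0
    rw [gN_apply, sub_eq_zero] at h1
    exact h1
  have hN3 : ∀ v, gN π ρ σy (gN π ρ σy (gN π ρ σy v)) = 0 := fun v => by
    have h : ρ y (ρ y (ρ y v)) = v := by
      rw [← LinearEquiv.mul_apply, ← LinearEquiv.mul_apply, ← map_mul, ← map_mul, ← pow_two, ← pow_succ,
        C.lift3_pow hy3, map_one]
      rfl
    simp only [gN_apply, map_sub, ← hy, h]
    have : (3 : k) • (ρ y v - ρ y (ρ y v)) = 0 := by rw [h3, zero_smul]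
    rw [← this]
    module
  have hkerne : 0 < finrank k (LinearMap.ker N) := by
    by_contra h
    have hinj : Function.Injective N := LinearMap.ker_eq_bot.1 (Submodule.finrank_eq_zero.1 (by omega))
    obtain ⟨u, hu⟩ : ∃ u : W, u ≠ 0 := by
      by_contra hall
      push Not at hall
      exact hyT fun w hw => by
        have := congrArg Subtype.val (hall ⟨w, hw⟩)
        simp only [ZeroMemClass.coe_zero] at this
        rw [this, map_zero]
    refine hu (hinj (hinj (hinj (Subtype.ext ?_))))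
    simp only [map_zero]
    exact hN3 u
  have hrk := LinearMap.finrank_range_add_finrank_ker N
  obtain ⟨L, hL1, hLW, hLinv⟩ : ∃ L : Submodule k V, finrank k L = 1 ∧ L ≤ W ∧
      ∀ g ∈ liftSub π S, g * y = y * g → ∀ v ∈ L, ρ g v ∈ L := by
    by_cases h1 : finrank k (LinearMap.range N) = 1
    · refine ⟨(LinearMap.range N).map W.subtype, by
        rw [← h1]; exact (Submodule.equivMapOfInjective _ W.injective_subtype _).finrank_eq.symm,
        Submodule.map_subtype_le _ _, fun g hg hgy v hv => ?_⟩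
      obtain ⟨_, ⟨u, rfl⟩, rfl⟩ := hv
      exact ⟨_, ⟨⟨ρ g u, hW g hg u u.2⟩, rfl⟩, hN g hg hgy u⟩
    · refine ⟨(LinearMap.ker N).map W.subtype, by
        rw [← (Submodule.equivMapOfInjective _ W.injective_subtype _).finrank_eq]; omega,
        Submodule.map_subtype_le _ _, fun g hg hgy v hv => ?_⟩
      obtain ⟨u, hu, rfl⟩ := hv
      refine ⟨⟨ρ g u, hW g hg u u.2⟩, Subtype.ext ?_, rfl⟩
      have h0 : gN π ρ σy (u : V) = 0 := congrArg Subtype.val hu
      show gN π ρ σy (ρ g u) = 0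
      rw [hN g hg hgy, h0, map_zero]
  obtain ⟨v₀, hv₀, hv₀0⟩ : ∃ v ∈ L, v ≠ 0 := Submodule.exists_mem_ne_zero_of_ne_bot fun h => by
    rw [h, finrank_bot] at hL1; omega
  have hsc : ∀ g ∈ liftSub π S, g * y = y * g → ∃ t : k, t ≠ 0 ∧ ρ g v₀ = t • v₀ := fun g hg hgy => by
    obtain ⟨t, ht⟩ := exists_smul_eq_of_finrank_eq_one hL1 (x := (⟨v₀, hv₀⟩ : L))
      (fun h => hv₀0 (congrArg Subtype.val h)) ⟨_, hLinv g hg hgy v₀ hv₀⟩
    have ht' : t • v₀ = ρ g v₀ := congrArg Subtype.val ht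
    refine ⟨t, fun h => ?_, ht'.symm⟩
    rw [h, zero_smul] at ht'
    exact hv₀0 ((ρ g).injective (by rw [← ht', map_zero]))
  choose l hl0 hl using fun i => hsc (a i) (haS i) (hya i)
  obtain ⟨μ, hμ0, hμ⟩ := hsc x hxS hyx.symm
  -- kernel elements are read off the line
  have hker : ∀ g, π g = 1 → ∀ t : k, ρ g v₀ = t • v₀ → ∀ v, ρ g v = t • v := fun g hg t ht v => by
    obtain ⟨s, -, hs⟩ := C.scalar hg
    rw [hs] at ht ⊢
    rw [smul_left_injective k hv₀0 ht]
  have hmT : ∀ i j, π (a i * a j) = altEmb e (⟨sevT i, mT i⟩ * ⟨sevT j, mT j⟩) := fun i j => by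
    rw [map_mul, haπ, haπ, map_mul]
  let A : Fin 2 → Module.End k W := fun i =>
    (l i.castSucc)⁻¹ • ((ρ (a i.castSucc)).toLinearMap.restrict (fun w hw => hW _ (haS _) w hw))
  have hA : ∀ i (w : W), (A i w : V) = (l i.castSucc)⁻¹ • ρ (a i.castSucc) w := fun i w => rfl
  have hsq : ∀ i, ∀ v, ρ (a i) (ρ (a i) v) = (l i * l i) • v := fun i v => by
    rw [← LinearEquiv.mul_apply, ← map_mul]
    refine hker _ (by rw [hmT, show (⟨sevT i, mT i⟩ : alternatingGroup (Fin 7)) * ⟨sevT i, mT i⟩ = 1 from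
      Subtype.ext (f1 i), map_one]) _ ?_ v
    rw [map_mul, LinearEquiv.mul_apply, hl, map_smul, hl, smul_smul]
  have hA2 : ∀ i, A i ^ 2 = 1 := fun i => LinearMap.ext fun w => Subtype.ext <| by
    rw [pow_two, Module.End.mul_apply, hA, hA, map_smul, hsq, smul_smul, smul_smul, Module.End.one_apply]
    have := hl0 i.castSucc
    rw [show (l i.castSucc)⁻¹ * (l i.castSucc)⁻¹ * (l i.castSucc * l i.castSucc) = 1 by field_simp, one_smul]
  have hpair : ∀ v, ρ (a 0) (ρ (a 1) v) = ρ (a 1) (ρ (a 0) v) := fun v => by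
    have hk : π (a 0 * a 1 * (a 1 * a 0)⁻¹) = 1 := by
      rw [map_mul, map_inv, hmT, hmT, show (⟨sevT 0, mT 0⟩ : alternatingGroup (Fin 7)) * ⟨sevT 1, mT 1⟩ =
        ⟨sevT 1, mT 1⟩ * ⟨sevT 0, mT 0⟩ from Subtype.ext f2, mul_inv_cancel]
    obtain ⟨s, -, hs⟩ := C.scalar hk
    have hh : ∀ u, ρ (a 0) (ρ (a 1) u) = s • ρ (a 1) (ρ (a 0) u) := fun u => by
      rw [← LinearEquiv.mul_apply, ← LinearEquiv.mul_apply, ← map_mul, ← map_mul, ← hs, ← LinearEquiv.mul_apply,
        ← map_mul, inv_mul_cancel_right]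
    have h0 := hh v₀
    rw [hl, hl, map_smul, map_smul, hl, hl, smul_smul, smul_smul, smul_smul] at h0
    have hs1 : s = 1 := by
      have := smul_left_injective k hv₀0 h0
      have h10 := hl0 0; have h11 := hl0 1
      exact mul_right_cancel₀ (mul_ne_zero h10 h11) (by linear_combination -this)
    rw [hh, hs1, one_smul]
  have hAc : ∀ i i' w, A i (A i' w) = A i' (A i w) := fun i i' w => Subtype.ext <| by
    rw [hA, hA, hA, hA, map_smul, map_smul, smul_comm]
    fin_cases i <;> fin_cases i'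
    · rfl
    · exact congrArg _ (congrArg _ (hpair w))
    · exact congrArg _ (congrArg _ (hpair w).symm)
    · rfl
  have hω : IsPrimitiveRoot (-1 : k) 2 := IsPrimitiveRoot.iff (by norm_num) |>.2
    ⟨by ring, fun l hl0 hl2 => by
      interval_cases l
      rw [pow_one]
      exact fun h => h2 (by linear_combination -h)⟩
  have hm : ((2 : ℕ) : k) ≠ 0 := by exact_mod_cast h2
  -- the three-cycle carries the operators around
  have hcyc : ∀ i j : Fin 3, i + 1 = j → ∀ v, (l j)⁻¹ • ρ (a j) (ρ x v) = (l i)⁻¹ • ρ x (ρ (a i) v) := by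
    intro i j hij v
    subst hij
    have hk : π (x * a i * x⁻¹ * (a (i + 1))⁻¹) = 1 := by
      rw [map_mul, map_mul, map_mul, map_inv, map_inv, C.π_lift3 hx3, haπ, haπ, hσx, ← map_inv, ← map_inv,
        ← map_mul, ← map_mul, ← map_mul]
      refine (congrArg (altEmb e) (?_ : _ = (1 : alternatingGroup (Fin 7)))).trans (map_one _)
      refine Subtype.ext ?_
      show sevX * sevT i * sevX⁻¹ * (sevT (i + 1))⁻¹ = 1
      rw [f4, mul_inv_cancel]
    obtain ⟨s, hs2, hs⟩ := C.scalar hk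
    have hh : ∀ u, ρ x (ρ (a i) u) = s • ρ (a (i + 1)) (ρ x u) := fun u => by
      rw [← hs, ← LinearEquiv.mul_apply, ← LinearEquiv.mul_apply, ← map_mul, ← map_mul, ← LinearEquiv.mul_apply,
        ← map_mul, inv_mul_cancel_right, inv_mul_cancel_right]
    have h0 := hh v₀
    rw [hl, map_smul, hμ, map_smul, hl, smul_smul, smul_smul, smul_smul] at h0
    have h9 : l i = s * l (i + 1) := mul_right_cancel₀ hμ0 (by linear_combination smul_left_injective k hv₀0 h0)
    rw [hh, smul_smul, h9]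
    congr 1
    have := hl0 (i + 1)
    have hs0 : s ≠ 0 := fun h => by simp [h] at hs2
    field_simp
  have hprod : ∀ v, (l 2)⁻¹ • ρ (a 2) v = ((l 0)⁻¹ * (l 1)⁻¹) • ρ (a 0) (ρ (a 1) v) := fun v => by
    have hk : π (a 0 * a 1 * (a 2)⁻¹) = 1 := by
      rw [map_mul, map_inv, hmT, haπ, show (⟨sevT 0, mT 0⟩ : alternatingGroup (Fin 7)) * ⟨sevT 1, mT 1⟩ =
        ⟨sevT 2, mT 2⟩ from Subtype.ext f3, mul_inv_cancel]
    obtain ⟨s, -, hs⟩ := C.scalar hk
    have hh : ∀ u, ρ (a 0) (ρ (a 1) u) = s • ρ (a 2) u := fun u => by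
      rw [← hs, ← LinearEquiv.mul_apply, ← LinearEquiv.mul_apply, ← map_mul, ← map_mul, inv_mul_cancel_right]
    have h0 := hh v₀
    rw [hl, map_smul, hl, hl, smul_smul, smul_smul] at h0
    have h9 : l 1 * l 0 = s * l 2 := smul_left_injective k hv₀0 h0
    rw [hh, smul_smul]
    congr 1
    have := hl0 0; have := hl0 1; have := hl0 2
    field_simp
    linear_combination h9
  let xW : W ≃ₗ[k] W :=
    { (ρ x).toLinearMap.restrict (fun w hw => hW x hxS w hw) with
      invFun := (ρ x⁻¹).toLinearMap.restrict (fun w hw => hW _ (inv_mem hxS) w hw)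
      left_inv := fun w => Subtype.ext (by
        show ρ x⁻¹ (ρ x w) = w
        rw [map_inv]; exact (ρ x).symm_apply_apply w)
      right_inv := fun w => Subtype.ext (by
        show ρ x (ρ x⁻¹ w) = w
        rw [map_inv]; exact (ρ x).apply_symm_apply w) }
  have hxA1 : ∀ u, A 1 (xW u) = xW (A 0 u) := fun u => Subtype.ext <| by
    show _ = ρ x ((A 0 u : W) : V)
    rw [hA, hA, map_smul]
    exact hcyc 0 1 rfl u
  have hxA0 : ∀ u, A 0 (xW u) = xW (A 0 (A 1 u)) := fun u => Subtype.ext <| by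
    show _ = ρ x ((A 0 (A 1 u) : W) : V)
    rw [hA, hA, hA]
    rw [map_smul (ρ (a (Fin.castSucc (0 : Fin 2)))), smul_smul, map_smul]
    refine (hcyc 2 0 rfl u).trans ?_
    rw [← map_smul, hprod, map_smul]
    rfl
  let D : (Fin 2 → Fin 2) → ℕ := fun χ => finrank k (wSpace A (-1) χ)
  have hadd : ∀ p q : Fin 2, (-1 : k) ^ ((p + q : Fin 2) : ℕ) = (-1) ^ (p : ℕ) * (-1) ^ (q : ℕ) := fun p q => by
    fin_cases p <;> fin_cases q <;> simp
  have hnext : ∀ χ, D χ ≤ D (sevNext χ) := fun χ => by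
    refine finrank_wSpace_map (g := xW) fun i v hv => ?_
    rw [mem_wSpace] at hv
    fin_cases i
    · show A 0 (xW v) = ((-1 : k) ^ ((χ 0 + χ 1 : Fin 2) : ℕ)) • xW v
      rw [hxA0, hv 1, map_smul, hv 0, smul_smul, map_smul, hadd, mul_comm]
    · show A 1 (xW v) = ((-1 : k) ^ (χ 0 : ℕ)) • xW v
      rw [hxA1, hv 0, map_smul]
  have hline : 0 < D fun _ => 0 := by
    refine finrank_pos_of_ne_zero (v := (⟨v₀, hLW hv₀⟩ : W)) (mem_wSpace.2 fun i => Subtype.ext ?_)
      fun h => hv₀0 (congrArg Subtype.val h)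
    rw [hA, hl, smul_smul, inv_mul_cancel₀ (hl0 _)]
    simp
  have hsmall : ∀ χ : Fin 2 → Fin 2, χ 0 ≠ 0 → D χ = 0 := fun χ hχ => by
    by_contra h
    have hpos : ∀ ψ ∈ ({fun _ => (0 : Fin 2), χ, sevNext χ, sevNext (sevNext χ)} : Finset (Fin 2 → Fin 2)),
        1 ≤ D ψ := by
      intro ψ hψ
      simp only [Finset.mem_insert, Finset.mem_singleton] at hψ
      have := hnext χ
      have := hnext (sevNext χ)
      rcases hψ with rfl | rfl | rfl | rfl <;> omega
    have h1 := Finset.card_nsmul_le_sum _ D 1 hpos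
    have h4 := sum_finrank_wSpace_le (k := k) hω A
      ({fun _ => (0 : Fin 2), χ, sevNext χ, sevNext (sevNext χ)} : Finset (Fin 2 → Fin 2)) ⊤ fun _ _ => le_top
    rw [finrank_top] at h4
    rw [smul_eq_mul, mul_one, sevNext_facts χ hχ] at h1
    simp only [D] at h1
    omega
  have hA0 : ∀ u : W, A 0 u = u := fun u => by
    have hle : (⨆ χ : Fin 2 → Fin 2, wSpace A (-1) χ) ≤ LinearMap.ker (A 0 - LinearMap.id) :=
      iSup_le fun χ w hw => by
        rw [LinearMap.mem_ker, LinearMap.sub_apply, LinearMap.id_apply, mem_wSpace.1 hw 0]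
        by_cases h0 : χ 0 = 0
        · simp [h0]
        · by_cases hw0 : w = 0
          · simp [hw0]
          · have : 0 < D χ := finrank_pos_of_ne_zero hw hw0
            rw [hsmall χ h0] at this
            exact absurd this (lt_irrefl 0)
    have := hle (mem_iSup_wSpace hω hm A hA2 hAc u)
    rwa [LinearMap.mem_ker, LinearMap.sub_apply, LinearMap.id_apply, sub_eq_zero] at this
  have hscalar : ∀ u ∈ W, ρ (a 0) u = l 0 • u := fun u hu => by
    have h : (l 0)⁻¹ • ρ (a 0) u = u := congrArg Subtype.val (hA0 ⟨u, hu⟩)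
    conv_rhs => rw [← h]
    rw [smul_smul, mul_inv_cancel₀ (hl0 0), one_smul]
  -- so the whole group acts trivially, contrary to the choice of `y`
  refine hyT (C.trivial_of_kernel (by omega) hW (a := a 0 * x * (a 0)⁻¹ * x⁻¹)
    (mul_mem (mul_mem (mul_mem (haS 0) hxS) (inv_mem (haS 0))) (inv_mem hxS)) (fun u hu => ?_) ?_ y hyS)
  · have hu1 := hW _ (inv_mem hxS) u hu
    have hu2 := hW _ (inv_mem (haS 0)) _ hu1
    have h5 : ρ (a 0) (ρ (a 0)⁻¹ (ρ x⁻¹ u)) = ρ x⁻¹ u := by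
      rw [map_inv ρ (a 0)]; exact (ρ (a 0)).apply_symm_apply _
    rw [hscalar _ hu2] at h5
    simp only [map_mul, LinearEquiv.mul_apply]
    rw [hscalar _ (hW _ hxS _ hu2), ← map_smul, h5, map_inv]
    exact (ρ x).apply_symm_apply u
  · intro h
    rw [map_mul, map_mul, map_mul, map_inv, map_inv, haπ, C.π_lift3 hx3, hσx, mul_inv_eq_one, mul_inv_eq_iff_eq_mul,
      ← map_mul, ← map_mul] at h
    exact f7 (congrArg (fun q : alternatingGroup (Fin 7) => (q : Perm (Fin 7))) (altEmb_injective e h))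

end Cfsg.Agent.AltDegree
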