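import Cfsg.Agent.Lib.AltDegree.Three

/-!
Two disjoint five-cycles exclude small spin representations.
-/

set_option autoImplicit false

namespace Cfsg.Agent.AltDegree

open Equiv Equiv.Perm Module

variable {k V : Type*} [Field k] [AddCommGroup V] [Module k V] {r : ℕ}
  {G : Type*} [Group G] {π : G →* alternatingGroup (Fin r)} {ρ : G →* (V ≃ₗ[k] V)}

/-- A three-cycle among the last five of ten points. -/
def tenC : Perm (Fin 10) := c[(5 : Fin 10), 6, 7]

set_option maxRecDepth 100000 in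
theorem tenC_facts : tenC ∈ alternatingGroup (Fin 10) ∧ tenC.IsThreeCycle ∧ (∀ i, tenC i ≠ i → 5 ≤ (i : ℕ)) ∧
    (∀ i, tenT 0 i ≠ i → (i : ℕ) < 5) ∧ tenT 0 ≠ 1 := by
  rw [← card_support_eq_three_iff, mem_alternatingGroup]
  decide

theorem Cover.five_cycle_fix [IsAlgClosed k] [FiniteDimensional k V] (C : Cover π ρ) (h5 : (5 : k) ≠ 0) (hr : 10 ≤ r)
    (hn : finrank k V ≤ 9) :
    ∃ (c : alternatingGroup (Fin r)) (U Z : Submodule k V), (c : Perm (Fin r)).IsThreeCycle ∧
      4 ≤ finrank k U ∧ U ≤ LinearMap.ker (gN π ρ c) ∧ U ⊓ Z = ⊥ ∧ Z ≠ ⊥ ∧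
      ∀ v ∈ Z, gN π ρ c v ∈ Z := by
  classical
  obtain ⟨hCmem, hC3, hC5, hT5', hT1⟩ := tenC_facts
  let e : Fin 10 ↪ Fin r := Fin.castLEEmb hr
  let T : Fin 2 → alternatingGroup (Fin r) := fun i => altEmb e ⟨tenT i, tenT_mem i⟩
  have h5odd : Odd 5 := ⟨2, rfl⟩
  have hT : ∀ i, T i ^ 5 = 1 := fun i => by
    rw [← map_pow, show (⟨tenT i, tenT_mem i⟩ : alternatingGroup (Fin 10)) ^ 5 = 1 from Subtype.ext (tenT_pow i),
      map_one]
  choose a haπ ha5 using fun i => C.exists_lift h5odd (T i) (hT i)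
  set A : Fin 2 → Module.End k V := fun i => (ρ (a i)).toLinearMap with hA
  have hAp : ∀ i t (v : V), (A i ^ t) v = ρ (a i ^ t) v := fun i t v => by
    induction t with
    | zero => simp
    | succ t ih => rw [pow_succ', pow_succ', map_mul, LinearEquiv.mul_apply, Module.End.mul_apply, ih]; rfl
  have hA5 : ∀ i, A i ^ 5 = 1 := fun i => LinearMap.ext fun v => by rw [hAp, ha5, map_one]; rfl
  have hconj : ∀ (x : G) i j (t : ℕ), (π x)⁻¹ * T i * π x = T j ^ t → x⁻¹ * a i * x = a j ^ t := by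
    intro x i j t h
    refine C.lift_unique h5odd ?_ ?_ ?_
    · rw [map_mul, map_mul, map_inv, haπ, h, map_pow, haπ]
    · have hh : (x⁻¹ * a i * x⁻¹⁻¹) ^ 5 = 1 := by rw [conj_pow, ha5, mul_one, mul_inv_cancel]
      rwa [inv_inv] at hh
    · rw [← pow_mul, mul_comm, pow_mul, ha5, one_pow]
  have hcomm : ∀ i i', a i' * a i = a i * a i' := fun i i' => by
    have := hconj (a i') i i 1 (by
      rw [haπ, pow_one, ← map_inv, ← map_mul, ← map_mul]
      refine congrArg (altEmb e) (Subtype.ext ?_)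
      show (tenT i')⁻¹ * tenT i * tenT i' = tenT i
      rw [mul_assoc, ten_comm i i', inv_mul_cancel_left])
    rw [pow_one, mul_assoc, inv_mul_eq_iff_eq_mul] at this
    exact this.symm
  have hAc : ∀ i i' v, A i (A i' v) = A i' (A i v) := fun i i' v => by
    show ρ (a i) (ρ (a i') v) = ρ (a i') (ρ (a i) v)
    rw [← LinearEquiv.mul_apply, ← LinearEquiv.mul_apply, ← map_mul, ← map_mul, hcomm i i']
  obtain ⟨ω, hω⟩ := exists_primitive_root (k := k) (m := 5) (by exact_mod_cast h5)
  have hm : ((5 : ℕ) : k) ≠ 0 := by exact_mod_cast h5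
  let D : (Fin 2 → Fin 5) → ℕ := fun χ => finrank k (wSpace A ω χ)
  have hstep : ∀ t χ, D χ ≤ D (tenAct t χ) := by
    intro t χ
    obtain ⟨g, hg⟩ := C.surj (altEmb e ⟨tenG t, tenG_mem t⟩)
    refine weight_move hω (g := g) (tenTau t) (tenExp t) (fun i => hconj g i _ _ ?_) χ
    rw [hg, ← map_inv, ← map_mul, ← map_mul, ← map_pow]
    exact congrArg (altEmb e) (Subtype.ext (ten_rel t i))
  have hDrep : ∀ χ, D χ = D (tenRep (wSize χ)) := fun χ => by
    obtain ⟨h1, h2⟩ := ten_orbit χ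
    refine le_antisymm ?_ ?_
    · conv_rhs => rw [← h1]
      exact foldl_mono tenAct D hstep _ χ
    · conv_rhs => rw [← h2]
      exact foldl_mono tenAct D hstep _ _
  obtain ⟨c1, c2, fle, f0, f1, c4⟩ := ten_count
  have hcount : ∀ (s : Finset (Fin 2 → Fin 5)) (d : ℕ), (∀ χ ∈ s, D χ = d) → s.card * d ≤ finrank k V := by
    intro s d hs
    have h2 := sum_finrank_wSpace_le (k := k) hω A s ⊤ fun _ _ => le_top
    rw [finrank_top] at h2
    rw [show ∑ χ ∈ s, finrank k (wSpace A ω χ) = ∑ χ ∈ s, D χ from rfl, Finset.sum_congr rfl hs,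
      Finset.sum_const, smul_eq_mul] at h2
    exact h2
  have hno2 : D (tenRep 2) = 0 := by
    have := hcount (Finset.univ.filter fun χ => wSize χ = 2) (D (tenRep 2))
      fun χ hχ => by rw [hDrep, (Finset.mem_filter.1 hχ).2]
    rw [c2] at this
    omega
  have hone : D (tenRep 1) ≤ 1 := by
    have := hcount (Finset.univ.filter fun χ => wSize χ = 1) (D (tenRep 1))
      fun χ hχ => by rw [hDrep, (Finset.mem_filter.1 hχ).2]
    rw [c1] at this
    omega
  have hsupp : ∀ χ : Fin 2 → Fin 5, wSpace A ω χ ≠ ⊥ → wSize χ ≤ 1 := fun χ h => by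
    by_contra hlt
    have h2 : wSize χ = 2 := by have := fle χ; omega
    exact h (Submodule.finrank_eq_zero.1 (show D χ = 0 by rw [hDrep, h2, hno2]))
  have hspan : ∀ v, v ∈ ⨆ χ : Fin 2 → Fin 5, wSpace A ω χ := mem_iSup_wSpace hω hm A hA5 hAc
  have hone' : D (tenRep 1) = 1 := by
    refine le_antisymm hone (Nat.one_le_iff_ne_zero.2 fun h0 => hT1 ?_)
    have hle : (⨆ χ : Fin 2 → Fin 5, wSpace A ω χ) ≤ LinearMap.ker (A 0 - LinearMap.id) := iSup_le fun χ w hw => by
      rw [LinearMap.mem_ker, LinearMap.sub_apply, LinearMap.id_apply, mem_wSpace.1 hw 0]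
      by_cases hw0 : w = 0
      · simp [hw0]
      have h1 := hsupp χ fun h => hw0 (by rwa [h, Submodule.mem_bot] at hw)
      rcases Nat.le_one_iff_eq_zero_or_eq_one.1 h1 with h | h
      · rw [f0 χ h, Fin.val_zero, pow_zero, one_smul, sub_self]
      · have : 0 < D χ := finrank_pos_of_ne_zero hw hw0
        rw [hDrep, h, h0] at this
        exact absurd this (lt_irrefl 0)
    have ha1 : a 0 = 1 := C.inj (LinearEquiv.ext fun v => by
      have := hle (hspan v)
      rw [LinearMap.mem_ker, LinearMap.sub_apply, LinearMap.id_apply, sub_eq_zero] at this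
      rw [map_one]
      exact this)
    have := haπ 0
    rw [ha1, map_one] at this
    exact congrArg (fun x : alternatingGroup (Fin 10) => (x : Perm (Fin 10)))
      (altEmb_injective e (this.symm.trans (map_one _).symm))
  set P := (Finset.univ.filter fun χ : Fin 2 → Fin 5 => wSize χ = 1 ∧ χ 0 ≠ 0) with hP
  set c : alternatingGroup (Fin r) := altEmb e ⟨tenC, hCmem⟩ with hc
  have hc3 : (c : Perm (Fin r)).IsThreeCycle := altEmb_isThreeCycle e hC3
  -- the lifted alternating group on the last five points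
  set S : Finset (Fin r) := (Finset.univ.filter fun i : Fin 10 => 5 ≤ (i : ℕ)).map e with hS
  have hScard : S.card = 5 := by rw [hS, Finset.card_map]; decide
  have hcomS : ∀ g ∈ liftSub π S, g * a 0 = a 0 * g := by
    intro g hg
    induction hg using Subgroup.closure_induction with
    | mem x hx =>
      obtain ⟨d, hd, rfl⟩ := hx
      have hdd : (π (lift3 π d))⁻¹ * T 0 * π (lift3 π d) = T 0 ^ 1 := by
        rw [C.π_lift3 (pow_three_of_cyc hd.1), pow_one, mul_assoc, inv_mul_eq_iff_eq_mul]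
        refine Subtype.ext ?_
        refine (Equiv.Perm.disjoint_iff_disjoint_support.2 ?_).commute.eq
        rw [altEmb_support]
        refine (Finset.disjoint_left.2 fun y hy hyd => ?_)
        obtain ⟨i, hi, rfl⟩ := Finset.mem_map.1 hy
        obtain ⟨j, hj, hji⟩ := Finset.mem_map.1 (hd.2 hyd)
        rw [e.injective hji] at hj
        have h6 := hT5' i (mem_support.1 hi)
        have := (Finset.mem_filter.1 hj).2
        omega
      have := hconj (lift3 π d) 0 0 1 hdd
      rw [pow_one, mul_assoc, inv_mul_eq_iff_eq_mul] at this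
      exact this.symm
    | one => simp
    | mul x y _ _ hx hy => rw [mul_assoc, hy, ← mul_assoc, hx, mul_assoc]
    | inv x _ hx => exact (Commute.inv_left hx).eq
  have hfixP : ∀ χ ∈ P, wSpace A ω χ ≤ LinearMap.ker (gN π ρ c) := by
    intro χ hχ
    obtain ⟨-, hχ1, hχ0⟩ := Finset.mem_filter.1 hχ
    -- the whole eigenspace of the first five-cycle
    have heig : ∀ v, A 0 v = (ω ^ (χ 0 : ℕ)) • v → v ∈ wSpace A ω χ := by
      intro v hv
      have hp : eProj 5 (A 0) ω (χ 0 : ℕ) v = v := by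
        rw [eProj_apply]
        have hz0 : ω ^ (χ 0 : ℕ) ≠ 0 := pow_ne_zero _ (hω.ne_zero (by norm_num))
        simp [pow_of_eigen hv, inv_mul_cancel₀ (pow_ne_zero _ hz0), smul_smul, Finset.sum_const, ← Nat.cast_smul_eq_nsmul k, h5]
      rw [← hp]
      have hle : (⨆ χ : Fin 2 → Fin 5, wSpace A ω χ) ≤ (wSpace A ω χ).comap (eProj 5 (A 0) ω (χ 0 : ℕ)) :=
        iSup_le fun ψ w hw => by
          rw [Submodule.mem_comap]
          by_cases hw0 : w = 0
          · simp [hw0]
          by_cases h0 : ψ 0 = χ 0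
          · have hsz := hsupp ψ fun h => hw0 (by rwa [h, Submodule.mem_bot] at hw)
            have hsz1 : wSize ψ = 1 := by
              rcases Nat.le_one_iff_eq_zero_or_eq_one.1 hsz with h | h
              · exact absurd ((f0 ψ h).symm.trans h0).symm hχ0
              · exact h
            have he : ψ = χ := funext fun i => by
              fin_cases i
              · exact h0
              · exact (f1 ψ hsz1 (h0 ▸ hχ0)).trans (f1 χ hχ1 hχ0).symm
            rw [mem_wSpace]
            intro i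
            rw [eProj_commute (hAc 0 i), mem_wSpace.1 hw i, map_smul, he]
          · have h2 := apply_eProj hω (hA5 0) (χ 0 : ℕ) w
            rw [eProj_commute (fun _ => rfl), mem_wSpace.1 hw 0, map_smul] at h2
            have h4 : (ω ^ (ψ 0 : ℕ) - ω ^ (χ 0 : ℕ)) • eProj 5 (A 0) ω (χ 0 : ℕ) w = 0 := by
              rw [sub_smul, h2, sub_self]
            rw [(smul_eq_zero.1 h4).resolve_left (sub_ne_zero.2 fun h => h0 (Fin.ext (hω.pow_inj (ψ 0).2 (χ 0).2 h)))]
            exact zero_mem _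
      exact hle (hspan v)
    have hinv : ∀ g ∈ liftSub π S, ∀ w ∈ wSpace A ω χ, ρ g w ∈ wSpace A ω χ := fun g hg w hw => heig _ (by
      show ρ (a 0) (ρ g w) = _
      rw [← LinearEquiv.mul_apply, ← map_mul, ← hcomS g hg, map_mul, LinearEquiv.mul_apply,
        show ρ (a 0) w = (ω ^ (χ 0 : ℕ)) • w from mem_wSpace.1 hw 0, map_smul])
    have hd1 : finrank k (wSpace A ω χ) = 1 := by
      show D χ = 1
      rw [hDrep, hχ1, hone']
    have htriv := C.trivial_of_comm (S := S) (by omega) hinv fun g hg h hh w hw => by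
      by_cases hw0 : w = 0
      · simp [hw0]
      obtain ⟨s, hs⟩ := exists_smul_eq_of_finrank_eq_one hd1 (x := (⟨w, hw⟩ : wSpace A ω χ))
        (fun h0 => hw0 (congrArg Subtype.val h0)) ⟨_, hinv g hg w hw⟩
      obtain ⟨t, ht⟩ := exists_smul_eq_of_finrank_eq_one hd1 (x := (⟨w, hw⟩ : wSpace A ω χ))
        (fun h0 => hw0 (congrArg Subtype.val h0)) ⟨_, hinv h hh w hw⟩
      have hs' : s • w = ρ g w := congrArg Subtype.val hs
      have ht' : t • w = ρ h w := congrArg Subtype.val ht
      rw [← hs', ← ht', map_smul, map_smul, ← hs', ← ht', smul_comm]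
    intro w hw
    rw [LinearMap.mem_ker, gN_apply, sub_eq_zero]
    refine htriv _ (Subgroup.subset_closure ⟨c, ⟨hc3, ?_⟩, rfl⟩) w hw
    rw [hc, altEmb_support, hS]
    exact Finset.map_subset_map.2 fun i hi => Finset.mem_filter.2 ⟨Finset.mem_univ _, hC5 i (mem_support.1 hi)⟩
  refine ⟨c, ⨆ χ ∈ P, wSpace A ω χ, LinearMap.ker (A 0 - LinearMap.id), hc3, ?_, iSup₂_le hfixP, ?_, ?_, ?_⟩
  · have h4 := sum_finrank_wSpace_le hω A P (⨆ χ ∈ P, wSpace A ω χ)
      fun χ hχ => le_iSup₂ (f := fun χ (_ : χ ∈ P) => wSpace A ω χ) χ hχ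
    rw [Finset.sum_congr rfl (fun χ hχ => show finrank k (wSpace A ω χ) = 1 by
      show D χ = 1
      rw [hDrep, (Finset.mem_filter.1 hχ).2.1, hone']), Finset.sum_const, c4] at h4
    simpa using h4
  · rw [Submodule.eq_bot_iff]
    rintro v ⟨hvU, hvZ⟩
    have hvZ' : A 0 v = (1 : k) • v := by
      rw [SetLike.mem_coe, LinearMap.mem_ker, LinearMap.sub_apply, LinearMap.id_apply, sub_eq_zero] at hvZ
      rw [one_smul, hvZ]
    have hfixv : eProj 5 (A 0) ω 0 v = v := by
      rw [eProj_apply]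
      simp [pow_of_eigen hvZ', smul_smul, Finset.sum_const, ← Nat.cast_smul_eq_nsmul k, h5]
    have hkill : (⨆ χ ∈ P, wSpace A ω χ) ≤ LinearMap.ker (eProj 5 (A 0) ω 0) := iSup₂_le fun χ hχ w hw => by
      rw [LinearMap.mem_ker]
      have h2 := apply_eProj hω (hA5 0) 0 w
      rw [eProj_commute (fun _ => rfl), mem_wSpace.1 hw 0, map_smul, pow_zero, one_smul] at h2
      have h4 : (ω ^ (χ 0 : ℕ) - 1) • eProj 5 (A 0) ω 0 w = 0 := by rw [sub_smul, one_smul, h2, sub_self]
      refine (smul_eq_zero.1 h4).resolve_left (sub_ne_zero.2 fun h => (Finset.mem_filter.1 hχ).2.2 (Fin.ext ?_))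
      exact hω.pow_inj (χ 0).2 (0 : Fin 5).2 (by rw [h, Fin.val_zero, pow_zero])
    rw [← hfixv]
    exact hkill hvU
  · intro h
    have hpos : D ![0, 1] = 1 := by
      rw [hDrep, show wSize (![0, 1] : Fin 2 → Fin 5) = 1 by decide, hone']
    have hle : wSpace A ω (![0, 1] : Fin 2 → Fin 5) ≤ ⊥ := by
      rw [← h]
      intro w hw
      rw [LinearMap.mem_ker, LinearMap.sub_apply, LinearMap.id_apply, mem_wSpace.1 hw 0]
      simp
    rw [le_bot_iff] at hle
    have h0 : finrank k (wSpace A ω (![0, 1] : Fin 2 → Fin 5)) = 0 := by rw [hle, finrank_bot]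
    have hpos' : finrank k (wSpace A ω (![0, 1] : Fin 2 → Fin 5)) = 1 := hpos
    omega
  · intro v hv
    rw [LinearMap.mem_ker, LinearMap.sub_apply, LinearMap.id_apply, sub_eq_zero] at hv ⊢
    have hcS : lift3 π c ∈ liftSub π S := Subgroup.subset_closure ⟨c, ⟨hc3, by
      rw [hc, altEmb_support, hS]
      exact Finset.map_subset_map.2 fun i hi => Finset.mem_filter.2 ⟨Finset.mem_univ _, hC5 i (mem_support.1 hi)⟩⟩, rfl⟩
    have hv' : ρ (a 0) v = v := hv
    show ρ (a 0) (gN π ρ c v) = gN π ρ c v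
    rw [gN_apply, map_sub, hv', ← LinearEquiv.mul_apply, ← map_mul, ← hcomS _ hcS, map_mul, LinearEquiv.mul_apply,
      hv']

theorem Cover.spin_false [IsAlgClosed k] [FiniteDimensional k V] (C : Cover π ρ) (h5 : (5 : k) ≠ 0) (hr : 10 ≤ r)
    (hn : finrank k V ≤ 9)
    (hfix : ∀ c : alternatingGroup (Fin r), (c : Perm (Fin r)).IsThreeCycle →
      finrank k (LinearMap.ker (gN π ρ c)) + 8 ≤ finrank k V) : False := by
  obtain ⟨c, U, Z, hc, hU, hUle, -, -, -⟩ := C.five_cycle_fix h5 hr hn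
  have := Submodule.finrank_mono hUle
  have := hfix c hc
  omega

end Cfsg.Agent.AltDegree
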