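import Cfsg.Agent.Lib.AltDegree.Eight
import Cfsg.Agent.Lib.AltDegree.SmallThree
import Cfsg.Agent.Lib.AltDegree.Spin
import Cfsg.Agent.Lib.AltDegree.Layers
import Cfsg.Agent.S0447

/-!
The degree bound for a minimal cover acting irreducibly.
-/

set_option autoImplicit false

namespace Cfsg.Agent.AltDegree

open Equiv Equiv.Perm Module

variable {k V : Type*} [Field k] [AddCommGroup V] [Module k V] {r : ℕ}
  {G : Type*} [Group G] {π : G →* alternatingGroup (Fin r)} {ρ : G →* (V ≃ₗ[k] V)}

/-- Under `CoverTriv` the cover is the alternating group itself. -/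
theorem Cover.ker_eq_bot [Finite G] (C : Cover π ρ) (hr : 9 ≤ r) (hP : CoverTriv π ρ) : π.ker = ⊥ := by
  classical
  obtain ⟨m, rfl⟩ : ∃ m, r = m + 2 := ⟨r - 2, by omega⟩
  have hmem : ∀ i, i < m → S0447.cyc m i ∈ alternatingGroup (Fin (m + 2)) := fun i hi => ((S0447.cyc_props m).1 i hi).2
  let σ : ℕ → alternatingGroup (Fin (m + 2)) := fun i => if h : i < m then ⟨_, hmem i h⟩ else 1
  have hσ : ∀ i, i < m → (σ i : Perm (Fin (m + 2))) = S0447.cyc m i := fun i hi => by simp [σ, hi]
  have hσ3 : ∀ i, i < m → σ i ^ 3 = 1 := fun i hi => Subtype.ext (by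
    rw [Subgroup.coe_pow, hσ i hi, ((S0447.cyc_props m).1 i hi).1]; rfl)
  have hsupp : ∀ i, (hi : i < m) → (σ i : Perm (Fin (m + 2))).support ⊆ {0, 1, ⟨i + 2, by omega⟩} := fun i hi => by
    rw [hσ i hi, S0447.cyc, dif_pos hi]
    refine (Equiv.Perm.support_mul_le _ _).trans ?_
    intro y hy
    simp only [Finset.mem_union, Equiv.Perm.mem_support, Finset.sup_eq_union] at hy
    simp only [Finset.mem_insert, Finset.mem_singleton]
    by_contra hne
    push Not at hne
    rcases hy with h | h
    · exact h (swap_apply_of_ne_of_ne hne.1 hne.2.2)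
    · exact h (swap_apply_of_ne_of_ne hne.1 hne.2.1)
  have hthree : ∀ i, i < m → (σ i : Perm (Fin (m + 2))).IsThreeCycle := fun i hi => by
    rw [hσ i hi, S0447.cyc, dif_pos hi]
    exact isThreeCycle_swap_mul_swap_same (by simp [Fin.ext_iff]) (by simp [Fin.ext_iff]) (by simp [Fin.ext_iff])
  let X : ℕ → G := fun i => lift3 π (σ i)
  have h2 : ∀ i, i < m → ∀ j, j < m → i ≠ j → (X i * X j) ^ 2 = 1 := by
    intro i hi j hj hij
    have hk : π ((X i * X j) ^ 2) = 1 := by
      rw [map_pow, map_mul, C.π_lift3 (hσ3 i hi), C.π_lift3 (hσ3 j hj)]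
      exact Subtype.ext (by
        rw [Subgroup.coe_pow, Subgroup.coe_mul, hσ i hi, hσ j hj, ((S0447.cyc_props m).2 i hi j hj hij).1]; rfl)
    -- a three-cycle away from both
    obtain ⟨U, hU, hU3⟩ := Finset.exists_subset_card_eq
      (show 3 ≤ ({0, 1, ⟨i + 2, by omega⟩, ⟨j + 2, by omega⟩}ᶜ : Finset (Fin (m + 2))).card by
        rw [Finset.card_compl, Fintype.card_fin]
        have := Finset.card_insert_le (0 : Fin (m + 2)) ({1, ⟨i + 2, by omega⟩, ⟨j + 2, by omega⟩} : Finset (Fin (m + 2)))
        have := Finset.card_le_three (a := (1 : Fin (m + 2))) (b := (⟨i + 2, by omega⟩ : Fin (m + 2)))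
          (c := (⟨j + 2, by omega⟩ : Fin (m + 2)))
        omega)
    obtain ⟨p, q, s, pq, ps, qs, rfl⟩ := Finset.card_eq_three.1 hU3
    obtain ⟨f, hf, hfs, -⟩ := exists_c3 pq ps qs
    obtain ⟨v, hv⟩ : ∃ v, gN π ρ f v ≠ 0 := by
      by_contra h
      push Not at h
      exact C.gN_ne_zero hf (LinearMap.ext h)
    have hdis : ∀ t, (ht : t < m) → (t = i ∨ t = j) →
        _root_.Disjoint (f : Perm (Fin (m + 2))).support (σ t : Perm (Fin (m + 2))).support := by
      intro t ht htij
      rw [hfs]
      refine (Finset.disjoint_left.2 fun y hy hy' => ?_)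
      have h1 := Finset.mem_compl.1 (hU hy)
      have h2 := hsupp t ht hy'
      simp only [Finset.mem_insert, Finset.mem_singleton] at h1 h2
      rcases htij with rfl | rfl <;> tauto
    have fi : ρ (X i) (gN π ρ f v) = gN π ρ f v := hP f (σ i) hf (hthree i hi) (hdis i hi (Or.inl rfl)) v
    have fj : ρ (X j) (gN π ρ f v) = gN π ρ f v := hP f (σ j) hf (hthree j hj) (hdis j hj (Or.inr rfl)) v
    obtain ⟨e, -, he⟩ := C.scalar hk
    have h7 := he (gN π ρ f v)
    rw [pow_two, map_mul, map_mul, LinearEquiv.mul_apply, LinearEquiv.mul_apply, LinearEquiv.mul_apply, fj, fi, fj, fi]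
      at h7
    have he1 : (1 : k) = e := smul_left_injective k hv (by show (1 : k) • _ = e • _; rw [one_smul]; exact h7)
    refine C.inj (LinearEquiv.ext fun w => ?_)
    rw [he, ← he1, one_smul, map_one]; rfl
  have hcard := S0447.pres_card X m (fun i hi => C.lift3_pow (hσ3 i hi)) h2
  have htop : Subgroup.closure (X '' {i | i < m}) = ⊤ := by
    refine C.minimal _ (eq_top_iff.2 fun g _ => ?_)
    have hg := S0447.cyc_gen m g.2
    rw [MonoidHom.map_closure, ← Set.image_comp]
    have himg : (S0447.cyc m '' {i | i < m}) =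
        (alternatingGroup (Fin (m + 2))).subtype '' ((π ∘ X) '' {i | i < m}) := by
      rw [← Set.image_comp]
      refine Set.image_congr fun i (hi : i < m) => ?_
      show _ = ((π (lift3 π (σ i))) : Perm (Fin (m + 2)))
      rw [C.π_lift3 (hσ3 i hi), hσ i hi]
    rw [himg, ← MonoidHom.map_closure] at hg
    obtain ⟨y, hy, hyg⟩ := hg
    rwa [← Subtype.ext hyg]
  rw [htop, Subgroup.card_top, ← S0447.card_alt m] at hcard
  have h1 := π.ker.card_mul_index
  rw [Subgroup.index_ker, MonoidHom.range_eq_top.2 C.surj, Subgroup.card_top] at h1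
  refine Subgroup.eq_bot_of_card_eq _ ?_
  have hpos : 0 < Nat.card (alternatingGroup (Fin (m + 2))) := Nat.card_pos
  have hk1 : 1 ≤ Nat.card π.ker := Nat.card_pos
  refine le_antisymm (Nat.le_of_mul_le_mul_right ?_ hpos) hk1
  rw [h1, one_mul]
  omega

theorem natural_bound [Finite G] [IsAlgClosed k] [FiniteDimensional k V] (C : Cover π ρ) (hr : 9 ≤ r)
    (hP : CoverTriv π ρ) : r - 2 ≤ finrank k V ∧ (finrank k V = r - 2 → (r : k) = 0) := by
  classical
  have hker := C.ker_eq_bot hr hP
  let e : G ≃* alternatingGroup (Fin r) :=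
    MulEquiv.ofBijective π ⟨(MonoidHom.ker_eq_bot_iff π).1 hker, C.surj⟩
  let τ : alternatingGroup (Fin r) →* (V ≃ₗ[k] V) := ρ.comp e.symm.toMonoidHom
  have hτ : ∀ g, τ (π g) = ρ g := fun g => by
    show ρ (e.symm (e g)) = ρ g
    rw [MulEquiv.symm_apply_apply]
  have hN : ∀ c : alternatingGroup (Fin r), (c : Perm (Fin r)).IsThreeCycle → dN τ c = gN π ρ c := fun c hc => by
    refine LinearMap.ext fun v => ?_
    rw [dN_apply, gN_apply]
    conv_lhs => rw [← C.π_lift3 (pow_three_of_cyc hc), hτ]
  have hirr : IsIrr τ := fun W hW => C.irr W fun g w hw => by rw [← hτ]; exact hW _ w hw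
  have hPn : IsDisjointTriv τ := fun c d hc hd hcd v => by
    rw [hN c hc, show τ d = ρ (lift3 π d) by rw [← hτ, C.π_lift3 (pow_three_of_cyc hd)]]
    exact hP c d hc hd hcd v
  have hd2 : ∀ c : alternatingGroup (Fin r), (c : Perm (Fin r)).IsThreeCycle →
      2 ≤ finrank k (LinearMap.range (dN τ c)) := by
    intro c hc
    have hne := C.gN_ne_zero (ρ := ρ) hc
    by_cases h3 : (3 : k) = 0
    swap
    · rw [hN c hc]
      obtain ⟨E, E', -, -, hle, heq, hsum⟩ := C.eigen_pair h3 hc (S := ((c : Perm (Fin r)).support)ᶜ) disjoint_compl_right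
        (by rw [Finset.card_compl, Fintype.card_fin, hc.card_support]; omega)
      by_contra hlt
      have hE : finrank k E = 0 := by omega
      have hE' : finrank k E' = 0 := by omega
      rw [Submodule.finrank_eq_zero.1 hE, Submodule.finrank_eq_zero.1 hE', bot_sup_eq, le_bot_iff,
        LinearMap.range_eq_bot] at hle
      exact hne hle
    -- the square of `τ c - 1` is not zero
    have h2 : (2 : k) ≠ 0 := fun h => one_ne_zero (α := k) (by linear_combination h3 - h)
    obtain ⟨a1, a2, a3, q1, q2, q3, hs, e1, e2, e3⟩ := exists_rep hc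
    obtain ⟨a4, ha4⟩ : ∃ a4, a4 ∉ ({a1, a2, a3} : Finset (Fin r)) := by
      by_contra h
      push Not at h
      have h1 := Finset.card_le_card (s := (Finset.univ : Finset (Fin r))) fun x _ => h x
      have := Finset.card_le_three (a := a1) (b := a2) (c := a3)
      rw [Finset.card_univ, Fintype.card_fin] at h1
      omega
    simp only [Finset.mem_insert, Finset.mem_singleton, not_or] at ha4
    have h4r : 4 ≤ r := by omega
    obtain ⟨g, hg⟩ := exists_map (f := fun i : Fin 4 => (Fin.castLE h4r i))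
      (f' := ![a1, a2, a3, a4]) (Fin.castLE_injective _) (by
        intro i j hij
        fin_cases i <;> fin_cases j <;>
          first | rfl | exact absurd hij q1 | exact absurd hij q1.symm | exact absurd hij q2 | exact absurd hij q2.symm |
            exact absurd hij q3 | exact absurd hij q3.symm | exact absurd hij (Ne.symm ha4.1) | exact absurd hij ha4.1 |
            exact absurd hij (Ne.symm ha4.2.1) | exact absurd hij ha4.2.1 | exact absurd hij (Ne.symm ha4.2.2) |
            exact absurd hij ha4.2.2) (by omega)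
    obtain ⟨mT, mX, -, fX, -, f1, f2, f3, f4, -, -, f7⟩ := sev_facts
    let emb : Fin 7 ↪ Fin r := (Fin.castLEEmb (show 7 ≤ r by omega)).trans (g : Perm (Fin r)).toEmbedding
    have he0 : emb 0 = a1 := hg 0
    have he1 : emb 1 = a2 := hg 1
    have he2 : emb 2 = a3 := hg 2
    have hcx : altEmb emb ⟨sevX, mX⟩ = c := by
      apply Subtype.ext
      refine ext_triple (a := a1) (b := a2) (c := a3) ?_ hs.le ?_ ?_ ?_
      · rw [altEmb_support]
        intro y hy
        obtain ⟨i, hi, rfl⟩ := Finset.mem_map.1 hy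
        have hi' : sevX i ≠ i := mem_support.1 hi
        fin_cases i <;> first | exact absurd (by decide) hi' | simp [he0, he1, he2]
      · rw [← he0, altEmb_apply, show sevX 0 = 1 by decide, he1, he0, e1]
      · rw [← he1, altEmb_apply, show sevX 1 = 2 by decide, he2, he1, e2]
      · rw [← he2, altEmb_apply, show sevX 2 = 0 by decide, he0, he2, e3]
    let t : Fin 3 → alternatingGroup (Fin r) := fun i => altEmb emb ⟨sevT i, mT i⟩
    have ht2 : ∀ i, t i * t i = 1 := fun i => by
      rw [← map_mul, show (⟨sevT i, mT i⟩ : alternatingGroup (Fin 7)) * ⟨sevT i, mT i⟩ = 1 from Subtype.ext (f1 i),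
        map_one]
    have ht01 : t 0 * t 1 = t 1 * t 0 := by
      rw [← map_mul, ← map_mul]; exact congrArg (altEmb emb) (Subtype.ext f2)
    have ht012 : t 0 * t 1 = t 2 := by
      rw [← map_mul]; exact congrArg (altEmb emb) (Subtype.ext f3)
    have htc : ∀ i, c * t i = t (i + 1) * c := fun i => by
      rw [← hcx, ← map_mul, ← map_mul]
      refine congrArg (altEmb emb) (Subtype.ext ?_)
      show sevX * sevT i = sevT (i + 1) * sevX
      rw [← f4, inv_mul_cancel_right]
    let A : Fin 2 → Module.End k V := fun i => (τ (t i.castSucc)).toLinearMap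
    have hA2 : ∀ i, A i ^ 2 = 1 := fun i => LinearMap.ext fun v => by
      rw [pow_two, Module.End.mul_apply]
      show τ _ (τ _ v) = v
      rw [← LinearEquiv.mul_apply, ← map_mul, ht2, map_one]; rfl
    have hAc : ∀ i i' v, A i (A i' v) = A i' (A i v) := fun i i' v => by
      have hh : t i.castSucc * t i'.castSucc = t i'.castSucc * t i.castSucc := by
        fin_cases i <;> fin_cases i' <;> first | rfl | exact ht01 | exact ht01.symm
      show τ (t i.castSucc) (τ (t i'.castSucc) v) = τ (t i'.castSucc) (τ (t i.castSucc) v)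
      rw [← LinearEquiv.mul_apply, ← LinearEquiv.mul_apply, ← map_mul τ, ← map_mul τ, hh]
    have hω : IsPrimitiveRoot (-1 : k) 2 := IsPrimitiveRoot.iff (by norm_num) |>.2
      ⟨by ring, fun l hl0 hl2 => by
        interval_cases l
        rw [pow_one]
        exact fun h => h2 (by linear_combination -h)⟩
    have hm : ((2 : ℕ) : k) ≠ 0 := by exact_mod_cast h2
    obtain ⟨χ, w, hχ, hw, hw0⟩ : ∃ (χ : Fin 2 → Fin 2) (w : V), χ 0 ≠ 0 ∧ w ∈ wSpace A (-1) χ ∧ w ≠ 0 := by
      by_contra hall
      push Not at hall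
      have hle : (⨆ χ : Fin 2 → Fin 2, wSpace A (-1) χ) ≤ LinearMap.ker (A 0 - LinearMap.id) :=
        iSup_le fun χ w hw => by
          rw [LinearMap.mem_ker, LinearMap.sub_apply, LinearMap.id_apply, mem_wSpace.1 hw 0]
          by_cases h0 : χ 0 = 0
          · simp [h0]
          · simp [hall χ w h0 hw]
      have htriv : ρ (e.symm (t 0)) = 1 := LinearEquiv.ext fun v => by
        have := hle (mem_iSup_wSpace hω hm A hA2 hAc v)
        rw [LinearMap.mem_ker, LinearMap.sub_apply, LinearMap.id_apply, sub_eq_zero] at this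
        exact this
      have h9 := C.inj (htriv.trans (map_one _).symm)
      rw [e.symm.map_eq_one_iff] at h9
      exact absurd (congrArg (fun x : alternatingGroup (Fin 7) => (x : Perm (Fin 7)))
        (altEmb_injective emb (h9.trans (map_one _).symm))) (show ¬ sevT 0 = 1 by decide)
    have hadd : ∀ p q : Fin 2, (-1 : k) ^ ((p + q : Fin 2) : ℕ) = (-1) ^ (p : ℕ) * (-1) ^ (q : ℕ) := fun p q => by
      fin_cases p <;> fin_cases q <;> simp
    have hmove : ∀ χ : Fin 2 → Fin 2, ∀ v ∈ wSpace A (-1) χ, τ c v ∈ wSpace A (-1) (sevNext χ) := fun χ v hv => by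
      rw [mem_wSpace] at hv ⊢
      intro i
      fin_cases i
      · show τ (t 0) (τ c v) = ((-1 : k) ^ ((χ 0 + χ 1 : Fin 2) : ℕ)) • τ c v
        rw [← LinearEquiv.mul_apply, ← map_mul, show t 0 * c = c * (t 0 * t 1) by
          rw [ht012]; exact (htc 2).symm, map_mul, map_mul, LinearEquiv.mul_apply, LinearEquiv.mul_apply,
          show τ (t 1) v = _ from hv 1, map_smul, show τ (t 0) v = _ from hv 0, smul_smul, map_smul, hadd, mul_comm]
      · show τ (t 1) (τ c v) = ((-1 : k) ^ (χ 0 : ℕ)) • τ c v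
        rw [← LinearEquiv.mul_apply, ← map_mul, show t 1 * c = c * t 0 from (htc 0).symm, map_mul,
          LinearEquiv.mul_apply, show τ (t 0) v = _ from hv 0, map_smul]
    have hdist : ∀ χ : Fin 2 → Fin 2, χ 0 ≠ 0 →
        χ ≠ sevNext χ ∧ χ ≠ sevNext (sevNext χ) ∧ sevNext χ ≠ sevNext (sevNext χ) := by decide
    obtain ⟨d1, d2', d3⟩ := hdist χ hχ
    have hsq : dN τ c (dN τ c w) ≠ 0 := by
      intro h0
      rw [dN_apply, dN_apply, map_sub] at h0
      let F : (Fin 2 → Fin 2) → V := fun ψ =>
        if ψ = χ then w else if ψ = sevNext χ then -((2 : k) • τ c w) else τ c (τ c w)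
      have h9 := wSpace_indep hω A {χ, sevNext χ, sevNext (sevNext χ)} F (fun ψ hψ => by
        simp only [Finset.mem_insert, Finset.mem_singleton] at hψ
        rcases hψ with rfl | rfl | rfl
        · simp only [F, if_true]; exact hw
        · simp only [F, if_neg (Ne.symm d1), if_true]
          exact Submodule.neg_mem _ (Submodule.smul_mem _ _ (hmove χ w hw))
        · simp only [F, if_neg (Ne.symm d2'), if_neg (Ne.symm d3)]
          exact hmove _ _ (hmove χ w hw)) (by
        rw [Finset.sum_insert (by simp [d1, d2']), Finset.sum_pair d3]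
        simp only [F, if_true, if_neg (Ne.symm d1), if_neg (Ne.symm d2'), if_neg (Ne.symm d3)]
        rw [← h0, two_smul]; abel) χ (Finset.mem_insert_self _ _)
      simp only [F, if_true] at h9
      exact hw0 h9
    -- a nilpotent map with non-zero square has rank at least two
    obtain ⟨-, hb, hsum⟩ := C.layer_bound (ρ := ρ) h3 hc
    rw [hN c hc]
    have hpos : 0 < finrank k (LinearMap.range (gN π ρ c * gN π ρ c)) := by
      rw [hN c hc] at hsq
      exact finrank_pos_of_ne_zero (v := gN π ρ c (gN π ρ c w)) ⟨w, rfl⟩ hsq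
    omega
  exact ⟨(degree_ge hr hirr hPn hd2).1, fun hn => char_dvd hr hirr hPn hd2 hn⟩

/-- The bound for a minimal cover, given the bound for fewer points. -/
theorem Cover.degree_bound [Finite G] [IsAlgClosed k] [FiniteDimensional k V] (C : Cover π ρ) (hr : 9 ≤ r)
    (hind : ∀ S : Finset (Fin r), 9 ≤ S.card → S.card < r → ∀ W : Submodule k V,
      (∀ g ∈ liftSub π S, ∀ w ∈ W, ρ g w ∈ W) → finrank k W < S.card - 2 →
        ∀ g ∈ liftSub π S, ∀ w ∈ W, ρ g w = w) :
    r - 2 ≤ finrank k V ∧ (finrank k V = r - 2 → (r : k) = 0) := by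
  classical
  suffices h : finrank k V ≤ r - 2 → (finrank k V = r - 2 ∧ (r : k) = 0) ∨ CoverTriv π ρ by
    by_cases hn : finrank k V ≤ r - 2
    · rcases h hn with ⟨h1, h2⟩ | hP
      · exact ⟨h1.ge, fun _ => h2⟩
      · exact natural_bound C hr hP
    · exact ⟨by omega, fun h' => by omega⟩
  intro hn
  rcases Nat.lt_or_ge r 12 with hr12 | hr12
  swap
  · -- induction
    exact Or.inr (C.coverTriv_of_small hr (δ := r - 5) (fun S hS W hW hlt => hind S (by omega) (by omega) W hW (by omega))
      (by omega))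
  by_cases h3 : (3 : k) = 0
  · have h2 : (2 : k) ≠ 0 := fun h => one_ne_zero (α := k) (by linear_combination h3 - h)
    have h8 : ∀ S : Finset (Fin r), 8 ≤ S.card → ∀ W : Submodule k V, (∀ g ∈ liftSub π S, ∀ w ∈ W, ρ g w ∈ W) →
        finrank k W < 7 → ∀ g ∈ liftSub π S, ∀ w ∈ W, ρ g w = w := fun S hS W hW hlt =>
      C.trivial_of_small_eight h2 hS hW (by omega)
    have hrcases : r = 9 ∨ r = 10 ∨ r = 11 := by omega
    rcases hrcases with hr9 | hr10 | hr11
    · left
      have h7 : ¬ finrank k V < 7 := fun hlt => by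
        obtain ⟨U, -, hU⟩ := Finset.exists_subset_card_eq (show 3 ≤ (Finset.univ : Finset (Fin r)).card by simp; omega)
        obtain ⟨a, b, c, ab, ac, bc, rfl⟩ := Finset.card_eq_three.1 hU
        obtain ⟨g, hg, hgs, -⟩ := exists_c3 ab ac bc
        refine C.gN_ne_zero (ρ := ρ) hg (LinearMap.ext fun v => ?_)
        rw [gN_apply, h8 Finset.univ (by simp; omega) ⊤ (fun _ _ _ _ => trivial) (by rwa [finrank_top]) _
          (Subgroup.subset_closure ⟨g, ⟨hg, Finset.subset_univ _⟩, rfl⟩) v trivial, sub_self]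
        rfl
      refine ⟨by omega, ?_⟩
      rw [hr9]; push_cast; linear_combination 3 * h3
    · -- ten points in characteristic three
      right
      intro c d hc hd hcd v
      set S := (c : Perm (Fin r)).supportᶜ with hS
      have hdis : _root_.Disjoint (c : Perm (Fin r)).support S := disjoint_compl_right
      have hScard : S.card = 7 := by rw [hS, Finset.card_compl, Fintype.card_fin, hc.card_support]; omega
      have hdS : lift3 π d ∈ liftSub π S := Subgroup.subset_closure
        ⟨d, ⟨hd, fun x hx => Finset.mem_compl.2 fun h => Finset.disjoint_left.1 hcd h hx⟩, rfl⟩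
      suffices ∀ g ∈ liftSub π S, ∀ w ∈ LinearMap.range (gN π ρ c), ρ g w = w from this _ hdS _ ⟨v, rfl⟩
      obtain ⟨b1, b2, b3⟩ := C.layer_bound (ρ := ρ) h3 hc
      have hinvI : ∀ g ∈ liftSub π S, ∀ w ∈ LinearMap.range (gN π ρ c) ⊓ LinearMap.ker (gN π ρ c),
          ρ g w ∈ LinearMap.range (gN π ρ c) ⊓ LinearMap.ker (gN π ρ c) := by
        rintro g hg w ⟨⟨u, rfl⟩, hw⟩
        refine ⟨⟨ρ g u, C.gN_comm hc hdis hg u⟩, ?_⟩
        rw [SetLike.mem_coe, LinearMap.mem_ker, C.gN_comm hc hdis hg, LinearMap.mem_ker.1 hw, map_zero]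
      have hinv2 : ∀ g ∈ liftSub π S, ∀ w ∈ LinearMap.range (gN π ρ c * gN π ρ c),
          ρ g w ∈ LinearMap.range (gN π ρ c * gN π ρ c) := by
        rintro g hg _ ⟨u, rfl⟩
        refine ⟨ρ g u, ?_⟩
        rw [Module.End.mul_apply, Module.End.mul_apply, C.gN_comm hc hdis hg, C.gN_comm hc hdis hg]
      refine C.trivial_range h3 hc hdis (by omega) ?_
        (C.trivial_of_small_three h3 (by omega) hinv2 (by omega))
      refine C.trivial_of_small_three h3 (by omega) hinvI ?_
      by_contra hI
      -- the spin situation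
      have hR : finrank k (LinearMap.range (gN π ρ c)) = 4 ∧ finrank k V = 8 := by omega
      have h5 : (5 : k) ≠ 0 := fun h => one_ne_zero (α := k) (by linear_combination 2 * h3 - h)
      obtain ⟨c', U, Z, hc', hU, hUle, hUZ, hZ, hZinv⟩ := C.five_cycle_fix h5 (by omega) (by omega)
      have hker := LinearMap.finrank_range_add_finrank_ker (gN π ρ c)
      have hker' := C.finrank_ker_conj (by omega) hc hc'
      obtain ⟨z, hzZ, hz0, hzker⟩ : ∃ z ∈ Z, z ≠ 0 ∧ gN π ρ c' z = 0 := by
        obtain ⟨z, hz, hz0⟩ := Submodule.exists_mem_ne_zero_of_ne_bot hZ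
        by_cases h1 : gN π ρ c' z = 0
        · exact ⟨z, hz, hz0, h1⟩
        by_cases h2' : gN π ρ c' (gN π ρ c' z) = 0
        · exact ⟨_, hZinv z hz, h1, h2'⟩
        · exact ⟨_, hZinv _ (hZinv z hz), h2', C.gN_cube h3 hc' z⟩
      have h5' : finrank k U + 1 ≤ finrank k (LinearMap.ker (gN π ρ c')) := by
        have h1 : U < LinearMap.ker (gN π ρ c') := lt_of_le_of_ne hUle fun h => hz0 (by
          have hzU : z ∈ U ⊓ Z := ⟨by rw [h]; exact hzker, hzZ⟩
          rwa [hUZ, Submodule.mem_bot] at hzU)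
        exact Submodule.finrank_lt_finrank_of_lt h1
      omega
    · exact Or.inr (C.coverTriv_of_small hr (δ := 7) (fun S hS W hW hlt => h8 S (by omega) W hW hlt) (by omega))
  · -- characteristic prime to three
    by_cases h9 : finrank k V ≤ 9
    swap
    · omega
    rcases C.three_cases h3 hr h9 with hP | ⟨h8, hfix⟩
    · exact Or.inr hP
    have hr10 : 10 ≤ r := by omega
    by_cases h5 : (5 : k) = 0
    · by_cases hr' : r = 10
      · left
        refine ⟨by omega, ?_⟩
        rw [hr']; push_cast; linear_combination 2 * h5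
      · have h2 : (2 : k) ≠ 0 := fun h => one_ne_zero (α := k) (by linear_combination h5 - 2 * h)
        exact Or.inr (C.coverTriv_of_small hr (δ := 7)
          (fun S hS W hW hlt => C.trivial_of_small_eight h2 (by omega) hW (by omega)) (by omega))
    · exact (C.spin_false h5 hr10 h9 hfix).elim

end Cfsg.Agent.AltDegree
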