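import Cfsg.Agent.Lib.AltDegree.Embed
import Cfsg.Agent.Lib.AltDegree.Weights

/-!
In odd characteristic the lifted alternating group on eight letters has no non-trivial action of degree below seven.
-/

set_option autoImplicit false

namespace Cfsg.Agent.AltDegree

open Equiv Equiv.Perm Module

/-- The affine generators on eight points: three translations and a linear map of order seven. -/
def eightT : Fin 3 → Perm (Fin 8) :=
  ![c[(0 : Fin 8), 1] * c[(2 : Fin 8), 3] * c[(4 : Fin 8), 5] * c[(6 : Fin 8), 7],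
    c[(0 : Fin 8), 2] * c[(1 : Fin 8), 3] * c[(4 : Fin 8), 6] * c[(5 : Fin 8), 7],
    c[(0 : Fin 8), 4] * c[(1 : Fin 8), 5] * c[(2 : Fin 8), 6] * c[(3 : Fin 8), 7]]

/-- The linear map of order seven. -/
def eightG : Perm (Fin 8) :=
  c[(1 : Fin 8), 2, 4, 3, 6, 7, 5]

theorem eightT_mem : ∀ i, eightT i ∈ alternatingGroup (Fin 8) := by
  simp only [mem_alternatingGroup]; decide

theorem eightG_mem : eightG ∈ alternatingGroup (Fin 8) := by
  simp only [mem_alternatingGroup]; decide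

theorem eight_facts : (∀ i, eightT i * eightT i = 1) ∧
    eightG * eightT 0 * eightG⁻¹ = eightT 1 ∧ eightG * eightT 1 * eightG⁻¹ = eightT 2 ∧
    eightG * eightT 2 * eightG⁻¹ = eightT 0 * eightT 1 ∧ eightT 0 * eightT 1 = eightT 1 * eightT 0 ∧
    eightT 0 * eightT 2 = eightT 2 * eightT 0 ∧ eightT 1 * eightT 2 = eightT 2 * eightT 1 ∧
    eightT 0 * c[(0 : Fin 8), 2, 4] ≠ c[(0 : Fin 8), 2, 4] * eightT 0 := by
  decide

/-- The induced map on weights. -/
def eightNext (c : Fin 3 → Fin 2) (χ : Fin 3 → Fin 2) : Fin 3 → Fin 2 :=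
  ![c 2 + χ 2 + (c 0 + χ 0), c 0 + χ 0, c 1 + χ 1]

theorem eightNext_facts : ∀ c : Fin 3 → Fin 2, ∀ χ : Fin 3 → Fin 2,
    (eightNext c χ = χ ∧ ∀ χ' : Fin 3 → Fin 2, eightNext c χ' = χ' → χ' = χ) ∨
      ((List.range 7).map fun t => (eightNext c)^[t] χ).Nodup := by
  decide

variable {k V : Type*} [Field k] [AddCommGroup V] [Module k V] {r : ℕ}
  {G : Type*} [Group G] {π : G →* alternatingGroup (Fin r)} {ρ : G →* (V ≃ₗ[k] V)}

theorem Cover.trivial_of_small_eight [IsAlgClosed k] [FiniteDimensional k V] (C : Cover π ρ)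
    (h2 : (2 : k) ≠ 0) {S : Finset (Fin r)} (hS : 8 ≤ S.card) {W : Submodule k V}
    (hW : ∀ g ∈ liftSub π S, ∀ w ∈ W, ρ g w ∈ W) (hdim : finrank k W ≤ 6) :
    ∀ g ∈ liftSub π S, ∀ w ∈ W, ρ g w = w := by
  classical
  obtain ⟨e, he⟩ : ∃ e : Fin 8 ↪ Fin r, ∀ i, e i ∈ S := by
    obtain ⟨T, hT, hT8⟩ := Finset.exists_subset_card_eq hS
    exact ⟨(T.orderEmbOfFin hT8).toEmbedding, fun i => hT (T.orderEmbOfFin_mem hT8 i)⟩
  choose a haS haπ using fun i => C.exists_in_liftSub e he ⟨eightT i, eightT_mem i⟩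
  obtain ⟨g, hgS, hgπ⟩ := C.exists_in_liftSub e he ⟨eightG, eightG_mem⟩
  obtain ⟨f1, f2, f3, f4, f5, f6, f7, f8⟩ := eight_facts
  have hπ : ∀ {x y : G} {u v : alternatingGroup (Fin 8)}, π x = altEmb e u → π y = altEmb e v →
      π (x * y) = altEmb e (u * v) := fun hx hy => by rw [map_mul, hx, hy, map_mul]
  have hconj : ∀ (i : Fin 3) (y : G) (v : alternatingGroup (Fin 8)), π y = altEmb e v →
      eightG * eightT i * eightG⁻¹ = (v : Perm (Fin 8)) → π ((g * a i * g⁻¹) * y⁻¹) = 1 := by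
    intro i y v hy hv
    rw [map_mul, map_mul, map_mul, map_inv, map_inv, hgπ, haπ, hy, ← map_inv, ← map_mul, ← map_mul, ← map_inv,
      ← map_mul]
    rw [show (⟨eightG, eightG_mem⟩ : alternatingGroup (Fin 8)) * ⟨eightT i, eightT_mem i⟩ *
      ⟨eightG, eightG_mem⟩⁻¹ = v from Subtype.ext hv, mul_inv_cancel, map_one]
  obtain ⟨z1, hz1, e1⟩ : ∃ z, π z = 1 ∧ g * a 0 * g⁻¹ = z * a 1 :=
    ⟨_, hconj 0 _ _ (haπ 1) f2, by rw [inv_mul_cancel_right]⟩
  obtain ⟨z2, hz2, e2⟩ : ∃ z, π z = 1 ∧ g * a 1 * g⁻¹ = z * a 2 :=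
    ⟨_, hconj 1 _ _ (haπ 2) f3, by rw [inv_mul_cancel_right]⟩
  obtain ⟨z3, hz3, e3⟩ : ∃ z, π z = 1 ∧ g * a 2 * g⁻¹ = z * (a 0 * a 1) :=
    ⟨_, hconj 2 _ _ (hπ (haπ 0) (haπ 1)) f4, by rw [inv_mul_cancel_right]⟩
  -- the lifts commute
  have hcomm : ∀ i j : Fin 3, a i * a j = a j * a i := by
    have hk : ∀ i j, eightT i * eightT j = eightT j * eightT i → π (a i * a j * (a j * a i)⁻¹) = 1 := by
      intro i j h
      rw [map_mul, map_inv, hπ (haπ i) (haπ j), hπ (haπ j) (haπ i),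
        show (⟨eightT i, eightT_mem i⟩ : alternatingGroup (Fin 8)) * ⟨eightT j, eightT_mem j⟩ =
          ⟨eightT j, eightT_mem j⟩ * ⟨eightT i, eightT_mem i⟩ from Subtype.ext h, mul_inv_cancel]
    set c01 := a 0 * a 1 * (a 1 * a 0)⁻¹ with h01
    set c02 := a 0 * a 2 * (a 2 * a 0)⁻¹ with h02
    set c12 := a 1 * a 2 * (a 2 * a 1)⁻¹ with h12
    have k01 : π c01 = 1 := hk 0 1 f5
    have k02 : π c02 = 1 := hk 0 2 f6
    have k12 : π c12 = 1 := hk 1 2 f7
    have r01 : a 0 * a 1 = c01 * (a 1 * a 0) := by rw [h01, inv_mul_cancel_right]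
    have r02 : a 0 * a 2 = c02 * (a 2 * a 0) := by rw [h02, inv_mul_cancel_right]
    have r12 : a 1 * a 2 = c12 * (a 2 * a 1) := by rw [h12, inv_mul_cancel_right]
    have cz : ∀ {z : G}, π z = 1 → ∀ x, x * z = z * x := fun hz x => C.comm_ker hz x
    have m : ∀ {z z' : G} (x y : G), π z = 1 → π z' = 1 → (z * x) * (z' * y) = z * z' * (x * y) := by
      intro z z' x y hz hz'
      rw [mul_assoc, ← mul_assoc x, cz hz' x, mul_assoc z' x, ← mul_assoc]
    have cj : ∀ x y : G, g * (x * y) * g⁻¹ = (g * x * g⁻¹) * (g * y * g⁻¹) := fun x y => by group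
    have cc : ∀ {z : G}, π z = 1 → g * z * g⁻¹ = z := fun hz => by rw [cz hz g, mul_inv_cancel_right]
    have k : ∀ {c x y x' y' zx zy : G}, π c = 1 → π zx = 1 → π zy = 1 → x * y = c * (y * x) →
        g * x * g⁻¹ = zx * x' → g * y * g⁻¹ = zy * y' → x' * y' = c * (y' * x') := by
      intro c x y x' y' zx zy hc hzx hzy h hx hy
      have := congrArg (fun w => g * w * g⁻¹) h
      simp only [cj, cc hc] at this
      rw [hx, hy, m _ _ hzx hzy, m _ _ hzy hzx, cz hzy zx, ← mul_assoc c, cz hc (zy * zx) |>.symm,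
        mul_assoc (zy * zx)] at this
      exact mul_left_cancel this
    have h12' : a 1 * a 2 = c01 * (a 2 * a 1) := k k01 hz1 hz2 r01 e1 e2
    have e12 : c12 = c01 := mul_right_cancel (r12.symm.trans h12')
    have h102 : a 1 * (a 0 * a 1) = c02 * ((a 0 * a 1) * a 1) := k k02 hz1 hz3 r02 e1 e3
    have h212 : a 2 * (a 0 * a 1) = c12 * ((a 0 * a 1) * a 2) := k k12 hz2 hz3 r12 e2 e3
    have h10 : a 1 * a 0 = c02 * (a 0 * a 1) := mul_right_cancel (b := a 1) (by
      rw [mul_assoc, h102, ← mul_assoc, ← mul_assoc, mul_assoc c02])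
    have e02 : c02 = c01 := by
      have h := r01
      rw [h10, ← mul_assoc c01] at h
      have h1 : c01 * c02 = 1 := mul_right_cancel (b := a 0 * a 1) (by rw [one_mul, ← h])
      calc c02 = c01 * c01 * c02 := by rw [C.small c01 k01, one_mul]
        _ = c01 := by rw [mul_assoc, h1, mul_one]
    have h20 : a 2 * a 0 = c02 * (a 0 * a 2) := by
      rw [r02, ← mul_assoc, C.small c02 k02, one_mul]
    have h21 : a 2 * a 1 = c12 * (a 1 * a 2) := by
      rw [r12, ← mul_assoc, C.small c12 k12, one_mul]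
    have e12' : c12 = 1 := by
      have h : a 2 * (a 0 * a 1) = c02 * c12 * ((a 0 * a 1) * a 2) := by
        rw [← mul_assoc, h20, mul_assoc c02, mul_assoc (a 0), h21, ← mul_assoc (a 0), cz k12 (a 0)]
        simp only [mul_assoc]
      rw [h212, e02, e12, C.small c01 k01, one_mul] at h
      rw [e12]
      exact mul_right_cancel (b := (a 0 * a 1) * a 2) (by rw [one_mul]; exact h)
    have e01 : c01 = 1 := e12 ▸ e12'
    rw [e01] at e02
    intro i j
    fin_cases i <;> fin_cases j <;>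
      first | rfl | simpa [e01] using r01 | simpa [e01] using r01.symm | simpa [e02] using r02 |
        simpa [e02] using r02.symm | simpa [e12'] using r12 | simpa [e12'] using r12.symm
  -- normalised operators on `W`
  obtain ⟨l, hl⟩ : ∃ l : Fin 3 → k, ∀ i, ∀ v, ρ (a i * a i) v = (l i * l i) • v ∧ l i ≠ 0 := by
    have : ∀ i, ∃ l : k, ∀ v, ρ (a i * a i) v = (l * l) • v ∧ l ≠ 0 := fun i => by
      obtain ⟨ε, hε, hεv⟩ := C.scalar (z := a i * a i) (by
        rw [hπ (haπ i) (haπ i), show (⟨eightT i, eightT_mem i⟩ : alternatingGroup (Fin 8)) *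
          ⟨eightT i, eightT_mem i⟩ = 1 from Subtype.ext (f1 i), map_one])
      obtain ⟨l, hl⟩ := IsAlgClosed.exists_eq_mul_self ε
      exact ⟨l, fun v => ⟨by rw [hεv, hl], fun h => by rw [hl, h] at hε; simp at hε⟩⟩
    choose l hl using this
    exact ⟨l, hl⟩
  have hres : ∀ x ∈ liftSub π S, ∀ w ∈ W, (ρ x).toLinearMap w ∈ W := hW
  let A : Fin 3 → Module.End k W := fun i => (l i)⁻¹ • ((ρ (a i)).toLinearMap.restrict (hres _ (haS i)))
  have hA : ∀ i (w : W), (A i w : V) = (l i)⁻¹ • ρ (a i) w := fun i w => rfl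
  have hA2 : ∀ i, A i ^ 2 = 1 := fun i => LinearMap.ext fun w => Subtype.ext <| by
    rw [pow_two, Module.End.mul_apply, hA, hA, map_smul, smul_smul, ← LinearEquiv.mul_apply, ← map_mul,
      (hl i w).1, smul_smul, Module.End.one_apply]
    have := (hl i w).2
    rw [show (l i)⁻¹ * (l i)⁻¹ * (l i * l i) = 1 by field_simp, one_smul]
  have hAc : ∀ i i' w, A i (A i' w) = A i' (A i w) := fun i i' w => Subtype.ext <| by
    rw [hA, hA, hA, hA, map_smul, map_smul, smul_comm, ← LinearEquiv.mul_apply, ← LinearEquiv.mul_apply,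
      ← map_mul, ← map_mul, hcomm i i']
  haveI : NeZero 2 := ⟨two_ne_zero⟩
  have hω : IsPrimitiveRoot (-1 : k) 2 := IsPrimitiveRoot.iff (by norm_num) |>.2
    ⟨by ring, fun l hl0 hl2 => by
      interval_cases l
      rw [pow_one]
      exact fun h => h2 (by linear_combination -h)⟩
  have hm : ((2 : ℕ) : k) ≠ 0 := by exact_mod_cast h2
  let gW : W ≃ₗ[k] W :=
    { (ρ g).toLinearMap.restrict (hres g hgS) with
      invFun := (ρ g⁻¹).toLinearMap.restrict (hres _ (inv_mem hgS))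
      left_inv := fun w => Subtype.ext (by
        show ρ g⁻¹ (ρ g w) = w
        rw [map_inv]; exact (ρ g).symm_apply_apply w)
      right_inv := fun w => Subtype.ext (by
        show ρ g (ρ g⁻¹ w) = w
        rw [map_inv]; exact (ρ g).apply_symm_apply w) }
  intro x hx w hw
  by_cases hw0 : w = 0
  · rw [hw0, map_zero]
  set w₀ : W := ⟨w, hw⟩ with hw₀
  have hw₀0 : w₀ ≠ 0 := fun h => hw0 (congrArg Subtype.val h)
  have hgW : ∀ u : W, (gW u : V) = ρ g u := fun u => rfl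
  -- conjugation permutes the operators up to sign
  have hscal : ∀ (i : Fin 3) (z y : G) (B : Module.End k W) (l' : k), π z = 1 → g * a i * g⁻¹ = z * y →
      (∀ u, B (B u) = u) → (∀ u : W, (B u : V) = l' • ρ y u) →
      ∃ c : Fin 2, ∀ u, B (gW u) = ((-1 : k) ^ (c : ℕ)) • gW (A i u) := by
    intro i z y B l' hz hy hB hBy
    obtain ⟨t, ht, htv⟩ := C.scalar hz
    obtain ⟨s, hs⟩ : ∃ s, s = l' * t * l i := ⟨_, rfl⟩
    have hval : ∀ u, B (gW u) = s • gW (A i u) := fun u => Subtype.ext <| by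
      have h : ρ (z * y) (ρ g (u : V)) = ρ g (ρ (a i) (u : V)) := by
        rw [← hy, ← LinearEquiv.mul_apply, ← map_mul, inv_mul_cancel_right, map_mul, LinearEquiv.mul_apply]
      rw [map_mul, LinearEquiv.mul_apply, htv] at h
      rw [hBy, hgW, Submodule.coe_smul, hgW, hA, map_smul, ← h, smul_smul, smul_smul, hs]
      congr 1
      have hl0 := (hl i (u : V)).2
      have : l' * t * l i * (l i)⁻¹ * t = l' * (t * t) := by field_simp
      rw [this, ht, mul_one]
    have hA2' : ∀ u, A i (A i u) = u := fun u => by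
      rw [← Module.End.mul_apply, ← pow_two, hA2]; rfl
    have h1 := hB (gW w₀)
    rw [hval, map_smul, hval, hA2', smul_smul] at h1
    have hss : s * s = 1 := by
      have h2 : (s * s - 1) • gW w₀ = 0 := by rw [sub_smul, one_smul, h1, sub_self]
      exact sub_eq_zero.1 ((smul_eq_zero.1 h2).resolve_right fun h => hw₀0 (gW.injective (h.trans (map_zero _).symm)))
    rcases mul_self_eq_one_iff.1 hss with h | h
    · exact ⟨0, fun u => by rw [hval, h, Fin.val_zero, pow_zero]⟩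
    · exact ⟨1, fun u => by rw [hval, h, Fin.val_one, pow_one]⟩
  have hA2' : ∀ i u, A i (A i u) = u := fun i u => by rw [← Module.End.mul_apply, ← pow_two, hA2]; rfl
  obtain ⟨c0, hc0⟩ := hscal 0 z1 (a 1) (A 1) _ hz1 e1 (hA2' 1) (hA 1)
  obtain ⟨c1, hc1⟩ := hscal 1 z2 (a 2) (A 2) _ hz2 e2 (hA2' 2) (hA 2)
  obtain ⟨c2, hc2⟩ := hscal 2 z3 (a 0 * a 1) (A 0 * A 1) ((l 0)⁻¹ * (l 1)⁻¹) hz3 e3
    (fun u => by simp only [Module.End.mul_apply]; rw [hAc 1 0, hA2', hA2'])
    (fun u => by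
      rw [Module.End.mul_apply, hA, hA, map_smul, smul_smul, map_mul, LinearEquiv.mul_apply])
  set cc : Fin 3 → Fin 2 := ![c0, c1, c2] with hcc
  have hadd : ∀ p q : Fin 2, (-1 : k) ^ ((p + q : Fin 2) : ℕ) = (-1) ^ (p : ℕ) * (-1) ^ (q : ℕ) := fun p q => by
    fin_cases p <;> fin_cases q <;> simp
  have hnext : ∀ χ : Fin 3 → Fin 2, finrank k (wSpace A (-1) χ) ≤ finrank k (wSpace A (-1) (eightNext cc χ)) := by
    intro χ
    refine finrank_wSpace_map (g := gW) fun i v hv => ?_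
    rw [mem_wSpace] at hv
    have p1 : A 1 (gW v) = ((-1 : k) ^ ((c0 + χ 0 : Fin 2) : ℕ)) • gW v := by
      rw [hc0, hv 0, map_smul, smul_smul, hadd]
    have p2 : A 2 (gW v) = ((-1 : k) ^ ((c1 + χ 1 : Fin 2) : ℕ)) • gW v := by
      rw [hc1, hv 1, map_smul, smul_smul, hadd]
    have p3 : A 0 (A 1 (gW v)) = ((-1 : k) ^ ((c2 + χ 2 : Fin 2) : ℕ)) • gW v := by
      rw [show A 0 (A 1 (gW v)) = (A 0 * A 1) (gW v) from rfl, hc2, hv 2, map_smul, smul_smul, hadd]
    fin_cases i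
    · show A 0 (gW v) = ((-1 : k) ^ ((c2 + χ 2 + (c0 + χ 0) : Fin 2) : ℕ)) • gW v
      rw [p1, map_smul] at p3
      rw [hadd, mul_comm, mul_smul, ← p3, smul_smul, ← pow_add, ← two_mul, pow_mul, neg_one_sq, one_pow,
        one_smul]
    · exact p1
    · exact p2
  have hspan : ∀ u : W, u ∈ ⨆ χ : Fin 3 → Fin 2, wSpace A (-1) χ := mem_iSup_wSpace hω hm A hA2 hAc
  -- only one weight
  obtain ⟨χ₀, hχ₀⟩ : ∃ χ₀ : Fin 3 → Fin 2, ∀ χ, 0 < finrank k (wSpace A (-1) χ) → χ = χ₀ := by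
    have hfix : ∀ χ, 0 < finrank k (wSpace A (-1) χ) →
        eightNext cc χ = χ ∧ ∀ χ', eightNext cc χ' = χ' → χ' = χ := by
      intro χ hχ
      rcases eightNext_facts cc χ with h | h
      · exact h
      · exfalso
        set O := ((List.range 7).map fun t => (eightNext cc)^[t] χ).toFinset with hO
        have hcard : O.card = 7 := by rw [hO, List.toFinset_card_of_nodup h]; simp
        have hpos : ∀ χ' ∈ O, 1 ≤ finrank k (wSpace A (-1) χ') := by
          intro χ' hχ'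
          rw [hO, List.mem_toFinset, List.mem_map] at hχ'
          obtain ⟨t, -, rfl⟩ := hχ'
          clear h
          induction t with
          | zero => exact hχ
          | succ t ih => rw [Function.iterate_succ_apply']; exact ih.trans (hnext _)
        have h1 := Finset.card_nsmul_le_sum O _ 1 hpos
        have h2 := sum_finrank_wSpace_le (k := k) hω A O ⊤ fun _ _ => le_top
        rw [finrank_top] at h2
        rw [smul_eq_mul, mul_one, hcard] at h1
        omega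
    by_cases hex : ∃ χ : Fin 3 → Fin 2, 0 < finrank k (wSpace A (-1) χ)
    · obtain ⟨χ₀, h⟩ := hex
      exact ⟨χ₀, fun χ hχ => (hfix χ₀ h).2 χ (hfix χ hχ).1⟩
    · exact ⟨fun _ => 0, fun χ hχ => absurd ⟨χ, hχ⟩ hex⟩
  have hscalar : ∀ u : W, A 0 u = ((-1 : k) ^ (χ₀ 0 : ℕ)) • u := by
    intro u
    have hle : (⨆ χ : Fin 3 → Fin 2, wSpace A (-1) χ) ≤ wSpace A (-1) χ₀ := iSup_le fun χ v hv => by
      by_cases hv0 : v = 0
      · rw [hv0]; exact zero_mem _
      · rwa [← hχ₀ χ (finrank_pos_of_ne_zero hv hv0)]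
    exact mem_wSpace.1 (hle (hspan u)) 0
  -- so a commutator with a translation acts trivially
  obtain ⟨μ, hμ⟩ : ∃ μ : k, ∀ u ∈ W, ρ (a 0) u = μ • u := ⟨l 0 * (-1) ^ (χ₀ 0 : ℕ), fun u hu => by
    have h := congrArg Subtype.val (hscalar ⟨u, hu⟩)
    rw [hA, Submodule.coe_smul] at h
    rw [mul_smul, ← h, smul_smul, mul_inv_cancel₀ (hl 0 u).2, one_smul]⟩
  have hc3mem : c[(0 : Fin 8), 2, 4] ∈ alternatingGroup (Fin 8) := by
    rw [mem_alternatingGroup]; decide
  obtain ⟨y, hyS, hyπ⟩ := C.exists_in_liftSub e he ⟨_, hc3mem⟩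
  refine C.trivial_of_kernel (by omega) hW (a := a 0 * y * (a 0)⁻¹ * y⁻¹)
    (mul_mem (mul_mem (mul_mem (haS 0) hyS) (inv_mem (haS 0))) (inv_mem hyS)) (fun u hu => ?_) ?_ x hx w hw
  · have hu1 := hW _ (inv_mem hyS) u hu
    have hu2 := hW _ (inv_mem (haS 0)) _ hu1
    have h3 : ρ (a 0) (ρ (a 0)⁻¹ (ρ y⁻¹ u)) = ρ y⁻¹ u := by
      rw [map_inv (ρ) (a 0)]; exact (ρ (a 0)).apply_symm_apply _
    rw [hμ _ hu2] at h3
    simp only [map_mul, LinearEquiv.mul_apply]
    rw [hμ _ (hW _ hyS _ hu2), ← map_smul, h3, map_inv]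
    exact (ρ y).apply_symm_apply u
  · intro h
    rw [map_mul, map_mul, map_mul, map_inv, map_inv, haπ, hyπ, mul_inv_eq_one, mul_inv_eq_iff_eq_mul,
      ← map_mul, ← map_mul] at h
    exact f8 (congrArg (fun q : alternatingGroup (Fin 8) => (q : Perm (Fin 8))) (altEmb_injective e h))

end Cfsg.Agent.AltDegree
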