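import Cfsg.Agent.Lib.AltDegree.Lift

/-!
Small permutations carried into the alternating group by an embedding.
-/

set_option autoImplicit false

namespace Cfsg.Agent.AltDegree

open Equiv Equiv.Perm

variable {r j : ℕ}

/-- An alternating group carried by an embedding. -/
noncomputable def altEmb (e : Fin j ↪ Fin r) : alternatingGroup (Fin j) →* alternatingGroup (Fin r) :=
  ((Equiv.Perm.viaEmbeddingHom e).comp (alternatingGroup (Fin j)).subtype).codRestrict _ fun x =>
    mem_alternatingGroup.2 (by
      rw [MonoidHom.comp_apply, Equiv.Perm.viaEmbeddingHom_apply, Equiv.Perm.viaEmbedding,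
        Equiv.Perm.sign_extendDomain]
      exact mem_alternatingGroup.1 x.2)

theorem altEmb_apply (e : Fin j ↪ Fin r) (x : alternatingGroup (Fin j)) (i : Fin j) :
    ((altEmb e x : alternatingGroup (Fin r)) : Perm (Fin r)) (e i) = e ((x : Perm (Fin j)) i) :=
  Equiv.Perm.viaEmbedding_apply _ e i

theorem altEmb_support (e : Fin j ↪ Fin r) (x : alternatingGroup (Fin j)) :
    ((altEmb e x : alternatingGroup (Fin r)) : Perm (Fin r)).support = (x : Perm (Fin j)).support.map e := by
  ext y
  rw [mem_support, Finset.mem_map]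
  by_cases hy : y ∈ Set.range e
  · obtain ⟨i, rfl⟩ := hy
    rw [altEmb_apply]
    constructor
    · exact fun h => ⟨i, mem_support.2 fun h' => h (by rw [h']), rfl⟩
    · rintro ⟨i', hi', he⟩ h
      obtain rfl := e.injective he
      exact mem_support.1 hi' (e.injective h)
  · rw [show ((altEmb e x : alternatingGroup (Fin r)) : Perm (Fin r)) y = y from
      Equiv.Perm.viaEmbedding_apply_of_notMem _ e y hy]
    exact ⟨fun h => absurd rfl h, fun ⟨i, _, hi⟩ => absurd ⟨i, hi⟩ hy⟩

theorem altEmb_isThreeCycle (e : Fin j ↪ Fin r) {x : alternatingGroup (Fin j)}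
    (hx : (x : Perm (Fin j)).IsThreeCycle) :
    ((altEmb e x : alternatingGroup (Fin r)) : Perm (Fin r)).IsThreeCycle := by
  rw [← card_support_eq_three_iff, altEmb_support, Finset.card_map]
  exact hx.card_support

theorem altEmb_injective (e : Fin j ↪ Fin r) : Function.Injective (altEmb e) := fun x y h => by
  apply Subtype.ext
  ext i
  have := altEmb_apply e x i
  rw [h, altEmb_apply] at this
  rw [e.injective this]

section Lifts

variable {k V : Type*} [Field k] [AddCommGroup V] [Module k V] {G : Type*} [Group G]
  {π : G →* alternatingGroup (Fin r)} {ρ : G →* (V ≃ₗ[k] V)}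

theorem Cover.exists_in_liftSub (C : Cover π ρ) {S : Finset (Fin r)} (e : Fin j ↪ Fin r) (he : ∀ i, e i ∈ S)
    (x : alternatingGroup (Fin j)) : ∃ g ∈ liftSub π S, π g = altEmb e x := by
  have h : altEmb e x ∈ (liftSub π S).map π := by
    rw [C.map_liftSub]
    refine mem_closure_cycIn fun y hy => ?_
    rw [altEmb_support, Finset.mem_map] at hy
    obtain ⟨i, -, rfl⟩ := hy
    exact he i
  exact h

end Lifts

end Cfsg.Agent.AltDegree
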