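import Cfsg.Agent.Lib.AltDegree.Perm

/-!
Lifts of three-cycles in a small central cover acting irreducibly.
-/

set_option autoImplicit false

namespace Cfsg.Agent.AltDegree

open Equiv Equiv.Perm Module

variable {k V : Type*} [Field k] [AddCommGroup V] [Module k V] {r : ℕ}
variable {G : Type*} [Group G]

/-- A minimal cover of an alternating group with small central kernel and a faithful irreducible action. -/
structure Cover (π : G →* alternatingGroup (Fin r)) (ρ : G →* (V ≃ₗ[k] V)) : Prop where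
  surj : Function.Surjective π
  central : π.ker ≤ Subgroup.center G
  small : ∀ z ∈ π.ker, z * z = 1
  minimal : ∀ M : Subgroup G, M.map π = ⊤ → M = ⊤
  inj : Function.Injective ρ
  irr : ∀ W : Submodule k V, (∀ g, ∀ w ∈ W, ρ g w ∈ W) → W = ⊥ ∨ W = ⊤

variable {π : G →* alternatingGroup (Fin r)} {ρ : G →* (V ≃ₗ[k] V)}

namespace Cover

variable (C : Cover π ρ)

include C

theorem comm_ker {z : G} (hz : π z = 1) (g : G) : g * z = z * g :=
  Subgroup.mem_center_iff.1 (C.central hz) g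

theorem scalar {z : G} (hz : π z = 1) : ∃ e : k, e * e = 1 ∧ ∀ v, ρ z v = e • v := by
  have h2 : ∀ v, ρ z (ρ z v) = v := fun v => by
    rw [← LinearEquiv.mul_apply, ← map_mul, C.small z hz, map_one]; rfl
  let W : Submodule k V := LinearMap.ker ((ρ z).toLinearMap - LinearMap.id)
  have hW : ∀ v, v ∈ W ↔ ρ z v = v := fun v => by simp [W, sub_eq_zero]
  rcases C.irr W (fun g w hw => by
    rw [hW] at hw ⊢
    rw [← LinearEquiv.mul_apply, ← map_mul, ← C.comm_ker hz g, map_mul, LinearEquiv.mul_apply, hw]) with h | h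
  · refine ⟨-1, by ring, fun v => ?_⟩
    have : ρ z v + v ∈ W := by rw [hW, map_add, h2, add_comm]
    rw [h, Submodule.mem_bot, add_eq_zero_iff_eq_neg] at this
    rw [this, neg_one_smul]
  · exact ⟨1, by ring, fun v => by rw [one_smul, ← hW, h]; trivial⟩

theorem exists_lift {m : ℕ} (hm : Odd m) (σ : alternatingGroup (Fin r)) (hσ : σ ^ m = 1) :
    ∃ g, π g = σ ∧ g ^ m = 1 := by
  obtain ⟨g, hg⟩ := C.surj σ
  refine ⟨g ^ (m + 1), by rw [map_pow, hg, pow_succ, hσ, one_mul], ?_⟩
  obtain ⟨j, hj⟩ := hm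
  have hz : g ^ m * g ^ m = 1 := C.small _ (by rw [MonoidHom.mem_ker, map_pow, hg, hσ])
  rw [← pow_mul, show (m + 1) * m = (m + m) * (j + 1) by rw [hj]; ring, pow_mul, pow_add g m m, hz, one_pow]

theorem lift_unique {m : ℕ} (hm : Odd m) {g g' : G} (h : π g = π g') (hg : g ^ m = 1) (hg' : g' ^ m = 1) :
    g = g' := by
  obtain ⟨j, hj⟩ := hm
  have hk : π (g'⁻¹ * g) = 1 := by rw [map_mul, map_inv, h, inv_mul_cancel]
  set z := g'⁻¹ * g with hz
  have e : g = g' * z := by rw [hz, mul_inv_cancel_left]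
  have h1 : g ^ m = g' ^ m * z ^ m := by rw [e]; exact (show Commute g' z from C.comm_ker hk g').mul_pow m
  rw [hg, hg', one_mul] at h1
  have h2 : z ^ m = z := by
    rw [hj, pow_succ, pow_mul, pow_two, C.small z hk, one_pow, one_mul]
  rw [h2] at h1
  rw [e, ← h1, mul_one]

end Cover

/-- The lift of order three. -/
noncomputable def lift3 (π : G →* alternatingGroup (Fin r)) (σ : alternatingGroup (Fin r)) : G :=
  (Function.invFun π σ) ^ 4

theorem pow_three_of_cyc {σ : alternatingGroup (Fin r)} (h : (σ : Perm (Fin r)).IsThreeCycle) : σ ^ 3 = 1 := by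
  apply Subtype.ext
  rw [Subgroup.coe_pow, Subgroup.coe_one, ← h.orderOf, pow_orderOf_eq_one]

/-- The lifted alternating group on `S`. -/
noncomputable def liftSub (π : G →* alternatingGroup (Fin r)) (S : Finset (Fin r)) : Subgroup G :=
  Subgroup.closure (lift3 π '' cycIn S)

namespace Cover

variable (C : Cover π ρ)

include C

theorem π_lift3 {σ : alternatingGroup (Fin r)} (h : σ ^ 3 = 1) : π (lift3 π σ) = σ := by
  rw [lift3, map_pow, Function.invFun_eq (C.surj σ), pow_succ, h, one_mul]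

theorem lift3_pow {σ : alternatingGroup (Fin r)} (h : σ ^ 3 = 1) : lift3 π σ ^ 3 = 1 := by
  have hz := C.small (Function.invFun π σ ^ 3)
    (by rw [MonoidHom.mem_ker, map_pow, Function.invFun_eq (C.surj σ), h])
  rw [lift3, ← pow_mul, show 4 * 3 = (3 + 3) * 2 by rfl, pow_mul, pow_add, hz, one_pow]

theorem eq_lift3 {σ : alternatingGroup (Fin r)} (h : σ ^ 3 = 1) {g : G} (hg : π g = σ) (hg3 : g ^ 3 = 1) :
    g = lift3 π σ :=
  C.lift_unique ⟨1, rfl⟩ (by rw [hg, C.π_lift3 h]) hg3 (C.lift3_pow h)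

theorem conj_lift3 {σ : alternatingGroup (Fin r)} (h : σ ^ 3 = 1) (g : G) :
    g * lift3 π σ * g⁻¹ = lift3 π (π g * σ * (π g)⁻¹) :=
  C.eq_lift3 (by rw [conj_pow, h, mul_one, mul_inv_cancel]) (by rw [map_mul, map_mul, map_inv, C.π_lift3 h])
    (by rw [conj_pow, C.lift3_pow h, mul_one, mul_inv_cancel])

theorem lift3_commute {c d : alternatingGroup (Fin r)} (hc : c ^ 3 = 1) (hd : d ^ 3 = 1) (h : c * d = d * c) :
    lift3 π c * lift3 π d = lift3 π d * lift3 π c := by
  have := C.conj_lift3 hd (lift3 π c)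
  rw [C.π_lift3 hc, h, mul_inv_cancel_right, mul_inv_eq_iff_eq_mul] at this
  exact this

theorem map_liftSub (S : Finset (Fin r)) : (liftSub π S).map π = Subgroup.closure (cycIn S) := by
  rw [liftSub, MonoidHom.map_closure, ← Set.image_comp]
  congr 1
  exact Set.EqOn.image_eq_self fun σ hσ => C.π_lift3 (pow_three_of_cyc hσ.1)

theorem liftSub_univ : liftSub π (Finset.univ : Finset (Fin r)) = ⊤ :=
  C.minimal _ (eq_top_iff.2 fun g _ => by rw [C.map_liftSub]; exact mem_closure_univ g)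

theorem conj_mem_liftSub {S : Finset (Fin r)} {g : G} (hg : S.image (π g : Perm (Fin r)) ⊆ S) {x : G}
    (hx : x ∈ liftSub π S) : g * x * g⁻¹ ∈ liftSub π S := by
  have h : liftSub π S ≤ (liftSub π S).comap (MulAut.conj g).toMonoidHom := by
    refine (Subgroup.closure_le _).2 ?_
    rintro _ ⟨c, hc, rfl⟩
    show g * lift3 π c * g⁻¹ ∈ liftSub π S
    rw [C.conj_lift3 (pow_three_of_cyc hc.1)]
    exact Subgroup.subset_closure ⟨_, cycIn_mono hg (conj_mem_cycIn hc _), rfl⟩
  exact h hx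

theorem lift3_mem_center_of {S : Finset (Fin r)} {c : alternatingGroup (Fin r)}
    (hc : (c : Perm (Fin r)).IsThreeCycle) (hd : _root_.Disjoint (c : Perm (Fin r)).support S) {g : G}
    (hg : g ∈ liftSub π S) : g * lift3 π c = lift3 π c * g := by
  induction hg using Subgroup.closure_induction with
  | mem x hx =>
    obtain ⟨d, hd', rfl⟩ := hx
    refine C.lift3_commute (pow_three_of_cyc hd'.1) (pow_three_of_cyc hc) (Subtype.ext ?_)
    exact ((Equiv.Perm.disjoint_iff_disjoint_support.2 (hd.mono_right hd'.2)).commute.eq).symm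
  | one => simp
  | mul a b _ _ ha hb => rw [mul_assoc, hb, ← mul_assoc, ha, mul_assoc]
  | inv a _ ha => exact (Commute.inv_left ha).eq

/-- A kernel element with non-trivial image forces trivial action. -/
theorem trivial_of_kernel {S : Finset (Fin r)} (hS : 5 ≤ S.card) {W : Submodule k V}
    (hW : ∀ g ∈ liftSub π S, ∀ w ∈ W, ρ g w ∈ W) {a : G} (ha : a ∈ liftSub π S) (hat : ∀ w ∈ W, ρ a w = w)
    (hne : π a ≠ 1) : ∀ g ∈ liftSub π S, ∀ w ∈ W, ρ g w = w := by
  classical
  let T : Subgroup G :=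
    { carrier := {g | ∀ w ∈ W, ρ g w = w}
      one_mem' := fun w _ => by simp
      mul_mem' := fun {a b} ha hb w hw => by rw [map_mul, LinearEquiv.mul_apply, hb w hw, ha w hw]
      inv_mem' := fun {a} ha w hw => by
        rw [map_inv]; show (ρ a).symm w = w
        rw [LinearEquiv.symm_apply_eq, ha w hw] }
  have hnorm : ∀ g ∈ liftSub π S, ∀ t ∈ T ⊓ liftSub π S, g * t * g⁻¹ ∈ T ⊓ liftSub π S := by
    rintro g hg t ⟨ht, htS⟩
    refine ⟨fun w hw => ?_, (liftSub π S).mul_mem ((liftSub π S).mul_mem hg htS) ((liftSub π S).inv_mem hg)⟩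
    have h1 := ht _ (hW _ (inv_mem hg) w hw)
    rw [map_mul, map_mul, LinearEquiv.mul_apply, LinearEquiv.mul_apply, h1, ← LinearEquiv.mul_apply, ← map_mul,
      mul_inv_cancel, map_one]
    rfl
  -- inside the alternating group on `S`
  let ι := alternatingGroup.ofSubtype (α := Fin r) S
  set N : Subgroup (alternatingGroup S) := ((T ⊓ liftSub π S).map π).comap ι with hN
  have hmem : ∀ g ∈ liftSub π S, ∃ y, ι y = π g := fun g hg => by
    refine (alternatingGroup.mem_range_ofSubtype_iff S (π g)).2 ?_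
    have hg' : π g ∈ Subgroup.closure (cycIn S) := by rw [← C.map_liftSub]; exact Subgroup.mem_map_of_mem π hg
    have hle : Subgroup.closure (cycIn S) ≤ ι.range := (Subgroup.closure_le _).2 fun c hc =>
      (alternatingGroup.mem_range_ofSubtype_iff S c).2 hc.2
    exact (alternatingGroup.mem_range_ofSubtype_iff S _).1 (hle hg')
  haveI : N.Normal := ⟨by
    intro x hx y
    obtain ⟨t, ht, htx⟩ := hx
    obtain ⟨g, hg, hgy⟩ : ι y ∈ (liftSub π S).map π := by
      rw [C.map_liftSub]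
      exact mem_closure_cycIn ((alternatingGroup.mem_range_ofSubtype_iff S _).1 ⟨y, rfl⟩)
    exact ⟨g * t * g⁻¹, hnorm g hg t ht, by rw [map_mul, map_mul, map_inv, hgy, htx, map_mul, map_mul, map_inv]⟩⟩
  haveI : IsSimpleGroup (alternatingGroup S) := alternatingGroup.isSimpleGroup (by simpa using hS)
  have hNtop : N = ⊤ := by
    refine (Subgroup.Normal.eq_bot_or_eq_top inferInstance).resolve_left fun h => hne ?_
    obtain ⟨y, hy⟩ := hmem a ha
    have : y ∈ N := ⟨a, ⟨hat, ha⟩, hy.symm⟩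
    rw [h, Subgroup.mem_bot] at this
    rw [← hy, this, map_one]
  suffices liftSub π S ≤ T from fun g hg => this hg
  refine (Subgroup.closure_le _).2 ?_
  rintro _ ⟨c, hc, rfl⟩
  obtain ⟨y, hy⟩ := (alternatingGroup.mem_range_ofSubtype_iff S c).2 hc.2
  obtain ⟨t, ht, hty⟩ : y ∈ N := by rw [hNtop]; trivial
  have h3 := pow_three_of_cyc hc.1
  have htc : π t = c := hty.trans hy
  have e : lift3 π c = t ^ 4 := by
    refine (C.eq_lift3 h3 ?_ ?_).symm
    · rw [map_pow, htc, pow_succ, h3, one_mul]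
    · rw [← pow_mul, show 4 * 3 = (3 + 3) * 2 by rfl, pow_mul, pow_add,
        C.small _ (by rw [MonoidHom.mem_ker, map_pow, htc, h3]), one_pow]
  rw [e]
  exact T.pow_mem ht.1 4

end Cover

/-- A commutator of three-cycles supported in `S` which is not trivial. -/
theorem exists_noncommuting {S : Finset (Fin r)} (hS : 4 ≤ S.card) :
    ∃ c ∈ cycIn S, ∃ d ∈ cycIn S, c * d ≠ d * c := by
  obtain ⟨T, hT, hT4⟩ := Finset.exists_subset_card_eq hS
  obtain ⟨a, b, c, d, ab, ac, ad, bc, bd, cd, rfl⟩ := Finset.card_eq_four.1 hT4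
  obtain ⟨g, hg, hgs, g1, g2, g3⟩ := exists_c3 ab ac bc
  obtain ⟨h, hh, hhs, h1, h2, h3⟩ := exists_c3 ab ad bd
  simp only [Finset.insert_subset_iff, Finset.singleton_subset_iff] at hT
  refine ⟨g, ⟨hg, by rw [hgs]; simp [Finset.insert_subset_iff, hT]⟩, h,
    ⟨hh, by rw [hhs]; simp [Finset.insert_subset_iff, hT]⟩, fun e => ?_⟩
  have := congrArg (fun x : alternatingGroup (Fin r) => (x : Perm (Fin r)) a) e
  simp only [Subgroup.coe_mul, Equiv.Perm.mul_apply, g1, h1, g2, h2] at this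
  exact cd this

namespace Cover

variable (C : Cover π ρ)

include C

/-- If the commutators act trivially on `W`, everything does. -/
theorem trivial_of_comm {S : Finset (Fin r)} (hS : 5 ≤ S.card) {W : Submodule k V}
    (hW : ∀ g ∈ liftSub π S, ∀ w ∈ W, ρ g w ∈ W)
    (hcomm : ∀ g ∈ liftSub π S, ∀ h ∈ liftSub π S, ∀ w ∈ W, ρ g (ρ h w) = ρ h (ρ g w)) :
    ∀ g ∈ liftSub π S, ∀ w ∈ W, ρ g w = w := by
  obtain ⟨c, hc, d, hd, hne⟩ := exists_noncommuting (show 4 ≤ S.card by omega)
  have hx : lift3 π c ∈ liftSub π S := Subgroup.subset_closure ⟨c, hc, rfl⟩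
  have hy : lift3 π d ∈ liftSub π S := Subgroup.subset_closure ⟨d, hd, rfl⟩
  refine C.trivial_of_kernel hS hW
    (a := lift3 π c * lift3 π d * (lift3 π c)⁻¹ * (lift3 π d)⁻¹)
    (mul_mem (mul_mem (mul_mem hx hy) (inv_mem hx)) (inv_mem hy)) (fun w hw => ?_) fun h => hne ?_
  · have hw1 := hW _ (inv_mem hy) w hw
    simp only [map_mul, LinearEquiv.mul_apply]
    rw [hcomm _ hy _ (inv_mem hx) _ hw1]
    simp only [← LinearEquiv.mul_apply, ← map_mul]
    simp
  · rw [map_mul, map_mul, map_mul, map_inv, map_inv, C.π_lift3 (pow_three_of_cyc hc.1),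
      C.π_lift3 (pow_three_of_cyc hd.1), mul_inv_eq_one, mul_inv_eq_iff_eq_mul] at h
    exact h

end Cover

end Cfsg.Agent.AltDegree
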