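import Cfsg.Agent.Lib.AltDegree.Perm

/-!
Representations of alternating groups in which disjoint three-cycles fix each other's moved spaces:
the degree is at least that of the natural module.
-/

set_option autoImplicit false

namespace Cfsg.Agent.AltDegree

open Equiv Equiv.Perm Module

variable {k V : Type*} [Field k] [AddCommGroup V] [Module k V] {r : ℕ}

/-- `τ g - 1`. -/
def dN (τ : alternatingGroup (Fin r) →* (V ≃ₗ[k] V)) (g : alternatingGroup (Fin r)) : Module.End k V :=
  (τ g).toLinearMap - LinearMap.id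

/-- The space moved by the three-cycles inside `T`. -/
def mD (τ : alternatingGroup (Fin r) →* (V ≃ₗ[k] V)) (T : Finset (Fin r)) : Submodule k V :=
  ⨆ c ∈ cycIn T, LinearMap.range (dN τ c)

variable {τ : alternatingGroup (Fin r) →* (V ≃ₗ[k] V)}

theorem dN_apply (g : alternatingGroup (Fin r)) (v : V) : dN τ g v = τ g v - v := rfl

theorem range_le_mD {T : Finset (Fin r)} {c : alternatingGroup (Fin r)} (hc : c ∈ cycIn T) :
    LinearMap.range (dN τ c) ≤ mD τ T :=
  le_iSup₂ (f := fun c (_ : c ∈ cycIn T) => LinearMap.range (dN τ c)) c hc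

theorem mD_le {T : Finset (Fin r)} {W : Submodule k V}
    (h : ∀ c ∈ cycIn T, LinearMap.range (dN τ c) ≤ W) : mD τ T ≤ W :=
  iSup₂_le h

theorem mD_mono {T U : Finset (Fin r)} (h : T ⊆ U) : mD τ T ≤ mD τ U :=
  mD_le fun _ hc => range_le_mD (cycIn_mono h hc)

/-- Elements moving everything into `W`. -/
def intoSub (τ : alternatingGroup (Fin r) →* (V ≃ₗ[k] V)) (W : Submodule k V) :
    Subgroup (alternatingGroup (Fin r)) where
  carrier := {g | ∀ v, τ g v - v ∈ W}
  one_mem' v := by simp
  mul_mem' {a b} ha hb v := by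
    have := W.add_mem (ha (τ b v)) (hb v)
    rwa [sub_add_sub_cancel, show τ a (τ b v) = τ (a * b) v by rw [map_mul]; rfl] at this
  inv_mem' {a} ha v := by
    have := W.neg_mem (ha (τ a⁻¹ v))
    rwa [neg_sub, show τ a (τ a⁻¹ v) = v by rw [map_inv]; exact (τ a).apply_symm_apply v] at this

theorem mem_intoSub {W : Submodule k V} {g : alternatingGroup (Fin r)} :
    g ∈ intoSub τ W ↔ LinearMap.range (dN τ g) ≤ W :=
  ⟨fun h => by rintro _ ⟨v, rfl⟩; exact h v, fun h v => h ⟨v, rfl⟩⟩

theorem range_le_of_closure {S : Set (alternatingGroup (Fin r))} {W : Submodule k V}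
    (h : ∀ c ∈ S, LinearMap.range (dN τ c) ≤ W) {g : alternatingGroup (Fin r)}
    (hg : g ∈ Subgroup.closure S) : LinearMap.range (dN τ g) ≤ W :=
  mem_intoSub.1 ((Subgroup.closure_le _).2 (fun c hc => mem_intoSub.2 (h c hc)) hg)

theorem map_mD (g : alternatingGroup (Fin r)) (T : Finset (Fin r)) :
    (mD τ T).map (τ g).toLinearMap ≤ mD τ (T.image (g : Perm (Fin r))) := by
  rw [Submodule.map_le_iff_le_comap]
  refine mD_le fun c hc => ?_
  rintro _ ⟨v, rfl⟩
  refine range_le_mD (conj_mem_cycIn hc g) ⟨τ g v, ?_⟩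
  simp [dN_apply, map_mul, map_inv]

theorem apply_mem_mD {g : alternatingGroup (Fin r)} {T : Finset (Fin r)} {v : V} (hv : v ∈ mD τ T) :
    τ g v ∈ mD τ (T.image (g : Perm (Fin r))) :=
  map_mD g T ⟨v, hv, rfl⟩

/-- Disjoint three-cycles fix each other's moved spaces. -/
def IsDisjointTriv (τ : alternatingGroup (Fin r) →* (V ≃ₗ[k] V)) : Prop :=
  ∀ c d : alternatingGroup (Fin r), (c : Perm (Fin r)).IsThreeCycle → (d : Perm (Fin r)).IsThreeCycle →
    _root_.Disjoint (c : Perm (Fin r)).support (d : Perm (Fin r)).support → ∀ v, τ d (dN τ c v) = dN τ c v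

theorem fix_mD (hP : IsDisjointTriv τ) {T : Finset (Fin r)} {g : alternatingGroup (Fin r)}
    (hg : (g : Perm (Fin r)).support ⊆ Tᶜ) {v : V} (hv : v ∈ mD τ T) : τ g v = v := by
  have h := mem_closure_cycIn hg
  clear hg
  revert v
  induction h using Subgroup.closure_induction with
  | mem d hd =>
    intro v hv
    have hle : mD τ T ≤ LinearMap.ker (dN τ d) := mD_le fun c hc => by
      rintro _ ⟨w, rfl⟩
      rw [LinearMap.mem_ker, dN_apply, hP c d hc.1 hd.1 ?_ w, sub_self]
      exact (disjoint_compl_right : _root_.Disjoint T Tᶜ).mono hc.2 hd.2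
    have := hle hv
    rwa [LinearMap.mem_ker, dN_apply, sub_eq_zero] at this
  | one => intro v _; simp
  | mul a b _ _ ha hb => intro v hv; rw [map_mul]; show τ a (τ b v) = v; rw [hb hv, ha hv]
  | inv a _ ha =>
    intro v hv
    rw [map_inv]
    show (τ a).symm v = v
    rw [LinearEquiv.symm_apply_eq, ha hv]

variable [FiniteDimensional k V]

/-- No invariant subspace. -/
def IsIrr (τ : alternatingGroup (Fin r) →* (V ≃ₗ[k] V)) : Prop :=
  ∀ W : Submodule k V, (∀ g, ∀ w ∈ W, τ g w ∈ W) → W = ⊥ ∨ W = ⊤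

theorem inj_two {α : Type*} {a b : α} (h : a ≠ b) : Function.Injective ![a, b] := by
  intro i j hij
  fin_cases i <;> fin_cases j <;> first | rfl | exact absurd hij h | exact absurd hij h.symm

theorem inj_three {α : Type*} {a b c : α} (ab : a ≠ b) (ac : a ≠ c) (bc : b ≠ c) :
    Function.Injective ![a, b, c] := by
  intro i j hij
  fin_cases i <;> fin_cases j <;>
    first | rfl | exact absurd hij ab | exact absurd hij ab.symm | exact absurd hij ac | exact absurd hij ac.symm |
      exact absurd hij bc | exact absurd hij bc.symm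

/-- A dependence among the difference vectors forces the characteristic to divide the degree. -/
theorem char_dvd_aux (hr : 9 ≤ r) (hirr : IsIrr τ) (u : Fin r → Fin r → V) (u₀ : V)
    (u_map : ∀ (g : alternatingGroup (Fin r)) a b, τ g (u a b) = u ((g : Perm (Fin r)) a) ((g : Perm (Fin r)) b))
    (u_self : ∀ a, u a a = 0) (u_anti : ∀ a b, u b a = -u a b)
    (u_tri : ∀ a b c, a ≠ b → a ≠ c → b ≠ c → u a b + u b c + u c a = 0)
    {a₀ b₀ : Fin r} (hu : u a₀ b₀ = u₀) (hu₀ : u₀ ≠ 0) (hab : a₀ ≠ b₀) (hn : finrank k V = r - 2) :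
    (r : k) = 0 := by
  classical
  have u_diff : ∀ a b z, u a z - u b z = u a b := by
    intro a b z
    by_cases hab : a = b
    · subst hab; rw [sub_self, u_self]
    by_cases haz : a = z
    · subst haz; rw [u_self, zero_sub, ← u_anti]
    by_cases hbz : b = z
    · subst hbz; rw [u_self, sub_zero]
    rw [← sub_eq_zero, ← u_tri a z b haz hab (Ne.symm hbz), u_anti b z, u_anti a b]
    abel
  obtain ⟨z⟩ : Nonempty (Fin r) := ⟨a₀⟩
  let M : Submodule k (Fin r → k) := LinearMap.ker (∑ i, LinearMap.proj i : (Fin r → k) →ₗ[k] k)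
  let Φ : (Fin r → k) →ₗ[k] V := Fintype.linearCombination k fun a => u a z
  have hΦ : ∀ x, Φ x = ∑ a, x a • u a z := fun x => Fintype.linearCombination_apply ..
  have hM : ∀ x, x ∈ M ↔ ∑ a, x a = 0 := fun x => by simp [M]
  have hperm : ∀ (g : alternatingGroup (Fin r)), ∀ x ∈ M,
      (fun a => x ((g : Perm (Fin r)).symm a)) ∈ M ∧ Φ (fun a => x ((g : Perm (Fin r)).symm a)) = τ g (Φ x) := by
    intro g x hx
    rw [hM] at hx ⊢
    refine ⟨by rw [← hx]; exact Equiv.sum_comp (g : Perm (Fin r)).symm x, ?_⟩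
    rw [hΦ, hΦ, map_sum, ← Equiv.sum_comp (g : Perm (Fin r))]
    simp only [Equiv.symm_apply_apply, map_smul, u_map]
    rw [← sub_eq_zero, ← Finset.sum_sub_distrib]
    simp only [← smul_sub]
    have : ∀ a, u ((g : Perm (Fin r)) a) z - u ((g : Perm (Fin r)) a) ((g : Perm (Fin r)) z) =
        u ((g : Perm (Fin r)) z) z := fun a => by
      rw [← u_diff ((g : Perm (Fin r)) a) ((g : Perm (Fin r)) z) z]; abel
    simp only [this]
    rw [← Finset.sum_smul, hx, zero_smul]
  have hdiff : ∀ a b, Pi.single a (1 : k) - Pi.single b 1 ∈ M ∧ Φ (Pi.single a 1 - Pi.single b 1) = u a b := by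
    intro a b
    refine ⟨by simp [hM, Finset.sum_sub_distrib], ?_⟩
    simp [Φ, map_sub, u_diff]
  -- a kernel vector
  obtain ⟨x, hxM, hx0, hxΦ⟩ : ∃ x, x ∈ M ∧ x ≠ 0 ∧ Φ x = 0 := by
    by_contra hall
    push Not at hall
    have hinj : Function.Injective (Φ.domRestrict M) := by
      rw [injective_iff_map_eq_zero]
      intro x hx
      by_contra h0
      exact hall x x.2 (fun e => h0 (Subtype.ext e)) hx
    have h1 := LinearMap.finrank_le_finrank_of_injective hinj
    have h2 := LinearMap.finrank_range_add_finrank_ker (∑ i, LinearMap.proj i : (Fin r → k) →ₗ[k] k)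
    have h3 := Submodule.finrank_le (LinearMap.range (∑ i, LinearMap.proj i : (Fin r → k) →ₗ[k] k))
    rw [Module.finrank_fintype_fun_eq_card, Fintype.card_fin] at h2
    rw [Module.finrank_self] at h3
    simp only [M] at h1
    omega
  by_cases hc : ∀ a b, x a = x b
  · have h0 : x z ≠ 0 := fun h => hx0 (funext fun a => by rw [hc a z, h]; rfl)
    rw [hM, Finset.sum_congr rfl (fun a _ => hc a z), Finset.sum_const, Finset.card_univ, Fintype.card_fin,
      nsmul_eq_mul] at hxM
    exact (mul_eq_zero.1 hxM).resolve_right h0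
  exfalso
  push Not at hc
  obtain ⟨a, b, hxab⟩ := hc
  have hab' : a ≠ b := fun e => hxab (by rw [e])
  obtain ⟨c, hc⟩ : ∃ c, c ∉ ({a, b} : Finset (Fin r)) := by
    by_contra hall
    push Not at hall
    have h1 := Finset.card_le_card (s := (Finset.univ : Finset (Fin r))) fun x _ => hall x
    have h2 := Finset.card_le_two (a := a) (b := b)
    simp at h1
    omega
  simp only [Finset.mem_insert, Finset.mem_singleton, not_or] at hc
  obtain ⟨g, hg, hgs, g1, g2, g3⟩ := exists_c3 hab' (Ne.symm hc.1) (Ne.symm hc.2)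
  set y := x - fun i => x ((g : Perm (Fin r)).symm i) with hy
  have hyΦ : Φ y = 0 := by rw [hy, map_sub, (hperm g x hxM).2, hxΦ, map_zero, sub_zero]
  have hyb : y b ≠ 0 := by
    rw [hy, Pi.sub_apply, (Equiv.symm_apply_eq _).2 g1.symm]
    exact sub_ne_zero.2 (Ne.symm hxab)
  have hysupp : ∀ i, i ≠ a → i ≠ b → i ≠ c → y i = 0 := fun i h1 h2 h3 => by
    rw [hy, Pi.sub_apply, (Equiv.symm_apply_eq _).2 (show i = (g : Perm (Fin r)) i from
      (notMem_support.1 (by rw [hgs]; simp [h1, h2, h3])).symm), sub_self]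
  obtain ⟨d, hd, e, he, hde⟩ : ∃ d ∈ ({a, b, c}ᶜ : Finset (Fin r)), ∃ e ∈ ({a, b, c}ᶜ : Finset (Fin r)), d ≠ e := by
    refine Finset.one_lt_card.1 ?_
    rw [Finset.card_compl, Fintype.card_fin]
    have := Finset.card_le_three (a := a) (b := b) (c := c)
    omega
  simp only [Finset.mem_compl, Finset.mem_insert, Finset.mem_singleton, not_or] at hd he
  obtain ⟨h, hh, hhs, i1, i2, i3⟩ := exists_c3 (Ne.symm hd.2.1) (Ne.symm he.2.1) hde
  have hyM : y ∈ M := M.sub_mem hxM (hperm g x hxM).1
  have hsub : y - (fun i => y ((h : Perm (Fin r)).symm i)) = y b • (Pi.single b (1 : k) - Pi.single d 1) := by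
    funext i
    simp only [Pi.sub_apply, Pi.smul_apply, smul_eq_mul, Pi.single_apply]
    by_cases hib : i = b
    · subst hib
      rw [(Equiv.symm_apply_eq _).2 i3.symm, hysupp e he.1 he.2.1 he.2.2, if_pos rfl, if_neg (Ne.symm hd.2.1)]
      ring
    by_cases hid : i = d
    · subst hid
      rw [(Equiv.symm_apply_eq _).2 i1.symm, hysupp i hd.1 hd.2.1 hd.2.2, if_neg hib, if_pos rfl]
      ring
    by_cases hie : i = e
    · subst hie
      rw [(Equiv.symm_apply_eq _).2 i2.symm, hysupp d hd.1 hd.2.1 hd.2.2, hysupp i he.1 he.2.1 he.2.2,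
        if_neg hib, if_neg hid]
      ring
    · rw [(Equiv.symm_apply_eq _).2 (show i = (h : Perm (Fin r)) i from
        (notMem_support.1 (by rw [hhs]; simp [hib, hid, hie])).symm), if_neg hib, if_neg hid]
      ring
  have hz := congrArg Φ hsub
  rw [map_sub, (hperm h y hyM).2, hyΦ, map_zero, sub_zero, map_smul, (hdiff b d).2, eq_comm,
    smul_eq_zero] at hz
  have hbd : u b d = 0 := hz.resolve_left hyb
  obtain ⟨t, ht⟩ := exists_map (f := ![b, d]) (f' := ![a₀, b₀])
    (inj_two (Ne.symm hd.2.1)) (inj_two hab) (by omega)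
  apply hu₀
  have := congrArg (τ t) hbd
  rw [u_map, map_zero] at this
  rw [← hu]
  have e0 : (t : Perm (Fin r)) b = a₀ := ht 0
  have e1 : (t : Perm (Fin r)) d = b₀ := ht 1
  rwa [e0, e1] at this

section Chain

variable (hr : 9 ≤ r) (hirr : IsIrr τ) (hP : IsDisjointTriv τ)
  (hd : ∀ c : alternatingGroup (Fin r), (c : Perm (Fin r)).IsThreeCycle →
    2 ≤ finrank k (LinearMap.range (dN τ c)))

include hd in
theorem two_le_mD {T : Finset (Fin r)} (hT : 3 ≤ T.card) : 2 ≤ finrank k (mD τ T) := by
  obtain ⟨U, hU, hc⟩ := Finset.exists_subset_card_eq hT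
  obtain ⟨a, b, c, ab, ac, bc, rfl⟩ := Finset.card_eq_three.1 hc
  obtain ⟨g, hg, hs, -⟩ := exists_c3 ab ac bc
  exact (hd g hg).trans (Submodule.finrank_mono (range_le_mD ⟨hg, hs.le.trans hU⟩))

theorem mD_insert_two {T : Finset (Fin r)} (hT : 3 ≤ T.card) {a b : Fin r} (ha : a ∉ T) (hb : b ∉ T) :
    mD τ (insert b (insert a T)) ≤ mD τ (insert a T) ⊔ mD τ (insert b T) := by
  classical
  rcases eq_or_ne a b with rfl | hab
  · rw [Finset.insert_idem]; exact le_sup_left
  set W := mD τ (insert a T) ⊔ mD τ (insert b T) with hW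
  refine mD_le fun c hc => ?_
  by_cases hca : a ∈ (c : Perm (Fin r)).support
  swap
  · refine le_trans (range_le_mD ⟨hc.1, fun x hx => ?_⟩) le_sup_right
    rcases Finset.mem_insert.1 (hc.2 hx) with h | h
    · simp [h]
    · rcases Finset.mem_insert.1 h with h | h
      · exact absurd (h ▸ hx) hca
      · simp [h]
  by_cases hcb : b ∈ (c : Perm (Fin r)).support
  swap
  · refine le_trans (range_le_mD ⟨hc.1, fun x hx => ?_⟩) le_sup_left
    rcases Finset.mem_insert.1 (hc.2 hx) with h | h
    · exact absurd (h ▸ hx) hcb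
    · exact h
  -- the third point lies in `T`
  obtain ⟨t, ht⟩ : ∃ t, (c : Perm (Fin r)).support = {a, b, t} := by
    have h1 : 1 ≤ ((c : Perm (Fin r)).support \ {a, b}).card := by
      have := Finset.le_card_sdiff ({a, b} : Finset (Fin r)) (c : Perm (Fin r)).support
      rw [hc.1.card_support, Finset.card_pair hab] at this
      omega
    obtain ⟨t, ht⟩ := Finset.card_pos.1 h1
    simp only [Finset.mem_sdiff, Finset.mem_insert, Finset.mem_singleton, not_or] at ht
    refine ⟨t, (Finset.eq_of_subset_of_card_le ?_ ?_).symm⟩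
    · simp [Finset.insert_subset_iff, hca, hcb, ht.1]
    · rw [hc.1.card_support, Finset.card_insert_of_notMem (by simp [hab, Ne.symm ht.2.1]),
        Finset.card_pair (Ne.symm ht.2.2)]
  have hc3 := hc.1.card_support
  rw [ht] at hc3
  have hta : t ≠ a := by rintro rfl; have := Finset.card_le_two (a := b) (b := t); simp_all
  have htb : t ≠ b := by
    rintro rfl
    rw [show ({a, t, t} : Finset (Fin r)) = {a, t} by simp] at hc3
    have := Finset.card_le_two (a := a) (b := t)
    omega
  obtain ⟨s, w, hs, hw, hsw, hst, hwt⟩ : ∃ s w, s ∈ T ∧ w ∈ T ∧ s ≠ w ∧ s ≠ t ∧ w ≠ t := by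
    have h2 : 1 < (T.erase t).card := by
      have := Finset.pred_card_le_card_erase (s := T) (a := t)
      omega
    obtain ⟨s, hs, w, hw, hsw⟩ := Finset.one_lt_card.1 h2
    simp only [Finset.mem_erase] at hs hw
    exact ⟨s, w, hs.2, hw.2, hsw, hs.1, hw.1⟩
  have hsa : s ≠ a := fun e => ha (e ▸ hs)
  have hwa : w ≠ a := fun e => ha (e ▸ hw)
  obtain ⟨g, hg, hgs, g1, g2, g3⟩ := exists_c3 hsa hsw hwa.symm
  have hga : g ∈ cycIn (insert a T) := ⟨hg, by
    rw [hgs]; simp [Finset.insert_subset_iff, hs, hw]⟩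
  have hgfix : ∀ x, x ≠ s → x ≠ a → x ≠ w → (g : Perm (Fin r)) x = x := fun x h1 h2 h3 =>
    notMem_support.1 (by rw [hgs]; simp [h1, h2, h3])
  set c' := g⁻¹ * c * g⁻¹⁻¹ with hc'
  have hc'3 : c' ∈ cycIn (insert b T) := by
    refine ⟨(conj_mem_cycIn hc g⁻¹).1, ?_⟩
    refine (conj_mem_cycIn (U := (c : Perm (Fin r)).support) ⟨hc.1, subset_rfl⟩ g⁻¹).2.trans ?_
    rw [ht, Subgroup.coe_inv]
    have htT : t ∈ T := by
      rcases Finset.mem_insert.1 (hc.2 (show t ∈ (c : Perm (Fin r)).support by rw [ht]; simp)) with h | h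
      · exact absurd h htb
      · exact (Finset.mem_insert.1 h).resolve_left hta
    have e1 : (g : Perm (Fin r))⁻¹ a = s := by rw [Equiv.Perm.inv_def, Equiv.symm_apply_eq, g1]
    have e2 : ∀ x, x ≠ s → x ≠ a → x ≠ w → (g : Perm (Fin r))⁻¹ x = x := fun x h1 h2 h3 => by
      rw [Equiv.Perm.inv_def, Equiv.symm_apply_eq, hgfix x h1 h2 h3]
    rw [Finset.image_insert, Finset.image_insert, Finset.image_singleton]
    rw [e1, e2 b (fun e => hb (e ▸ hs)) hab.symm (fun e => hb (e ▸ hw)), e2 t hst.symm hta hwt.symm]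
    simp [Finset.insert_subset_iff, hs, htT]
  rintro _ ⟨v, rfl⟩
  have h1 : dN τ c' (τ g⁻¹ v) ∈ mD τ (insert b T) := range_le_mD hc'3 ⟨_, rfl⟩
  have h2 : τ g (dN τ c' (τ g⁻¹ v)) = dN τ c v := by simp [hc', dN_apply, map_mul, map_inv]
  rw [← h2, show τ g (dN τ c' (τ g⁻¹ v)) = dN τ g (dN τ c' (τ g⁻¹ v)) + dN τ c' (τ g⁻¹ v) by
    rw [dN_apply g, sub_add_cancel]]
  exact W.add_mem (Submodule.mem_sup_left (range_le_mD hga ⟨_, rfl⟩)) (Submodule.mem_sup_right h1)

include hirr hP hd in
theorem mD_lt {T : Finset (Fin r)} (hT : 3 ≤ T.card) {a : Fin r} (ha : a ∉ T) (hTr : T.card + 4 ≤ r) :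
    finrank k (mD τ T) < finrank k (mD τ (insert a T)) := by
  classical
  refine lt_of_le_of_ne (Submodule.finrank_mono (mD_mono (Finset.subset_insert _ _))) fun heq => ?_
  have e0 : mD τ (insert a T) = mD τ T :=
    (Submodule.eq_of_le_of_finrank_le (mD_mono (Finset.subset_insert _ _)) heq.ge).symm
  -- every one point extension adds nothing
  have e1 : ∀ b ∉ T, mD τ (insert b T) ≤ mD τ T := by
    intro b hb
    rcases eq_or_ne a b with rfl | hab
    · exact e0.le
    obtain ⟨x, hx⟩ : ∃ x, x ∉ insert a (insert b T) := by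
      by_contra hall
      push Not at hall
      have h1 := Finset.card_le_card (s := (Finset.univ : Finset (Fin r))) fun x _ => hall x
      have h2 := Finset.card_insert_le a (insert b T)
      have h3 := Finset.card_insert_le b T
      rw [Finset.card_univ, Fintype.card_fin] at h1
      omega
    simp only [Finset.mem_insert, not_or] at hx
    obtain ⟨g, hg, hgs, g1, g2, g3⟩ := exists_c3 hab (Ne.symm hx.1) (Ne.symm hx.2.1)
    have hfix : ∀ y ∈ T, (g : Perm (Fin r)) y = y := fun y hy => notMem_support.1 (by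
      rw [hgs]; simp only [Finset.mem_insert, Finset.mem_singleton, not_or]
      exact ⟨fun e => ha (e ▸ hy), fun e => hb (e ▸ hy), fun e => hx.2.2 (e ▸ hy)⟩)
    intro v hv
    have h0 : τ g⁻¹ v ∈ mD τ (insert a T) := by
      have := apply_mem_mD (g := g⁻¹) hv
      refine (mD_mono ?_ : _ ≤ mD τ (insert a T)) this
      intro y hy
      obtain ⟨z, hz, rfl⟩ := Finset.mem_image.1 hy
      rw [Subgroup.coe_inv, Equiv.Perm.inv_def]
      rcases Finset.mem_insert.1 hz with rfl | hz
      · rw [(Equiv.symm_apply_eq _).2 g1.symm]; simp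
      · rw [(Equiv.symm_apply_eq _).2 (hfix z hz).symm]; simp [hz]
    rw [e0] at h0
    have h4 : τ g (τ g⁻¹ v) = τ g⁻¹ v := fix_mD hP (by
      rw [hgs]; simp [Finset.insert_subset_iff, ha, hb, hx.2.2]) h0
    have h5 : τ g (τ g⁻¹ v) = v := by rw [map_inv]; exact (τ g).apply_symm_apply v
    rwa [← h4, h5] at h0
  have e2 : ∀ U : Finset (Fin r), Disjoint U T → mD τ (T ∪ U) ≤ mD τ T := by
    intro U
    induction U using Finset.strongInduction with
    | H U ih =>
      intro hU
      rcases U.eq_empty_or_nonempty with rfl | ⟨u, hu⟩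
      · simp
      have huT : u ∉ T := Finset.disjoint_left.1 hU hu
      rcases (U.erase u).eq_empty_or_nonempty with h | ⟨w, hw⟩
      · rw [show T ∪ U = insert u T by rw [← Finset.insert_erase hu, h]; ext; simp [or_comm]]
        exact e1 u huT
      set R := (U.erase u).erase w with hR
      have hwU := Finset.mem_of_mem_erase hw
      have hwu := (Finset.mem_erase.1 hw).1
      have hwT : w ∉ T := Finset.disjoint_left.1 hU hwU
      have huR : u ∉ T ∪ R := by simp [hR, huT]
      have hwR : w ∉ T ∪ R := by simp [hR, hwT]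
      have h2 := mD_insert_two (τ := τ) (T := T ∪ R)
        (hT.trans (Finset.card_le_card Finset.subset_union_left)) huR hwR
      have e : insert w (insert u (T ∪ R)) = T ∪ U := by
        ext x
        simp only [hR, Finset.mem_insert, Finset.mem_union, Finset.mem_erase]
        constructor
        · rintro (rfl | rfl | h | ⟨-, -, h⟩) <;> tauto
        · rintro (h | h)
          · tauto
          · by_cases x = w <;> by_cases x = u <;> tauto
      rw [e] at h2
      refine h2.trans (sup_le ?_ ?_)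
      · rw [show insert u (T ∪ R) = T ∪ U.erase w by
          ext x; simp only [hR, Finset.mem_insert, Finset.mem_union, Finset.mem_erase]
          constructor
          · rintro (rfl | h | ⟨h1, -, h⟩) <;> tauto
          · rintro (h | ⟨h1, h⟩) <;> by_cases x = u <;> tauto]
        exact ih _ (Finset.erase_ssubset hwU) (hU.mono_left (Finset.erase_subset _ _))
      · rw [show insert w (T ∪ R) = T ∪ U.erase u by
          ext x; simp only [hR, Finset.mem_insert, Finset.mem_union, Finset.mem_erase]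
          constructor
          · rintro (rfl | h | ⟨h1, h2, h⟩) <;> tauto
          · rintro (h | ⟨h1, h⟩) <;> by_cases x = w <;> tauto]
        exact ih _ (Finset.erase_ssubset hu) (hU.mono_left (Finset.erase_subset _ _))
  have e3 : mD τ Finset.univ ≤ mD τ T := by
    have := e2 Tᶜ disjoint_compl_left
    rwa [Finset.union_compl] at this
  have hinv : ∀ g, ∀ w ∈ mD τ T, τ g w ∈ mD τ T := fun g w hw => by
    have h1 := range_le_of_closure (τ := τ) (fun c hc => (range_le_mD hc).trans e3) (mem_closure_univ g)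
      ⟨w, rfl⟩
    rw [dN_apply] at h1
    simpa using (mD τ T).add_mem h1 hw
  have htop : mD τ T = ⊤ := (hirr _ hinv).resolve_left fun h => by
    have := two_le_mD hd hT
    rw [h, finrank_bot] at this
    omega
  have hcard : 3 ≤ Tᶜ.card := by rw [Finset.card_compl, Fintype.card_fin]; omega
  obtain ⟨U, hU, hc⟩ := Finset.exists_subset_card_eq hcard
  obtain ⟨p, q, s, pq, ps, qs, rfl⟩ := Finset.card_eq_three.1 hc
  obtain ⟨g, hg, hs, -⟩ := exists_c3 pq ps qs
  have hz : LinearMap.range (dN τ g) = ⊥ := by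
    rw [LinearMap.range_eq_bot]
    refine LinearMap.ext fun v => ?_
    rw [dN_apply, fix_mD hP (hs.le.trans hU) (by rw [htop]; trivial), sub_self]; rfl
  have := hd g hg
  rw [hz, finrank_bot] at this
  omega

include hirr hP hd in
theorem mD_grow : ∀ (j : ℕ) (T U : Finset (Fin r)), 3 ≤ T.card → T ⊆ U → U.card = T.card + j →
    U.card + 3 ≤ r → finrank k (mD τ T) + j ≤ finrank k (mD τ U) := by
  intro j
  induction j with
  | zero => intro T U _ hTU hc _; rw [Finset.eq_of_subset_of_card_le hTU hc.le]; simp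
  | succ j ih =>
    intro T U hT hTU hc hU
    obtain ⟨x, hxU, hxT⟩ := Finset.exists_of_ssubset
      (Finset.ssubset_iff_subset_ne.2 ⟨hTU, fun e => by subst e; omega⟩)
    have h1 := ih T (U.erase x) hT (Finset.subset_erase.2 ⟨hTU, hxT⟩)
      (by rw [Finset.card_erase_of_mem hxU]; omega) (by rw [Finset.card_erase_of_mem hxU]; omega)
    have h2 := mD_lt hirr hP hd (T := U.erase x) (a := x) (by rw [Finset.card_erase_of_mem hxU]; omega)
      (Finset.notMem_erase x U) (by rw [Finset.card_erase_of_mem hxU]; omega)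
    rw [Finset.insert_erase hxU] at h2
    omega

include hP in
theorem mD_le_ker {U : Finset (Fin r)} {c : alternatingGroup (Fin r)} (hc : c ∈ cycIn Uᶜ) :
    finrank k (mD τ U) + finrank k (LinearMap.range (dN τ c)) ≤ finrank k V := by
  have h1 : mD τ U ≤ LinearMap.ker (dN τ c) := fun v hv => by
    rw [LinearMap.mem_ker, dN_apply, fix_mD hP hc.2 hv, sub_self]
  have h2 := Submodule.finrank_mono h1
  have h3 := LinearMap.finrank_range_add_finrank_ker (dN τ c)
  omega

include hr hirr hP hd in
theorem degree_ge : r - 2 ≤ finrank k V ∧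
    (finrank k V = r - 2 → ∀ T : Finset (Fin r), 3 ≤ T.card → T.card + 3 ≤ r →
      finrank k (mD τ T) = T.card - 1) := by
  classical
  have key : ∀ T : Finset (Fin r), 3 ≤ T.card → T.card + 3 ≤ r →
      finrank k (mD τ T) + (r - 3 - T.card) + 2 ≤ finrank k V := by
    intro T hT hTr
    obtain ⟨U, hTU, -, hU⟩ := Finset.exists_subsuperset_card_eq (Finset.subset_univ T) (n := r - 3)
      (by omega) (by simp)
    have h1 := mD_grow hirr hP hd (r - 3 - T.card) T U hT hTU (by omega) (by omega)
    obtain ⟨p, q, s, pq, ps, qs, hpq⟩ := Finset.card_eq_three.1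
      (show Uᶜ.card = 3 by rw [Finset.card_compl, Fintype.card_fin, hU]; omega)
    obtain ⟨g, hg, hs, -⟩ := exists_c3 pq ps qs
    have h2 := mD_le_ker hP (U := U) (c := g) ⟨hg, by rw [hs, hpq]⟩
    have h3 := hd g hg
    omega
  obtain ⟨T0, -, hT0⟩ := Finset.exists_subset_card_eq (show 3 ≤ (Finset.univ : Finset (Fin r)).card by simp; omega)
  refine ⟨?_, fun hn T hT hTr => ?_⟩
  · have := key T0 hT0.ge (by omega)
    have := two_le_mD hd hT0.ge
    omega
  · have h1 := key T hT hTr
    obtain ⟨T', hT', hc'⟩ := Finset.exists_subset_card_eq hT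
    have h2 := mD_grow hirr hP hd (T.card - 3) T' T hc'.ge hT' (by omega) (by omega)
    have h3 := two_le_mD (τ := τ) hd hc'.ge
    omega

include hr hirr hP hd in
theorem char_dvd (hn : finrank k V = r - 2) : (r : k) = 0 := by
  classical
  have hdim := (degree_ge hr hirr hP hd).2 hn
  obtain ⟨p, hp⟩ : ∃ p : Fin 6 → Fin r, Function.Injective p :=
    ⟨Fin.castLE (by omega), Fin.castLE_injective _⟩
  have hne : ∀ {i j : Fin 6}, i ≠ j → p i ≠ p j := fun h => hp.ne h
  set A : Finset (Fin r) := {p 0, p 1, p 2} with hA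
  set B : Finset (Fin r) := {p 0, p 1, p 3} with hB
  set C : Finset (Fin r) := {p 0, p 1, p 2, p 3} with hC
  have cA : A.card = 3 := by
    rw [hA, Finset.card_insert_of_notMem (by simp [hne (show (0 : Fin 6) ≠ 1 by decide), hne (show (0 : Fin 6) ≠ 2 by decide)]),
      Finset.card_pair (hne (by decide))]
  have cB : B.card = 3 := by
    rw [hB, Finset.card_insert_of_notMem (by simp [hne (show (0 : Fin 6) ≠ 1 by decide), hne (show (0 : Fin 6) ≠ 3 by decide)]),
      Finset.card_pair (hne (by decide))]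
  have cC : C.card = 4 := by
    rw [hC, Finset.card_insert_of_notMem (by simp [hne (show (0 : Fin 6) ≠ 1 by decide), hne (show (0 : Fin 6) ≠ 2 by decide), hne (show (0 : Fin 6) ≠ 3 by decide)]),
      Finset.card_insert_of_notMem (by simp [hne (show (1 : Fin 6) ≠ 2 by decide), hne (show (1 : Fin 6) ≠ 3 by decide)]),
      Finset.card_pair (hne (by decide))]
  -- the four point space is spanned by two planes
  have hsup : mD τ C ≤ mD τ A ⊔ mD τ B := by
    obtain ⟨g, hg, hgs, g1, g2, g3⟩ := exists_c3 (hne (show (0 : Fin 6) ≠ 1 by decide))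
      (hne (show (0 : Fin 6) ≠ 2 by decide)) (hne (show (1 : Fin 6) ≠ 2 by decide))
    refine mD_le fun c hc => ?_
    by_cases h3 : p 3 ∈ (c : Perm (Fin r)).support
    swap
    · refine le_trans (range_le_mD ⟨hc.1, fun x hx => ?_⟩) le_sup_left
      have := hc.2 hx
      simp only [hC, hA, Finset.mem_insert, Finset.mem_singleton] at this ⊢
      rcases this with h | h | h | h
      · simp [h]
      · simp [h]
      · simp [h]
      · exact absurd (h ▸ hx) h3
    by_cases h2 : p 2 ∈ (c : Perm (Fin r)).support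
    swap
    · refine le_trans (range_le_mD ⟨hc.1, fun x hx => ?_⟩) le_sup_right
      have := hc.2 hx
      simp only [hC, hB, Finset.mem_insert, Finset.mem_singleton] at this ⊢
      rcases this with h | h | h | h
      · simp [h]
      · simp [h]
      · exact absurd (h ▸ hx) h2
      · simp [h]
    -- `c` moves one of `p 0`, `p 1`
    have hgA : g ∈ cycIn A := ⟨hg, hgs.le⟩
    have hg3 : (g : Perm (Fin r)) (p 3) = p 3 :=
      notMem_support.1 (by rw [hgs]; simp [(hne (show (3 : Fin 6) ≠ 0 by decide)), (hne (show (3 : Fin 6) ≠ 1 by decide)), (hne (show (3 : Fin 6) ≠ 2 by decide))])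
    -- a conjugate inside `B`
    suffices ∃ e : alternatingGroup (Fin r), e ∈ Subgroup.closure (cycIn A) ∧
        ∀ x ∈ (c : Perm (Fin r)).support, (e : Perm (Fin r)) x ∈ B by
      obtain ⟨e, he, hex⟩ := this
      have hc' : e * c * e⁻¹ ∈ cycIn B := cycIn_mono (fun y hy => by
        obtain ⟨x, hx, rfl⟩ := Finset.mem_image.1 hy
        exact hex x hx) (conj_mem_cycIn ⟨hc.1, subset_rfl⟩ e)
      have hcl : c ∈ Subgroup.closure (cycIn A ∪ cycIn B) := by
        have h5 : e ∈ Subgroup.closure (cycIn A ∪ cycIn B) := Subgroup.closure_mono Set.subset_union_left he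
        have := mul_mem (mul_mem (inv_mem h5) (Subgroup.subset_closure (Or.inr hc' : e * c * e⁻¹ ∈ cycIn A ∪ cycIn B))) h5
        simpa [mul_assoc] using this
      refine range_le_of_closure (τ := τ) ?_ hcl
      rintro d (hd' | hd')
      · exact (range_le_mD hd').trans le_sup_left
      · exact (range_le_mD hd').trans le_sup_right
    by_cases h0 : p 0 ∈ (c : Perm (Fin r)).support
    · refine ⟨g, Subgroup.subset_closure hgA, fun x hx => ?_⟩
      have hxC := hc.2 hx
      have hx1 : x ≠ p 1 := by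
        rintro rfl
        have : C ⊆ (c : Perm (Fin r)).support := by simp [hC, Finset.insert_subset_iff, h0, h2, h3, hx]
        have := Finset.card_le_card this
        rw [cC, hc.1.card_support] at this
        omega
      simp only [hC, Finset.mem_insert, Finset.mem_singleton] at hxC
      rcases hxC with rfl | rfl | rfl | rfl
      · simp [g1, hB]
      · exact absurd rfl hx1
      · simp [g3, hB]
      · simp [hg3, hB]
    · refine ⟨g⁻¹, inv_mem (Subgroup.subset_closure hgA), fun x hx => ?_⟩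
      have hxC := hc.2 hx
      simp only [hC, Finset.mem_insert, Finset.mem_singleton] at hxC
      rw [Subgroup.coe_inv, Equiv.Perm.inv_def]
      rcases hxC with rfl | rfl | rfl | rfl
      · exact absurd hx h0
      · rw [(Equiv.symm_apply_eq _).2 g1.symm]; simp [hB]
      · rw [(Equiv.symm_apply_eq _).2 g2.symm]; simp [hB]
      · rw [(Equiv.symm_apply_eq _).2 hg3.symm]; simp [hB]
  set L := mD τ A ⊓ mD τ B with hL
  have hLdim : finrank k L = 1 := by
    have h1 := Submodule.finrank_sup_add_finrank_inf_eq (mD τ A) (mD τ B)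
    have h2 : mD τ A ⊔ mD τ B = mD τ C := le_antisymm
      (sup_le (mD_mono (by simp [hA, hC, Finset.insert_subset_iff])) (mD_mono (by simp [hB, hC, Finset.insert_subset_iff])))
      hsup
    rw [h2, hdim A cA.ge (by omega), hdim B cB.ge (by omega), hdim C (by omega) (by omega), cA, cB, cC, ← hL] at h1
    omega
  obtain ⟨u₀, hu₀L, hu₀⟩ : ∃ u ∈ L, u ≠ 0 := Submodule.exists_mem_ne_zero_of_ne_bot fun h => by
    rw [h, finrank_bot] at hLdim; omega
  have hu₀A : u₀ ∈ mD τ A := hu₀L.1
  have hu₀B : u₀ ∈ mD τ B := hu₀L.2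
  -- the stabiliser of the ordered pair fixes `u₀`
  have hstab : ∀ g : alternatingGroup (Fin r), (g : Perm (Fin r)) (p 0) = p 0 → (g : Perm (Fin r)) (p 1) = p 1 →
      τ g u₀ = u₀ := by
    intro g h0 h1
    have hg : g ∈ Subgroup.closure (cycIn ({p 0, p 1}ᶜ : Finset (Fin r))) := mem_closure_cycIn fun x hx => by
      rw [mem_support] at hx
      simp only [Finset.mem_compl, Finset.mem_insert, Finset.mem_singleton, not_or]
      exact ⟨fun e => hx (by rw [e, h0]), fun e => hx (by rw [e, h1])⟩
    let Sb : Subgroup (alternatingGroup (Fin r)) :=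
      { carrier := {g | τ g u₀ = u₀}
        one_mem' := by simp
        mul_mem' := fun {a b} (ha : τ a u₀ = u₀) (hb : τ b u₀ = u₀) => by
          show τ (a * b) u₀ = u₀
          rw [map_mul]; show τ a (τ b u₀) = u₀
          rw [hb, ha]
        inv_mem' := fun {a} (ha : τ a u₀ = u₀) => by
          show τ a⁻¹ u₀ = u₀
          rw [map_inv]; show (τ a).symm u₀ = u₀
          rw [LinearEquiv.symm_apply_eq, ha] }
    refine (Subgroup.closure_le (K := Sb)).2 ?_ hg
    -- one three-cycle away from the pair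
    have one : ∀ d ∈ cycIn ({p 0, p 1}ᶜ : Finset (Fin r)), ¬ (p 2 ∈ (d : Perm (Fin r)).support ∧
        p 3 ∈ (d : Perm (Fin r)).support) → d ∈ Sb := by
      intro d hd' hnot
      show τ d u₀ = u₀
      have hsub := hd'.2
      by_cases h2 : p 2 ∈ (d : Perm (Fin r)).support
      · refine fix_mD hP (T := B) (fun x hx => ?_) hu₀B
        have hx' := hsub hx
        simp only [hB, Finset.mem_compl, Finset.mem_insert, Finset.mem_singleton, not_or] at hx' ⊢
        exact ⟨hx'.1, hx'.2, fun e => hnot ⟨h2, e ▸ hx⟩⟩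
      · refine fix_mD hP (T := A) (fun x hx => ?_) hu₀A
        have hx' := hsub hx
        simp only [hA, Finset.mem_compl, Finset.mem_insert, Finset.mem_singleton, not_or] at hx' ⊢
        exact ⟨hx'.1, hx'.2, fun e => h2 (e ▸ hx)⟩
    intro d hd'
    by_cases hboth : p 2 ∈ (d : Perm (Fin r)).support ∧ p 3 ∈ (d : Perm (Fin r)).support
    swap
    · exact one d hd' hboth
    -- conjugate to a three-cycle avoiding `p 3`
    obtain ⟨v, hv⟩ : ∃ v, v ∉ (d : Perm (Fin r)).support ∪ {p 0, p 1} := by
      by_contra hall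
      push Not at hall
      have h1 := Finset.card_le_card (s := (Finset.univ : Finset (Fin r))) fun x _ => hall x
      have h2 := Finset.card_union_le (d : Perm (Fin r)).support {p 0, p 1}
      have h3 := Finset.card_le_two (a := p 0) (b := p 1)
      rw [hd'.1.card_support] at h2
      rw [Finset.card_univ, Fintype.card_fin] at h1
      omega
    simp only [Finset.mem_union, Finset.mem_insert, Finset.mem_singleton, not_or] at hv
    obtain ⟨w, hw⟩ : ∃ w, w ∉ (d : Perm (Fin r)).support ∪ {p 0, p 1, v} := by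
      by_contra hall
      push Not at hall
      have h1 := Finset.card_le_card (s := (Finset.univ : Finset (Fin r))) fun x _ => hall x
      have h2 := Finset.card_union_le (d : Perm (Fin r)).support {p 0, p 1, v}
      have h3 := Finset.card_le_three (a := p 0) (b := p 1) (c := v)
      rw [hd'.1.card_support] at h2
      rw [Finset.card_univ, Fintype.card_fin] at h1
      omega
    simp only [Finset.mem_union, Finset.mem_insert, Finset.mem_singleton, not_or] at hw
    have hv3 : p 3 ≠ v := fun e => hv.1 (e ▸ hboth.2)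
    have hw3 : p 3 ≠ w := fun e => hw.1 (e ▸ hboth.2)
    obtain ⟨e, he, hes, e1, e2, e3⟩ := exists_c3 hv3 hw3 (Ne.symm hw.2.2.2)
    have he2 : p 2 ∉ (e : Perm (Fin r)).support := by
      rw [hes]
      simp only [Finset.mem_insert, Finset.mem_singleton, not_or]
      exact ⟨hne (by decide), fun h => hv.1 (h ▸ hboth.1), fun h => hw.1 (h ▸ hboth.1)⟩
    have heS : e ∈ Sb := one e ⟨he, by
      rw [hes]; simp [Finset.insert_subset_iff, hne (show (3 : Fin 6) ≠ 0 by decide),
        hne (show (3 : Fin 6) ≠ 1 by decide), hv.2.1, hv.2.2, hw.2.1, hw.2.2.1]⟩ fun h => he2 h.1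
    have hfix : ∀ x, x ≠ p 3 → x ≠ v → x ≠ w → (e : Perm (Fin r)) x = x := fun x h1 h2 h3 =>
      notMem_support.1 (by rw [hes]; simp [h1, h2, h3])
    have hcS : e * d * e⁻¹ ∈ Sb := by
      have hm := conj_mem_cycIn (U := (d : Perm (Fin r)).support) ⟨hd'.1, subset_rfl⟩ e
      refine one _ ⟨hm.1, fun y hy => ?_⟩ fun h => ?_
      · obtain ⟨x, hx, rfl⟩ := Finset.mem_image.1 (hm.2 hy)
        have hx' := hd'.2 hx
        simp only [Finset.mem_compl, Finset.mem_insert, Finset.mem_singleton, not_or] at hx' ⊢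
        by_cases hx3 : x = p 3
        · rw [hx3, e1]; exact hv.2
        · rw [hfix x hx3 (fun e => hv.1 (e ▸ hx)) (fun e => hw.1 (e ▸ hx))]; exact hx'
      · obtain ⟨x, hx, hx'⟩ := Finset.mem_image.1 (hm.2 h.2)
        by_cases hx3 : x = p 3
        · rw [hx3, e1] at hx'; exact hv3 hx'.symm
        · rw [hfix x hx3 (fun e => hv.1 (e ▸ hx)) (fun e => hw.1 (e ▸ hx))] at hx'; exact hx3 hx'
    have h7 := Sb.mul_mem (Sb.mul_mem (Sb.inv_mem heS) hcS) heS
    rw [show d = e⁻¹ * (e * d * e⁻¹) * e by group]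
    exact h7
  -- the swap sign
  have hinj6 : Function.Injective ![p 1, p 0, p 2, p 3, p 5, p 4] := by
    have : (![p 1, p 0, p 2, p 3, p 5, p 4] : Fin 6 → Fin r) = p ∘ ![1, 0, 2, 3, 5, 4] := by
      funext i; fin_cases i <;> rfl
    rw [this]; exact hp.comp (by decide)
  have hs0mem : swap (p 0) (p 1) * swap (p 4) (p 5) ∈ alternatingGroup (Fin r) := by
    rw [mem_alternatingGroup, map_mul, sign_swap (hne (by decide)), sign_swap (hne (by decide))]; decide
  set s₀ : alternatingGroup (Fin r) := ⟨swap (p 0) (p 1) * swap (p 4) (p 5), hs0mem⟩ with hs₀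
  have s0x : ∀ i, i = 2 ∨ i = 3 → (s₀ : Perm (Fin r)) (p i) = p i := by
    rintro i (rfl | rfl) <;>
    · show swap (p 0) (p 1) (swap (p 4) (p 5) _) = _
      rw [swap_apply_of_ne_of_ne (hne (by decide)) (hne (by decide)),
        swap_apply_of_ne_of_ne (hne (by decide)) (hne (by decide))]
  have s00 : (s₀ : Perm (Fin r)) (p 0) = p 1 := by
    show swap (p 0) (p 1) (swap (p 4) (p 5) _) = _
    rw [swap_apply_of_ne_of_ne (hne (by decide)) (hne (by decide)), swap_apply_left]
  have s01 : (s₀ : Perm (Fin r)) (p 1) = p 0 := by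
    show swap (p 0) (p 1) (swap (p 4) (p 5) _) = _
    rw [swap_apply_of_ne_of_ne (hne (by decide)) (hne (by decide)), swap_apply_right]
  have hs2 : s₀ * s₀ = 1 := Subtype.ext (Equiv.ext fun x => by
    show swap (p 0) (p 1) (swap (p 4) (p 5) (swap (p 0) (p 1) (swap (p 4) (p 5) x))) = x
    have hcm : ∀ y, swap (p 0) (p 1) (swap (p 4) (p 5) y) = swap (p 4) (p 5) (swap (p 0) (p 1) y) :=
      fun y => Equiv.Perm.congr_fun (Equiv.Perm.Disjoint.commute (f := swap (p 0) (p 1)) (g := swap (p 4) (p 5))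
        (Equiv.Perm.disjoint_iff_disjoint_support.2 (by
          rw [support_swap (hne (by decide)), support_swap (hne (by decide))]
          simp [hp.eq_iff]))).eq y
    rw [← hcm (swap (p 4) (p 5) x), swap_apply_self, swap_apply_self])
  obtain ⟨ε, hε⟩ : ∃ ε : k, τ s₀ u₀ = ε • u₀ := by
    have h1 : τ s₀ u₀ ∈ L := by
      refine ⟨?_, ?_⟩
      · have := apply_mem_mD (g := s₀) hu₀A
        rwa [show A.image (s₀ : Perm (Fin r)) = A by
          rw [hA]; simp [Finset.image_insert, s00, s01, s0x 2 (Or.inl rfl), Finset.insert_comm]] at this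
      · have := apply_mem_mD (g := s₀) hu₀B
        rwa [show B.image (s₀ : Perm (Fin r)) = B by
          rw [hB]; simp [Finset.image_insert, s00, s01, s0x 3 (Or.inr rfl), Finset.insert_comm]] at this
    obtain ⟨c, hc⟩ := exists_smul_eq_of_finrank_eq_one hLdim (x := (⟨u₀, hu₀L⟩ : L))
      (fun h => hu₀ (congrArg Subtype.val h)) ⟨_, h1⟩
    exact ⟨c, (congrArg Subtype.val hc).symm⟩
  have hε2 : ε * ε = 1 := by
    have h1 : τ (s₀ * s₀) u₀ = (ε * ε) • u₀ := by
      rw [map_mul]; show τ s₀ (τ s₀ u₀) = _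
      rw [hε, map_smul, hε, smul_smul]
    rw [hs2, map_one] at h1
    exact (smul_left_injective k hu₀ (show (1 : k) • u₀ = (ε * ε) • u₀ by rw [one_smul]; exact h1)).symm
  -- the vectors of the pairs
  have hgex : ∀ a b : Fin r, a ≠ b → ∃ g : alternatingGroup (Fin r), (g : Perm (Fin r)) (p 0) = a ∧
      (g : Perm (Fin r)) (p 1) = b := fun a b hab => by
    obtain ⟨g, hg⟩ := exists_map (f := ![p 0, p 1]) (f' := ![a, b])
      (inj_two (hne (by decide))) (inj_two hab) (by omega)
    exact ⟨g, hg 0, hg 1⟩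
  choose! gg hgg using hgex
  let u : Fin r → Fin r → V := fun a b => if a = b then 0 else τ (gg a b) u₀
  have u_self : ∀ a, u a a = 0 := fun a => if_pos rfl
  have u_eq : ∀ g : alternatingGroup (Fin r), u ((g : Perm (Fin r)) (p 0)) ((g : Perm (Fin r)) (p 1)) = τ g u₀ := by
    intro g
    have hab : (g : Perm (Fin r)) (p 0) ≠ (g : Perm (Fin r)) (p 1) := fun h =>
      hne (show (0 : Fin 6) ≠ 1 by decide) ((g : Perm (Fin r)).injective h)
    obtain ⟨q0, q1⟩ := hgg _ _ hab
    set g' := gg ((g : Perm (Fin r)) (p 0)) ((g : Perm (Fin r)) (p 1)) with hg'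
    have h2 := hstab (g⁻¹ * g')
      (by rw [Subgroup.coe_mul, Subgroup.coe_inv, Equiv.Perm.mul_apply, q0]; simp)
      (by rw [Subgroup.coe_mul, Subgroup.coe_inv, Equiv.Perm.mul_apply, q1]; simp)
    show (if _ then (0 : V) else τ g' u₀) = _
    rw [if_neg hab]
    conv_rhs => rw [← h2]
    rw [← LinearEquiv.mul_apply, ← map_mul, mul_inv_cancel_left]
  have u_map : ∀ (g : alternatingGroup (Fin r)) a b,
      τ g (u a b) = u ((g : Perm (Fin r)) a) ((g : Perm (Fin r)) b) := by
    intro g a b
    by_cases hab : a = b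
    · subst hab; rw [u_self, u_self, map_zero]
    obtain ⟨q0, q1⟩ := hgg a b hab
    have h3 := u_eq (g * gg a b)
    rw [Subgroup.coe_mul, Equiv.Perm.mul_apply, Equiv.Perm.mul_apply, q0, q1, map_mul] at h3
    rw [h3]
    show τ g (if a = b then 0 else τ (gg a b) u₀) = _
    rw [if_neg hab]; rfl
  have u_sw : ∀ a b, u b a = ε • u a b := by
    intro a b
    by_cases hab : a = b
    · subst hab; rw [u_self, smul_zero]
    obtain ⟨q0, q1⟩ := hgg a b hab
    have h3 := u_eq (gg a b * s₀)
    have h4 := u_eq (gg a b)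
    rw [show ((gg a b * s₀ : alternatingGroup (Fin r)) : Perm (Fin r)) (p 0) = b from
        (congrArg ((gg a b : Perm (Fin r))) s00).trans q1,
      show ((gg a b * s₀ : alternatingGroup (Fin r)) : Perm (Fin r)) (p 1) = a from
        (congrArg ((gg a b : Perm (Fin r))) s01).trans q0, map_mul,
      LinearEquiv.mul_apply, hε, map_smul] at h3
    rw [q0, q1] at h4
    rw [h3, h4]
  have u_tri : ∀ a b c, a ≠ b → a ≠ c → b ≠ c → u a b + u b c + u c a = 0 := by
    intro a b c ab ac bc
    obtain ⟨g, hg⟩ := exists_map (f := ![p 0, p 1, p 2]) (f' := ![a, b, c])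
      (inj_three (hne (by decide)) (hne (by decide)) (hne (by decide))) (inj_three ab ac bc) (by omega)
    obtain ⟨x, hx, hxs, x1, x2, x3⟩ := exists_c3 (hne (show (0 : Fin 6) ≠ 1 by decide))
      (hne (show (0 : Fin 6) ≠ 2 by decide)) (hne (show (1 : Fin 6) ≠ 2 by decide))
    -- the orbit sum of a moved vector of `x` vanishes
    have hA' : mD τ A ≤ LinearMap.range (dN τ x) := by
      have hle : LinearMap.range (dN τ x) ≤ mD τ A := range_le_mD ⟨hx, hxs.le⟩
      rw [Submodule.eq_of_le_of_finrank_le hle (by rw [hdim A cA.ge (by omega), cA]; exact hd x hx)]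
    obtain ⟨w, hw⟩ := hA' hu₀A
    have x3' : x * x * x = 1 := by
      have := hx.orderOf
      apply Subtype.ext
      rw [Subgroup.coe_mul, Subgroup.coe_mul, Subgroup.coe_one, ← pow_two, ← pow_succ]
      show (x : Perm (Fin r)) ^ 3 = 1
      rw [← this, pow_orderOf_eq_one]
    have h0 : u₀ + τ x u₀ + τ (x * x) u₀ = 0 := by
      rw [← hw, dN_apply]
      have e : τ x (τ x (τ x w)) = w := by
        rw [← LinearEquiv.mul_apply, ← LinearEquiv.mul_apply, ← map_mul, ← map_mul, x3', map_one]
        rfl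
      rw [map_mul, LinearEquiv.mul_apply, map_sub, map_sub, e]
      abel
    have h1 := u_eq 1
    simp only [Subgroup.coe_one, Equiv.Perm.one_apply, map_one, LinearEquiv.coe_one, id_eq] at h1
    have h2 := u_eq x
    rw [x1, x2] at h2
    have h3 := u_eq (x * x)
    rw [Subgroup.coe_mul, Equiv.Perm.mul_apply, Equiv.Perm.mul_apply, x1, x2, x3] at h3
    rw [← h2, ← h3, ← h1] at h0
    have h4 := congrArg (τ g) h0
    rw [map_add, map_add, map_zero, u_map, u_map, u_map, show (g : Perm (Fin r)) (p 0) = a from hg 0,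
      show (g : Perm (Fin r)) (p 1) = b from hg 1, show (g : Perm (Fin r)) (p 2) = c from hg 2] at h4
    exact h4
  have hu01 : u (p 0) (p 1) = u₀ := by
    have := u_eq 1
    simpa using this
  rcases mul_self_eq_one_iff.1 hε2 with rfl | rfl
  · -- all vectors of pairs would be equal
    by_cases h2 : (2 : k) = 0
    · exact char_dvd_aux hr hirr u u₀ u_map u_self (fun a b => by
        rw [u_sw, one_smul]; rw [eq_neg_iff_add_eq_zero, ← two_smul k, h2, zero_smul]) u_tri hu01 hu₀
        (hne (by decide)) hn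
    exfalso
    have hs : ∀ a b, u b a = u a b := fun a b => by rw [u_sw, one_smul]
    have heq : ∀ a b c d, a ≠ b → c ≠ d → a ≠ c → a ≠ d → b ≠ c → b ≠ d → u a b = u c d := by
      intro a b c d ab cd ac ad bc bd
      have t1 := u_tri a b c ab ac bc
      have t2 := u_tri a b d ab ad bd
      have t3 := u_tri a c d ac ad cd
      have t4 := u_tri b c d bc bd cd
      rw [hs a c] at t1
      rw [hs a d] at t2 t3
      rw [hs b d] at t4
      refine smul_right_injective V h2 ?_
      show (2 : k) • u a b = (2 : k) • u c d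
      rw [two_smul, two_smul, ← sub_eq_zero]
      calc u a b + u a b - (u c d + u c d)
          = (u a b + u b c + u a c) + (u a b + u b d + u a d) - (u a c + u c d + u a d) - (u b c + u c d + u b d) := by
            abel
        _ = 0 := by rw [t1, t2, t3, t4]; simp
    have hall : ∀ g, τ g u₀ = u₀ := by
      intro g
      rw [← hu01, u_map]
      set a := (g : Perm (Fin r)) (p 0)
      set b := (g : Perm (Fin r)) (p 1)
      have hab : a ≠ b := fun h => hne (show (0 : Fin 6) ≠ 1 by decide) ((g : Perm (Fin r)).injective h)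
      obtain ⟨c, hc, d, hd2, hcd⟩ : ∃ c ∈ ({a, b, p 0, p 1}ᶜ : Finset (Fin r)),
          ∃ d ∈ ({a, b, p 0, p 1}ᶜ : Finset (Fin r)), c ≠ d := by
        refine Finset.one_lt_card.1 ?_
        rw [Finset.card_compl, Fintype.card_fin]
        have := Finset.card_insert_le a ({b, p 0, p 1} : Finset (Fin r))
        have := Finset.card_le_three (a := b) (b := p 0) (c := p 1)
        omega
      simp only [Finset.mem_compl, Finset.mem_insert, Finset.mem_singleton, not_or] at hc hd2
      rw [heq a b c d hab hcd (Ne.symm hc.1) (Ne.symm hd2.1) (Ne.symm hc.2.1) (Ne.symm hd2.2.1),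
        heq (p 0) (p 1) c d (hne (by decide)) hcd (Ne.symm hc.2.2.1) (Ne.symm hd2.2.2.1) (Ne.symm hc.2.2.2)
          (Ne.symm hd2.2.2.2)]
    rcases hirr (k ∙ u₀) (fun g w hw => by
      obtain ⟨t, rfl⟩ := Submodule.mem_span_singleton.1 hw
      rw [map_smul, hall]; exact hw) with h | h
    · exact hu₀ (Submodule.span_singleton_eq_bot.1 h)
    · have := finrank_span_singleton (K := k) hu₀
      rw [h, finrank_top] at this
      omega
  · exact char_dvd_aux hr hirr u u₀ u_map u_self (fun a b => by rw [u_sw, neg_smul, one_smul]) u_tri hu01 hu₀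
      (hne (by decide)) hn

end Chain

end Cfsg.Agent.AltDegree
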