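import Mathlib

/-!
Facts on permutations and three-cycles used for the degree bound of alternating groups.
-/

set_option autoImplicit false

namespace Cfsg.Agent.AltDegree

open Equiv Equiv.Perm

variable {r : ℕ}

/-- The three-cycles of the alternating group with support inside `U`. -/
def cycIn (U : Finset (Fin r)) : Set (alternatingGroup (Fin r)) :=
  {c | (c : Perm (Fin r)).IsThreeCycle ∧ (c : Perm (Fin r)).support ⊆ U}

theorem cycIn_mono {U W : Finset (Fin r)} (h : U ⊆ W) : cycIn U ⊆ cycIn W :=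
  fun _ hc => ⟨hc.1, hc.2.trans h⟩

theorem conj_mem_cycIn {U : Finset (Fin r)} {c : alternatingGroup (Fin r)} (hc : c ∈ cycIn U)
    (g : alternatingGroup (Fin r)) : g * c * g⁻¹ ∈ cycIn (U.image (g : Perm (Fin r))) := by
  refine ⟨?_, ?_⟩
  · rw [IsThreeCycle, Subgroup.coe_mul, Subgroup.coe_mul, Subgroup.coe_inv, Equiv.Perm.cycleType_conj]
    exact hc.1
  · rw [Subgroup.coe_mul, Subgroup.coe_mul, Subgroup.coe_inv, Equiv.Perm.support_conj]
    intro x hx
    obtain ⟨y, hy, rfl⟩ := Finset.mem_map.1 hx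
    exact Finset.mem_image.2 ⟨y, hc.2 hy, rfl⟩

/-- An even permutation supported in `U` is a product of three-cycles supported in `U`. -/
theorem mem_closure_cycIn {U : Finset (Fin r)} {g : alternatingGroup (Fin r)}
    (hg : (g : Perm (Fin r)).support ⊆ U) : g ∈ Subgroup.closure (cycIn U) := by
  obtain ⟨k, rfl⟩ := (alternatingGroup.mem_range_ofSubtype_iff U g).2 hg
  have hk : k ∈ Subgroup.closure {c : alternatingGroup {x // x ∈ U} | (c : Perm {x // x ∈ U}).IsThreeCycle} := by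
    rw [alternatingGroup.closure_isThreeCycles_eq_top]; trivial
  have h2 := Subgroup.mem_map_of_mem (alternatingGroup.ofSubtype U) hk
  rw [MonoidHom.map_closure] at h2
  refine Subgroup.closure_mono ?_ h2
  rintro _ ⟨c, hc, rfl⟩
  refine ⟨?_, ?_⟩
  · rw [IsThreeCycle, alternatingGroup.coe_ofSubtype, Equiv.Perm.cycleType_ofSubtype]
    exact hc
  · exact (alternatingGroup.mem_range_ofSubtype_iff U _).1 ⟨c, rfl⟩

theorem mem_closure_univ (g : alternatingGroup (Fin r)) :
    g ∈ Subgroup.closure (cycIn (Finset.univ : Finset (Fin r))) :=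
  mem_closure_cycIn (Finset.subset_univ _)

/-- Multiple transitivity. -/
theorem exists_map {j : ℕ} {f f' : Fin j → Fin r} (hf : Function.Injective f) (hf' : Function.Injective f')
    (hj : j + 2 ≤ r) : ∃ g : alternatingGroup (Fin r), ∀ i, (g : Perm (Fin r)) (f i) = f' i := by
  classical
  obtain ⟨s, hs⟩ := Equiv.Perm.exists_extending_pair f f' hf hf'
  rcases Int.units_eq_one_or (Equiv.Perm.sign s) with h | h
  · exact ⟨⟨s, mem_alternatingGroup.2 h⟩, hs⟩
  · have hcard : (Finset.univ.image f').card ≤ j := Finset.card_image_le.trans (by simp)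
    have h2 : 1 < ((Finset.univ : Finset (Fin r)) \ Finset.univ.image f').card := by
      rw [Finset.card_sdiff_of_subset (Finset.subset_univ _), Finset.card_univ, Fintype.card_fin]
      omega
    obtain ⟨a, ha, b, hb, hab⟩ := Finset.one_lt_card.1 h2
    simp only [Finset.mem_sdiff, Finset.mem_image, Finset.mem_univ, true_and, not_exists] at ha hb
    refine ⟨⟨swap a b * s, mem_alternatingGroup.2 ?_⟩, fun i => ?_⟩
    · rw [map_mul, Equiv.Perm.sign_swap hab, h]; decide
    · show swap a b (s (f i)) = f' i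
      rw [hs, swap_apply_of_ne_of_ne (ha i) (hb i)]

/-- The three-cycle `a ↦ b ↦ c ↦ a`. -/
theorem exists_c3 {a b c : Fin r} (ab : a ≠ b) (ac : a ≠ c) (bc : b ≠ c) :
    ∃ g : alternatingGroup (Fin r), (g : Perm (Fin r)).IsThreeCycle ∧
      (g : Perm (Fin r)).support = {a, b, c} ∧
      (g : Perm (Fin r)) a = b ∧ (g : Perm (Fin r)) b = c ∧ (g : Perm (Fin r)) c = a := by
  have h3 := isThreeCycle_swap_mul_swap_same ab ac bc
  have h3' : IsThreeCycle (swap a c * swap a b) := isThreeCycle_swap_mul_swap_same ac ab bc.symm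
  refine ⟨⟨swap a c * swap a b, h3'.mem_alternatingGroup⟩, h3', ?_, ?_, ?_, ?_⟩
  · have e : (swap a c * swap a b) a = b := by
      simp [swap_apply_of_ne_of_ne ab.symm bc]
    have e2 : (swap a c * swap a b) b = c := by simp
    have ha : a ∈ (swap a c * swap a b).support := by rw [mem_support, e]; exact ab.symm
    rw [h3'.support_eq_iff_mem_support.2 ha, e, e2]
  · simp [swap_apply_of_ne_of_ne ab.symm bc]
  · simp
  · simp [swap_apply_of_ne_of_ne ac.symm bc.symm]

theorem exists_rep {g : Perm (Fin r)} (hg : g.IsThreeCycle) :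
    ∃ a b c, a ≠ b ∧ a ≠ c ∧ b ≠ c ∧ g.support = {a, b, c} ∧ g a = b ∧ g b = c ∧ g c = a := by
  obtain ⟨a, ha⟩ : g.support.Nonempty := Finset.card_pos.1 (by rw [hg.card_support]; norm_num)
  have hs := hg.support_eq_iff_mem_support.2 ha
  have hcard := hg.card_support
  rw [hs] at hcard
  have h1 : g a ≠ a := mem_support.1 ha
  have h2 : g (g a) ≠ g a := fun h => h1 (g.injective h)
  have h3 : g (g a) ≠ a := by
    intro h
    rw [h, show ({a, g a, a} : Finset (Fin r)) = {a, g a} by ext; simp; tauto] at hcard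
    have := Finset.card_le_two (a := a) (b := g a)
    omega
  refine ⟨a, g a, g (g a), h1.symm, h3.symm, h2.symm, hs, rfl, rfl, ?_⟩
  have := hg.orderOf
  have e : g ^ 3 = 1 := by rw [← this]; exact pow_orderOf_eq_one g
  simpa [pow_succ] using Equiv.Perm.congr_fun e a

/-- Two three-cycles are equal when they agree with the same cyclic triple. -/
theorem ext_triple {g h : Perm (Fin r)} {a b c : Fin r} (hg : g.support ⊆ {a, b, c})
    (hh : h.support ⊆ {a, b, c}) (ea : g a = h a) (eb : g b = h b) (ec : g c = h c) : g = h := by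
  ext x
  by_cases hx : x ∈ ({a, b, c} : Finset (Fin r))
  · simp only [Finset.mem_insert, Finset.mem_singleton] at hx
    rcases hx with rfl | rfl | rfl <;> simp [ea, eb, ec]
  · rw [notMem_support.1 fun h' => hx (hg h'), notMem_support.1 fun h' => hx (hh h')]

/-- All pairs of disjoint three-cycles are conjugate. -/
theorem conj_pair (hr : 8 ≤ r) {c d c' d' : alternatingGroup (Fin r)}
    (hc : (c : Perm (Fin r)).IsThreeCycle) (hd : (d : Perm (Fin r)).IsThreeCycle)
    (hcd : Disjoint (c : Perm (Fin r)).support (d : Perm (Fin r)).support)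
    (hc' : (c' : Perm (Fin r)).IsThreeCycle) (hd' : (d' : Perm (Fin r)).IsThreeCycle)
    (hcd' : Disjoint (c' : Perm (Fin r)).support (d' : Perm (Fin r)).support) :
    ∃ g, g * c * g⁻¹ = c' ∧ g * d * g⁻¹ = d' := by
  classical
  obtain ⟨a1, a2, a3, p1, p2, p3, hs, q1, q2, q3⟩ := exists_rep hc
  obtain ⟨a4, a5, a6, p4, p5, p6, hs2, q4, q5, q6⟩ := exists_rep hd
  obtain ⟨b1, b2, b3, s1, s2, s3, ht, t1, t2, t3⟩ := exists_rep hc'
  obtain ⟨b4, b5, b6, s4, s5, s6, ht2, t4, t5, t6⟩ := exists_rep hd'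
  rw [hs, hs2] at hcd
  rw [ht, ht2] at hcd'
  simp only [Finset.disjoint_insert_left, Finset.disjoint_singleton_left, Finset.mem_insert,
    Finset.mem_singleton, not_or] at hcd hcd'
  have inj : ∀ {x1 x2 x3 x4 x5 x6 : Fin r}, x1 ≠ x2 → x1 ≠ x3 → x2 ≠ x3 → x4 ≠ x5 → x4 ≠ x6 → x5 ≠ x6 →
      (x1 ≠ x4 ∧ x1 ≠ x5 ∧ x1 ≠ x6) ∧ (x2 ≠ x4 ∧ x2 ≠ x5 ∧ x2 ≠ x6) ∧ (x3 ≠ x4 ∧ x3 ≠ x5 ∧ x3 ≠ x6) →
      Function.Injective ![x1, x2, x3, x4, x5, x6] := by
    intro x1 x2 x3 x4 x5 x6 _ _ _ _ _ _ h i j hij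
    fin_cases i <;> fin_cases j <;> simp_all
  obtain ⟨g, hg⟩ := exists_map (inj p1 p2 p3 p4 p5 p6 hcd) (inj s1 s2 s3 s4 s5 s6 hcd') (by omega)
  have key : ∀ {x : alternatingGroup (Fin r)} {y : alternatingGroup (Fin r)} {a b e a' b' e' : Fin r},
      (x : Perm (Fin r)).support = {a, b, e} → (x : Perm (Fin r)) a = b → (x : Perm (Fin r)) b = e →
      (x : Perm (Fin r)) e = a → (y : Perm (Fin r)).support = {a', b', e'} → (y : Perm (Fin r)) a' = b' →
      (y : Perm (Fin r)) b' = e' → (y : Perm (Fin r)) e' = a' → (g : Perm (Fin r)) a = a' →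
      (g : Perm (Fin r)) b = b' → (g : Perm (Fin r)) e = e' → g * x * g⁻¹ = y := by
    intro x y a b e a' b' e' hx xa xb xe hy ya yb ye ga gb ge
    apply Subtype.ext
    refine ext_triple (a := a') (b := b') (c := e') ?_ hy.le ?_ ?_ ?_
    · rw [Subgroup.coe_mul, Subgroup.coe_mul, Subgroup.coe_inv, Equiv.Perm.support_conj, hx]
      simp [Finset.map_insert, ga, gb, ge]
    all_goals rw [Subgroup.coe_mul, Subgroup.coe_mul, Subgroup.coe_inv]
    · rw [ya, ← ga, ← gb]; simp [xa]
    · rw [yb, ← gb, ← ge]; simp [xb]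
    · rw [ye, ← ge, ← ga]; simp [xe]
  exact ⟨g, key hs q1 q2 q3 ht t1 t2 t3 (hg 0) (hg 1) (hg 2),
    key hs2 q4 q5 q6 ht2 t4 t5 t6 (hg 3) (hg 4) (hg 5)⟩

end Cfsg.Agent.AltDegree
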