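import Cfsg.Agent.Lib.AltDegree.Core
import Cfsg.Agent.Lib.AltDegree.Common
import Cfsg.Agent.Lib.AltCover.Bound

/-!
Reduction of the degree bound to minimal irreducible covers.
-/

set_option autoImplicit false

namespace Cfsg.Agent.AltDegree

open Equiv Equiv.Perm Module

/-- The bound in degree `n`, for `r` points. -/
def Bnd (n r : ℕ) : Prop :=
  ∀ (k : Type) [Field k] [IsAlgClosed k] (V : Type) [AddCommGroup V] [Module k V] [FiniteDimensional k V]
    (G : Type) [Group G] [Finite G] (ρ : G →* (V ≃ₗ[k] V)) (π : G →* alternatingGroup (Fin r)),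
    Function.Surjective π → ρ.ker ≤ π.ker → finrank k V = n → r - 2 ≤ n ∧ (n = r - 2 → (r : k) = 0)

/-- The bound for injective representations of groups of given order. -/
def BndInj (n r N : ℕ) : Prop :=
  ∀ (k : Type) [Field k] [IsAlgClosed k] (V : Type) [AddCommGroup V] [Module k V] [FiniteDimensional k V]
    (G : Type) [Group G] [Finite G] (ρ : G →* (V ≃ₗ[k] V)) (π : G →* alternatingGroup (Fin r)),
    Function.Surjective π → Function.Injective ρ → Nat.card G = N → finrank k V = n →
      r - 2 ≤ n ∧ (n = r - 2 → (r : k) = 0)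

theorem bnd_of_inj {n r : ℕ} (h : ∀ N, BndInj n r N) : Bnd n r := by
  intro k _ _ V _ _ _ G _ _ ρ π hπ hker hn
  let ψ : G ⧸ ρ.ker →* alternatingGroup (Fin r) := QuotientGroup.lift ρ.ker π hker
  refine h _ k V (G ⧸ ρ.ker) (QuotientGroup.kerLift ρ) ψ (fun x => ?_) (QuotientGroup.kerLift_injective ρ) rfl hn
  obtain ⟨g, hg⟩ := hπ x
  exact ⟨QuotientGroup.mk g, hg⟩

section Minimal

variable {k V : Type} [Field k] [AddCommGroup V] [Module k V] {r : ℕ} {G : Type} [Group G]
  {π : G →* alternatingGroup (Fin r)} {ρ : G →* (V ≃ₗ[k] V)}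

/-- A normal subgroup not inside the kernel is everything. -/
theorem eq_top_of_not_le (hr : 5 ≤ r) (hπ : Function.Surjective π) (hmin : ∀ M : Subgroup G, M.map π = ⊤ → M = ⊤)
    (N : Subgroup G) [N.Normal] (h : ¬ N ≤ π.ker) : N = ⊤ := by
  haveI := alternatingGroup.isSimpleGroup (α := Fin r) (by simpa using hr)
  haveI : (N.map π).Normal := Subgroup.Normal.map inferInstance π hπ
  refine hmin N ((Subgroup.Normal.eq_bot_or_eq_top inferInstance).resolve_left fun hb => h ?_)
  intro x hx
  have := Subgroup.mem_map_of_mem π hx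
  rwa [hb, Subgroup.mem_bot] at this

theorem not_comm (hr : 5 ≤ r) (hπ : Function.Surjective π) : ¬ ∀ a b : G, a * b = b * a := by
  intro h
  obtain ⟨c, -, d, -, hne⟩ := exists_noncommuting (S := (Finset.univ : Finset (Fin r))) (by simp; omega)
  obtain ⟨a, rfl⟩ := hπ c
  obtain ⟨b, rfl⟩ := hπ d
  exact hne (by rw [← map_mul, h, map_mul])

theorem le_commutator (hr : 5 ≤ r) (hπ : Function.Surjective π)
    (hmin : ∀ M : Subgroup G, M.map π = ⊤ → M = ⊤) : commutator G = ⊤ := by
  refine eq_top_of_not_le hr hπ hmin _ fun h => ?_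
  obtain ⟨c, -, d, -, hne⟩ := exists_noncommuting (S := (Finset.univ : Finset (Fin r))) (by simp; omega)
  obtain ⟨a, rfl⟩ := hπ c
  obtain ⟨b, rfl⟩ := hπ d
  have hm : a * b * a⁻¹ * b⁻¹ ∈ commutator G :=
    Subgroup.commutator_mem_commutator (Subgroup.mem_top a) (Subgroup.mem_top b)
  have := h hm
  rw [MonoidHom.mem_ker, map_mul, map_mul, map_mul, map_inv, map_inv, mul_inv_eq_one, mul_inv_eq_iff_eq_mul] at this
  exact hne this

/-- The action on an invariant subspace. -/
def subRep {H : Type} [Group H] (φ : H →* (V ≃ₗ[k] V)) (W : Submodule k V) (hW : ∀ g, ∀ w ∈ W, φ g w ∈ W) :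
    H →* (W ≃ₗ[k] W) where
  toFun g :=
    { (φ g).toLinearMap.restrict (hW g) with
      invFun := (φ g⁻¹).toLinearMap.restrict (hW g⁻¹)
      left_inv := fun w => Subtype.ext (by
        show φ g⁻¹ (φ g w) = w
        rw [map_inv]; exact (φ g).symm_apply_apply w)
      right_inv := fun w => Subtype.ext (by
        show φ g (φ g⁻¹ w) = w
        rw [map_inv]; exact (φ g).apply_symm_apply w) }
  map_one' := LinearEquiv.ext fun w => Subtype.ext (by show φ 1 (w : V) = w; rw [map_one]; rfl)
  map_mul' a b := LinearEquiv.ext fun w => Subtype.ext (by show φ (a * b) (w : V) = φ a (φ b w); rw [map_mul]; rfl)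

theorem mem_subRep_ker {H : Type} [Group H] (φ : H →* (V ≃ₗ[k] V)) {W : Submodule k V}
    (hW : ∀ g, ∀ w ∈ W, φ g w ∈ W) {g : H} : g ∈ (subRep φ W hW).ker ↔ ∀ w ∈ W, φ g w = w := by
  rw [MonoidHom.mem_ker]
  exact ⟨fun h w hw => congrArg Subtype.val (LinearEquiv.congr_fun h ⟨w, hw⟩),
    fun h => LinearEquiv.ext fun w => Subtype.ext (h w w.2)⟩

/-- The action on a quotient space. -/
noncomputable def quotRep (φ : G →* (V ≃ₗ[k] V)) (W : Submodule k V) (hW : ∀ g, ∀ w ∈ W, φ g w ∈ W) :
    G →* ((V ⧸ W) ≃ₗ[k] (V ⧸ W)) where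
  toFun g :=
    { W.mapQ W (φ g).toLinearMap (hW g) with
      invFun := W.mapQ W (φ g⁻¹).toLinearMap (hW g⁻¹)
      left_inv := fun w => by
        induction w using Submodule.Quotient.induction_on with
        | _ v =>
          show Submodule.Quotient.mk (φ g⁻¹ (φ g v)) = Submodule.Quotient.mk v
          rw [map_inv]; exact congrArg _ ((φ g).symm_apply_apply v)
      right_inv := fun w => by
        induction w using Submodule.Quotient.induction_on with
        | _ v =>
          show Submodule.Quotient.mk (φ g (φ g⁻¹ v)) = Submodule.Quotient.mk v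
          rw [map_inv]; exact congrArg _ ((φ g).apply_symm_apply v) }
  map_one' := LinearEquiv.ext fun w => by
    induction w using Submodule.Quotient.induction_on with
    | _ v => show Submodule.Quotient.mk (φ 1 v) = Submodule.Quotient.mk v; rw [map_one]; rfl
  map_mul' a b := LinearEquiv.ext fun w => by
    induction w using Submodule.Quotient.induction_on with
    | _ v => show Submodule.Quotient.mk (φ (a * b) v) = Submodule.Quotient.mk (φ a (φ b v)); rw [map_mul]; rfl

/-- A central element acts as a scalar. -/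
theorem scalar_of_central [IsAlgClosed k] [FiniteDimensional k V] [Nontrivial V]
    (hirr : ∀ W : Submodule k V, (∀ g, ∀ w ∈ W, ρ g w ∈ W) → W = ⊥ ∨ W = ⊤) {z : G}
    (hz : ∀ g, g * z = z * g) : ∃ c : k, ∀ v, ρ z v = c • v := by
  obtain ⟨c, hc⟩ := Module.End.exists_eigenvalue (ρ z).toLinearMap
  obtain ⟨w, hw⟩ := hc.exists_hasEigenvector
  refine ⟨c, fun v => ?_⟩
  rcases hirr (LinearMap.ker ((ρ z).toLinearMap - c • LinearMap.id)) (fun g u hu => by
    rw [LinearMap.mem_ker, LinearMap.sub_apply, LinearMap.smul_apply, LinearMap.id_apply, sub_eq_zero,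
      LinearEquiv.coe_coe] at hu ⊢
    rw [← LinearEquiv.mul_apply, ← map_mul, ← hz, map_mul, LinearEquiv.mul_apply, hu, map_smul]) with h | h
  · have : w ∈ LinearMap.ker ((ρ z).toLinearMap - c • LinearMap.id) := by
      rw [LinearMap.mem_ker, LinearMap.sub_apply, LinearMap.smul_apply, LinearMap.id_apply, sub_eq_zero]
      exact hw.apply_eq_smul
    rw [h, Submodule.mem_bot] at this
    exact absurd this hw.2
  · have : v ∈ LinearMap.ker ((ρ z).toLinearMap - c • LinearMap.id) := by rw [h]; trivial
    rwa [LinearMap.mem_ker, LinearMap.sub_apply, LinearMap.smul_apply, LinearMap.id_apply, sub_eq_zero] at this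

/-- A non-central normal abelian subgroup inside the kernel gives a large degree. -/
theorem degree_of_abelian [Finite G] [IsAlgClosed k] [FiniteDimensional k V] [Nontrivial V] (hr : 5 ≤ r)
    (hπ : Function.Surjective π) (hmin : ∀ M : Subgroup G, M.map π = ⊤ → M = ⊤) (hinj : Function.Injective ρ)
    (hirr : ∀ W : Submodule k V, (∀ g, ∀ w ∈ W, ρ g w ∈ W) → W = ⊥ ∨ W = ⊤)
    (Q : Subgroup G) [Q.Normal] (hQc : ¬ Q ≤ Subgroup.center G) (hab : ∀ a ∈ Q, ∀ b ∈ Q, a * b = b * a) :
    r ≤ finrank k V := by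
  classical
  haveI : Fintype Q := Fintype.ofFinite Q
  let A : Q → Module.End k V := fun a => (ρ (a : G)).toLinearMap
  obtain ⟨v, hv0, hv⟩ := exists_common_eigen A (fun a b u => by
    show ρ (a : G) (ρ (b : G) u) = ρ (b : G) (ρ (a : G) u)
    rw [← LinearEquiv.mul_apply, ← LinearEquiv.mul_apply, ← map_mul, ← map_mul, hab a a.2 b b.2]) Finset.univ
  choose χ hχ using fun a : Q => hv a (Finset.mem_univ a)
  -- elements fixing the weight
  let M : Subgroup G :=
    { carrier := {g | ∀ (a : Q) (h : g * a * g⁻¹ ∈ Q), χ ⟨_, h⟩ = χ a}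
      one_mem' := fun a h => congrArg χ (Subtype.ext (by simp))
      mul_mem' := fun {g g'} hg hg' a h => by
        have h' : g' * a * g'⁻¹ ∈ Q := (inferInstance : Q.Normal).conj_mem a a.2 g'
        refine Eq.trans ?_ ((hg ⟨_, h'⟩ ((inferInstance : Q.Normal).conj_mem _ h' g)).trans (hg' a h'))
        exact congrArg χ (Subtype.ext (by simp [mul_assoc]))
      inv_mem' := fun {g} hg a h => by
        refine ((hg ⟨_, h⟩ ?_).symm.trans (congrArg χ (Subtype.ext ?_)))
        · exact (inferInstance : Q.Normal).conj_mem _ h g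
        · simp [mul_assoc] }
  have hM : M ≠ ⊤ := by
    intro hM
    apply hQc
    intro a ha
    let W : Submodule k V := ⨅ b : Q, LinearMap.ker (A b - χ b • LinearMap.id)
    have hW : ∀ u, u ∈ W ↔ ∀ b : Q, ρ (b : G) u = χ b • u := fun u => by simp [W, A, Submodule.mem_iInf, sub_eq_zero]
    rcases hirr W (fun g u hu => by
      rw [hW] at hu ⊢
      intro b
      have hb : g⁻¹ * b * g⁻¹⁻¹ ∈ Q := (inferInstance : Q.Normal).conj_mem b b.2 g⁻¹
      have h1 := hu ⟨_, hb⟩
      have h2 : χ ⟨_, hb⟩ = χ b := (show g⁻¹ ∈ M by rw [hM]; trivial) b hb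
      rw [h2] at h1
      calc ρ (b : G) (ρ g u) = ρ g (ρ (g⁻¹ * b * g⁻¹⁻¹) u) := by
            rw [← LinearEquiv.mul_apply, ← LinearEquiv.mul_apply, ← map_mul, ← map_mul]; congr 2; group
        _ = _ := by rw [show ρ (g⁻¹ * (b : G) * g⁻¹⁻¹) u = χ b • u from h1, map_smul]) with h | h
    · exact absurd (show v ∈ W from (hW v).2 hχ) (by rw [h, Submodule.mem_bot]; exact hv0)
    · rw [Subgroup.mem_center_iff]
      intro g
      refine hinj (LinearEquiv.ext fun u => ?_)
      have hall : ∀ w, ρ a w = χ ⟨a, ha⟩ • w := fun w => (hW w).1 (by rw [h]; trivial) ⟨a, ha⟩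
      rw [map_mul, map_mul, LinearEquiv.mul_apply, LinearEquiv.mul_apply, hall, hall, map_smul]
  have h1 : r ≤ M.index := by
    refine le_trans (index_ge hr fun h => hM (hmin M h)) (Nat.le_of_dvd ?_ (Subgroup.index_map_dvd M hπ))
    exact Nat.pos_of_ne_zero Subgroup.index_ne_zero_of_finite
  refine h1.trans ?_
  -- the conjugate weights are distinct
  haveI : Fintype (G ⧸ M) := Fintype.ofFinite _
  let vv : G ⧸ M → V := fun x => ρ x.out v
  let χχ : G ⧸ M → Q → k := fun x a => χ ⟨x.out⁻¹ * a * x.out⁻¹⁻¹, (inferInstance : Q.Normal).conj_mem a a.2 _⟩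
  have hli := joint_eigen_indep A vv χχ (fun x h => hv0 ((ρ x.out).injective (h.trans (map_zero _).symm)))
    (fun x y hxy => by
      rw [← Quotient.out_eq x, ← Quotient.out_eq y]
      refine QuotientGroup.eq.2 fun a h => ?_
      have h' : y.out * a * y.out⁻¹ ∈ Q := (inferInstance : Q.Normal).conj_mem a a.2 y.out
      have := congrFun hxy ⟨_, h'⟩
      refine Eq.trans ?_ (this.trans ?_)
      · exact congrArg χ (Subtype.ext (by simp [mul_assoc]))
      · exact congrArg χ (Subtype.ext (by simp [mul_assoc])))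
    (fun x a => by
      show ρ (a : G) (ρ x.out v) = χχ x a • ρ x.out v
      calc ρ (a : G) (ρ x.out v) = ρ x.out (ρ (x.out⁻¹ * a * x.out⁻¹⁻¹) v) := by
            rw [← LinearEquiv.mul_apply, ← LinearEquiv.mul_apply, ← map_mul, ← map_mul]; congr 2; group
        _ = _ := by
          rw [show ρ (x.out⁻¹ * (a : G) * x.out⁻¹⁻¹) v = χχ x a • v from
            hχ ⟨_, (inferInstance : Q.Normal).conj_mem a a.2 _⟩, map_smul])
  have := hli.fintype_card_le_finrank
  rwa [Subgroup.index_eq_card, Nat.card_eq_fintype_card]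

end Minimal

/-- An action by additive endomorphisms commuting with scalars, as matrices. -/
theorem exists_matrix_rep_module {G : Type} [Group G] {F M : Type} [Field F] [AddCommGroup M] [Module F M] [Finite M]
    {d : ℕ} (hM : Nat.card M = Nat.card F ^ d) (hF : 1 < Nat.card F) (act : G → (M →+ M))
    (hlin : ∀ g (c : F) x, act g (c • x) = c • act g x) (h1 : ∀ x, act 1 x = x)
    (hmul : ∀ g g' x, act (g * g') x = act g (act g' x)) :
    ∃ rep : G →* Matrix (Fin d) (Fin d) F, ∀ g, rep g = 1 → ∀ x, act g x = x := by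
  haveI : Module.Finite F M := Module.Finite.of_finite
  have hdim : finrank F M = d := by
    have h := Module.natCard_eq_pow_finrank (K := F) (V := M)
    rw [hM] at h
    exact (Nat.pow_right_injective hF h).symm
  let bas := Module.finBasisOfFinrankEq F M hdim
  let L : G → (M →ₗ[F] M) := fun g => { toFun := act g, map_add' := map_add (act g), map_smul' := hlin g }
  have hL1 : L 1 = 1 := LinearMap.ext h1
  have hLm : ∀ g g', L (g * g') = L g * L g' := fun g g' => LinearMap.ext (hmul g g')
  refine ⟨{ toFun := fun g => LinearMap.toMatrix bas bas (L g)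
            map_one' := by rw [hL1]; exact LinearMap.toMatrix_one bas
            map_mul' := fun g g' => by rw [hLm]; exact LinearMap.toMatrix_mul bas _ _ }, fun g hg x => ?_⟩
  exact LinearMap.congr_fun ((LinearMap.toMatrix bas bas).injective (hg.trans (LinearMap.toMatrix_one bas).symm)) x

/-- An action on an elementary abelian group by matrices over the prime field. -/
theorem exists_matrix_rep {G : Type} [Group G] {B : Type} [CommGroup B] [Finite B] {q d : ℕ} [Fact q.Prime]
    (hB : Nat.card B = q ^ d) (hexp : ∀ b : B, b ^ q = 1) (act : G → (B →* B)) (h1 : ∀ b, act 1 b = b)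
    (hmul : ∀ g g' b, act (g * g') b = act g (act g' b)) :
    ∃ rep : G →* Matrix (Fin d) (Fin d) (ZMod q), ∀ g, rep g = 1 → ∀ b, act g b = b := by
  have hexp' : ∀ x : Additive B, q • x = 0 := fun x => Additive.toMul.injective (by
    rw [toMul_nsmul, hexp, toMul_zero])
  let hmod : Module (ZMod q) (Additive B) := AddCommGroup.zmodModule hexp'
  have hfi : Finite (Additive B) := Finite.of_equiv B Additive.ofMul
  have hcard : Nat.card (Additive B) = Nat.card (ZMod q) ^ d := by
    rw [Nat.card_zmod, ← hB]; exact (Nat.card_congr (Additive.ofMul (α := B))).symm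
  obtain ⟨rep, hrep⟩ := @exists_matrix_rep_module G _ (ZMod q) (Additive B) (ZMod.instField q) _ hmod hfi d hcard
    (by rw [Nat.card_zmod]; exact (Fact.out : q.Prime).one_lt) (fun g => MonoidHom.toAdditive (act g))
    (fun g c x => ZMod.map_smul (MonoidHom.toAdditive (act g)) c x)
    (fun x => congrArg Additive.ofMul (h1 (Additive.toMul x)))
    (fun g g' x => congrArg Additive.ofMul (hmul g g' (Additive.toMul x)))
  exact ⟨rep, fun g hg b => congrArg Additive.toMul (hrep g hg (Additive.ofMul b))⟩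

theorem two_pow_gt : ∀ d : ℕ, 5 ≤ d → d * d < 2 ^ d := by
  intro d hd
  induction d, hd using Nat.le_induction with
  | base => norm_num
  | succ d hd ih =>
    rw [pow_succ 2 d]
    have : 5 * d ≤ d * d := Nat.mul_le_mul_right d hd
    nlinarith

/-- A minimal non-central normal subgroup of prime-power order that is not abelian. -/
theorem degree_of_nonabelian {k V : Type} [Field k] [AddCommGroup V] [Module k V] {r : ℕ} {G : Type} [Group G]
    {π : G →* alternatingGroup (Fin r)} {ρ : G →* (V ≃ₗ[k] V)} [Finite G] [IsAlgClosed k] [FiniteDimensional k V]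
    [Nontrivial V] (hr : 9 ≤ r) (hπ : Function.Surjective π) (hmin : ∀ M : Subgroup G, M.map π = ⊤ → M = ⊤)
    (hinj : Function.Injective ρ) (hirr : ∀ W : Submodule k V, (∀ g, ∀ w ∈ W, ρ g w ∈ W) → W = ⊥ ∨ W = ⊤)
    {q : ℕ} [Fact q.Prime] (Q : Subgroup G) [Q.Normal] (hQp : IsPGroup q Q)
    (hmQ : ∀ N : Subgroup G, N.Normal → N < Q → N ≤ Subgroup.center G)
    (hab : ¬ ∀ a ∈ Q, ∀ b ∈ Q, a * b = b * a) (hn : ∀ d, d < finrank k V → Bnd d r) :
    r - 1 ≤ finrank k V := by
  classical
  have hq := (Fact.out : q.Prime)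
  have hperf := le_commutator (by omega) hπ hmin
  set Z : Subgroup G := Q ⊓ Subgroup.center G with hZ
  -- commutators inside `Q` are central
  have hcen : ∀ a ∈ Q, ∀ b ∈ Q, a * b * a⁻¹ * b⁻¹ ∈ Subgroup.center G := by
    haveI : (⁅Q, Q⁆).Normal := Subgroup.commutator_normal Q Q
    have hle : ⁅Q, Q⁆ ≤ Q := Subgroup.commutator_le_left Q Q
    have hlt : ⁅Q, Q⁆ < Q := lt_of_le_of_ne hle fun h => by
      haveI : Group.IsNilpotent Q := hQp.isNilpotent
      have htop : commutator Q = ⊤ := by
        refine Subgroup.map_injective Q.subtype_injective ?_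
        rw [Subgroup.map_subtype_commutator, h, ← MonoidHom.range_eq_map, Subgroup.range_subtype]
      have hsol : Group.IsSolvable Q := inferInstance
      obtain ⟨j, hj⟩ := (Group.isSolvable_def Q).1 hsol
      have hall : ∀ j, derivedSeries Q j = ⊤ := by
        intro j
        induction j with
        | zero => rfl
        | succ j ih => rw [derivedSeries_succ, ih, ← _root_.commutator_def, htop]
      rw [hall j] at hj
      refine hab fun a ha b hb => ?_
      have e : ∀ x : Q, x = 1 := fun x => Subgroup.mem_bot.1 (hj ▸ Subgroup.mem_top x)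
      rw [show a = 1 from congrArg Subtype.val (e ⟨a, ha⟩), one_mul, mul_one]
    exact fun a ha b hb => hmQ _ inferInstance hlt (Subgroup.commutator_mem_commutator ha hb)
  have hZn : Z.Normal := inferInstance
  haveI : (Z.subgroupOf Q).Normal := hZn.subgroupOf Q
  letI : CommGroup (Q ⧸ Z.subgroupOf Q) :=
    { toGroup := inferInstance
      mul_comm := by
        rintro ⟨a⟩ ⟨b⟩
        refine QuotientGroup.eq.2 ?_
        rw [Subgroup.mem_subgroupOf, hZ, Subgroup.mem_inf]
        refine ⟨((a * b)⁻¹ * (b * a)).2, ?_⟩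
        have h := hcen _ (Q.inv_mem b.2) _ (Q.inv_mem a.2)
        rw [inv_inv, inv_inv] at h
        simpa [mul_assoc] using h }
  -- the powers generate a proper subgroup
  set P1 : Subgroup G := Subgroup.closure ((fun x => x ^ q) '' (Q : Set G)) ⊔ Z with hP1
  haveI : P1.Normal := by
    haveI : (Subgroup.closure ((fun x => x ^ q) '' (Q : Set G))).Normal := ⟨fun x hx g => by
      have h : Subgroup.closure ((fun x => x ^ q) '' (Q : Set G)) ≤
          (Subgroup.closure ((fun x => x ^ q) '' (Q : Set G))).comap (MulAut.conj g).toMonoidHom := by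
        refine (Subgroup.closure_le _).2 ?_
        rintro _ ⟨y, hy, rfl⟩
        exact Subgroup.subset_closure ⟨g * y * g⁻¹, (inferInstance : Q.Normal).conj_mem y hy g, conj_pow⟩
      exact h hx⟩
    infer_instance
  have hP1le : P1 ≤ Q := sup_le ((Subgroup.closure_le _).2 (by rintro _ ⟨y, hy, rfl⟩; exact Q.pow_mem hy q)) inf_le_left
  have hpow : ∀ a ∈ Q, a ^ q ∈ Subgroup.center G := by
    have hlt : P1 < Q := lt_of_le_of_ne hP1le fun h => by
      let f : (Q ⧸ Z.subgroupOf Q) →* (Q ⧸ Z.subgroupOf Q) := powMonoidHom q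
      have hsurj : Function.Surjective f := by
        have : P1 ≤ (f.range.comap (QuotientGroup.mk' (Z.subgroupOf Q))).map Q.subtype := by
          refine sup_le ((Subgroup.closure_le _).2 ?_) ?_
          · rintro _ ⟨y, hy, rfl⟩
            exact ⟨⟨y, hy⟩ ^ q, ⟨QuotientGroup.mk ⟨y, hy⟩, rfl⟩, rfl⟩
          · intro z hz
            refine ⟨⟨z, hz.1⟩, ⟨1, ?_⟩, rfl⟩
            rw [map_one]
            exact ((QuotientGroup.eq_one_iff (N := Z.subgroupOf Q) (⟨z, hz.1⟩ : Q)).2 hz).symm
        rintro ⟨y⟩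
        obtain ⟨y', hy', he⟩ := this (h.symm ▸ y.2 : (y : G) ∈ P1)
        obtain rfl : y' = y := Subtype.ext he
        exact hy'
      have hbij : Function.Injective f := Finite.injective_iff_surjective.2 hsurj
      have hp' : IsPGroup q (Q ⧸ Z.subgroupOf Q) := hQp.to_quotient _
      refine hab fun a ha b hb => ?_
      have h1 : ∀ x : Q ⧸ Z.subgroupOf Q, x = 1 := fun x => by
        obtain ⟨j, hj⟩ := hp' x
        induction j generalizing x with
        | zero => simpa using hj
        | succ j ih =>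
          have : f x = 1 := ih (f x) (by show (x ^ q) ^ q ^ j = 1; rw [← pow_mul, ← pow_succ']; exact hj)
          exact hbij (this.trans (map_one f).symm)
      have := (QuotientGroup.eq_one_iff _).1 (h1 (QuotientGroup.mk ⟨a, ha⟩))
      exact (Subgroup.mem_center_iff.1 (show a ∈ Subgroup.center G from this.2) b).symm
    exact fun a ha => hmQ _ inferInstance hlt (Subgroup.mem_sup_left (Subgroup.subset_closure ⟨a, ha, rfl⟩))
  -- the centre of `Q`
  have hZQ : ∀ a ∈ Q, (∀ b ∈ Q, a * b = b * a) → a ∈ Subgroup.center G := by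
    intro a ha hca
    haveI : ((Subgroup.center Q).map Q.subtype).Normal := inferInstance
    refine hmQ _ inferInstance (lt_of_le_of_ne (Subgroup.map_subtype_le _) fun h => hab fun x hx y hy => ?_)
      ⟨⟨a, ha⟩, Subgroup.mem_center_iff.2 fun b => Subtype.ext (hca b b.2).symm, rfl⟩
    obtain ⟨x', hx', rfl⟩ := (h.symm ▸ hx : x ∈ (Subgroup.center Q).map Q.subtype)
    exact (congrArg Subtype.val (Subgroup.mem_center_iff.1 hx' ⟨y, hy⟩)).symm
  have hmk : ∀ a b : Q, (QuotientGroup.mk a : (Q ⧸ Z.subgroupOf Q)) = QuotientGroup.mk b ↔ (a : G)⁻¹ * b ∈ Z := fun a b =>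
    QuotientGroup.eq
  -- the number of cosets is at most the square of the degree
  haveI : Fintype (Q ⧸ Z.subgroupOf Q) := Fintype.ofFinite _
  have hcard : Nat.card (Q ⧸ Z.subgroupOf Q) ≤ finrank k V * finrank k V := by
    let A : Q → Module.End k (Module.End k V) := fun b =>
      LinearMap.mulLeft k (ρ (b : G)).toLinearMap ∘ₗ LinearMap.mulRight k (ρ (b : G)⁻¹).toLinearMap
    have hs := fun (b : Q) (x : (Q ⧸ Z.subgroupOf Q)) => scalar_of_central (ρ := ρ) hirr
      (Subgroup.mem_center_iff.1 (hcen (b : G) b.2 ((x.out : Q) : G) (x.out : Q).2))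
    choose cs hcs using hs
    have hli := joint_eigen_indep A (fun x : (Q ⧸ Z.subgroupOf Q) => (ρ ((x.out : Q) : G)).toLinearMap) (fun x b => cs b x)
      (fun x h => by
        obtain ⟨v, hv⟩ := exists_ne (0 : V)
        exact hv ((ρ ((x.out : Q) : G)).injective ((LinearMap.congr_fun h v).trans (map_zero _).symm)))
      (fun x y hxy => by
        rw [← Quotient.out_eq x, ← Quotient.out_eq y]
        refine (hmk _ _).2 ⟨Q.mul_mem (Q.inv_mem x.out.2) y.out.2, hZQ _ (Q.mul_mem (Q.inv_mem x.out.2) y.out.2) fun b hb => ?_⟩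
        have e : b * (x.out : G) * b⁻¹ * (x.out : G)⁻¹ = b * (y.out : G) * b⁻¹ * (y.out : G)⁻¹ :=
          hinj (LinearEquiv.ext fun v => by
            have := congrFun hxy ⟨b, hb⟩
            show _ = _
            rw [hcs ⟨b, hb⟩ x v, hcs ⟨b, hb⟩ y v]
            exact congrArg (· • v) this)
        generalize (x.out : G) = X at e ⊢
        generalize (y.out : G) = Y at e ⊢
        have hc := hcen b hb
        calc X⁻¹ * Y * b = X⁻¹ * (b * Y * b⁻¹ * Y⁻¹)⁻¹ * (b * Y) := by group
          _ = X⁻¹ * (b * X * b⁻¹ * X⁻¹)⁻¹ * (b * Y) := by rw [e]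
          _ = b * (X⁻¹ * Y) := by group)
      (fun x b => by
        refine LinearMap.ext fun v => ?_
        show ρ (b : G) (ρ ((x.out : Q) : G) (ρ (b : G)⁻¹ v)) = cs b x • ρ ((x.out : Q) : G) v
        rw [← hcs b x, ← LinearEquiv.mul_apply, ← LinearEquiv.mul_apply, ← LinearEquiv.mul_apply, ← map_mul, ← map_mul,
          ← map_mul]
        congr 2
        group)
    have := hli.fintype_card_le_finrank
    rwa [Module.finrank_linearMap, ← Nat.card_eq_fintype_card] at this
  obtain ⟨d, hd⟩ := IsPGroup.iff_card.1 (hQp.to_quotient (Z.subgroupOf Q))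
  have hexp : ∀ x : Q ⧸ Z.subgroupOf Q, x ^ q = 1 := by
    intro x
    obtain ⟨a, rfl⟩ := QuotientGroup.mk_surjective x
    rw [← QuotientGroup.mk_pow]
    exact (QuotientGroup.eq_one_iff (N := Z.subgroupOf Q) (a ^ q)).2 ⟨Q.pow_mem a.2 q, hpow _ a.2⟩
  -- the action on the quotient
  let cj : G → (Q →* Q) := fun g =>
    { toFun := fun a => ⟨g * a * g⁻¹, (inferInstance : Q.Normal).conj_mem a a.2 g⟩
      map_one' := Subtype.ext (by simp)
      map_mul' := fun a b => Subtype.ext (by simp [mul_assoc]) }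
  let act : G → ((Q ⧸ Z.subgroupOf Q) →* (Q ⧸ Z.subgroupOf Q)) := fun g => QuotientGroup.map _ _ (cj g) fun a ha => by
    show (cj g a : G) ∈ Z
    exact hZn.conj_mem _ ha g
  have hact : ∀ g (a : Q), act g (QuotientGroup.mk a) = QuotientGroup.mk (cj g a) := fun g a => rfl
  obtain ⟨rep, hrep1⟩ := exists_matrix_rep hd hexp act (fun x => by
      obtain ⟨a, rfl⟩ := QuotientGroup.mk_surjective x
      rw [hact, show cj 1 a = a from Subtype.ext (by simp [cj])])
    (fun g g' x => by
      obtain ⟨a, rfl⟩ := QuotientGroup.mk_surjective x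
      rw [hact, hact, hact, show cj (g * g') a = cj g (cj g' a) from Subtype.ext (by simp [cj, mul_assoc])])
  have hrep : rep.ker ≤ π.ker := by
    by_contra hnot
    have htop := eq_top_of_not_le (by omega) hπ hmin rep.ker hnot
    have hcomm : ∀ (g : G) (a : Q), g * a * g⁻¹ * (a : G)⁻¹ ∈ Subgroup.center G := by
      intro g a
      have h3 : act g (QuotientGroup.mk a) = QuotientGroup.mk a :=
        hrep1 g (show g ∈ rep.ker by rw [htop]; trivial) _
      rw [hact] at h3
      have h4 := ((hmk _ _).1 h3.symm).2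
      have h5 : g * a * g⁻¹ * (a : G)⁻¹ = (a : G)⁻¹ * (g * a * g⁻¹) := by
        generalize hw : (a : G)⁻¹ * (cj g a : G) = w at h4
        have e : g * a * g⁻¹ = (a : G) * w := by rw [← hw, mul_inv_cancel_left]; rfl
        rw [e, Subgroup.mem_center_iff.1 h4 (a : G), mul_inv_cancel_right]
      rw [h5]; exact h4
    refine hab fun a ha b hb => ?_
    let f : G →* Subgroup.center G :=
      { toFun := fun g => ⟨g * a * g⁻¹ * a⁻¹, hcomm g ⟨a, ha⟩⟩
        map_one' := Subtype.ext (by simp)
        map_mul' := fun g g' => Subtype.ext (by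
          show g * g' * a * (g * g')⁻¹ * a⁻¹ = (g * a * g⁻¹ * a⁻¹) * (g' * a * g'⁻¹ * a⁻¹)
          rw [Subgroup.mem_center_iff.1 (hcomm g' ⟨a, ha⟩) (g * a * g⁻¹ * a⁻¹)]
          calc g * g' * a * (g * g')⁻¹ * a⁻¹ = g * (g' * a * g'⁻¹ * a⁻¹) * (a * g⁻¹ * a⁻¹) := by group
            _ = (g' * a * g'⁻¹ * a⁻¹) * g * (a * g⁻¹ * a⁻¹) := by
                rw [Subgroup.mem_center_iff.1 (hcomm g' ⟨a, ha⟩) g]
            _ = _ := by group) }
    have hle : commutator G ≤ f.ker := by
      rw [_root_.commutator_def, Subgroup.commutator_le]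
      intro g _ g' _
      rw [MonoidHom.mem_ker, commutatorElement_def, map_mul, map_mul, map_mul, map_inv, map_inv]
      refine Subtype.ext ?_
      have := Subgroup.mem_center_iff.1 (f g').2 (f g : G)
      simp only [Subgroup.coe_mul, Subgroup.coe_inv, Subgroup.coe_one]
      rw [this, mul_inv_cancel_right, mul_inv_cancel]
    rw [hperf] at hle
    have h6 : (b * a * b⁻¹ * a⁻¹ : G) = 1 := congrArg Subtype.val (show f b = 1 from hle (Subgroup.mem_top b))
    rw [mul_inv_eq_one, mul_inv_eq_iff_eq_mul] at h6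
    exact h6.symm
  have hd1 : 1 ≤ d := by
    rcases Nat.eq_zero_or_pos d with h0 | h0
    · exfalso
      rw [h0, pow_zero] at hd
      haveI : Subsingleton (Q ⧸ Z.subgroupOf Q) := (Nat.card_eq_one_iff_unique.1 hd).1
      refine hab fun a ha b hb => ?_
      have := (QuotientGroup.eq_one_iff _).1 (Subsingleton.elim (QuotientGroup.mk ⟨a, ha⟩ : (Q ⧸ Z.subgroupOf Q)) 1)
      exact (Subgroup.mem_center_iff.1 (show a ∈ Subgroup.center G from this.2) b).symm
    · exact h0
  rw [hd] at hcard
  have h2q : 2 ^ d ≤ q ^ d := Nat.pow_le_pow_left hq.two_le d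
  by_cases hdn : d < finrank k V
  · let k' := AlgebraicClosure (ZMod q)
    let up : G →* (Matrix (Fin d) (Fin d) k') :=
      ((algebraMap (ZMod q) k').mapMatrix : Matrix (Fin d) (Fin d) (ZMod q) →+* _).toMonoidHom.comp rep
    let ρ' : G →* ((Fin d → k') ≃ₗ[k'] (Fin d → k')) :=
      (LinearMap.GeneralLinearGroup.generalLinearEquiv k' (Fin d → k')).toMonoidHom.comp
        ((Units.map ((Matrix.toLinAlgEquiv' : Matrix (Fin d) (Fin d) k' ≃ₐ[k'] _).toMulEquiv.toMonoidHom)).comp
          up.toHomUnits)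
    have hker : ρ'.ker ≤ π.ker := fun g hg => hrep (by
      have h1 : Matrix.toLinAlgEquiv' (up g) = 1 := by
        refine LinearMap.ext fun v => ?_
        exact LinearEquiv.congr_fun (MonoidHom.mem_ker.1 hg) v
      have h2 : up g = 1 := Matrix.toLinAlgEquiv'.injective (h1.trans (map_one _).symm)
      refine MonoidHom.mem_ker.2 ?_
      refine Matrix.map_injective (algebraMap (ZMod q) k').injective (h2.trans ?_)
      exact (map_one (algebraMap (ZMod q) k').mapMatrix).symm)
    have hbd := (hn d hdn k' (Fin d → k') G ρ' π hπ hker (Module.finrank_fin_fun _)).1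
    by_contra hlt
    have h3 : finrank k V * finrank k V ≤ (r - 2) * (r - 2) := Nat.mul_le_mul (by omega) (by omega)
    have h4 : 2 ^ (r - 2) ≤ 2 ^ d := Nat.pow_le_pow_right (by omega) hbd
    have h5 := two_pow_gt (r - 2) (by omega)
    omega
  · exfalso
    have h6 : finrank k V * finrank k V ≤ d * d := Nat.mul_le_mul (by omega) (by omega)
    have hd4 : d ≤ 4 := by
      by_contra h
      have := two_pow_gt d (by omega)
      omega
    have h16 : q ^ d ≤ 16 := by
      have : d * d ≤ 16 := Nat.mul_le_mul hd4 hd4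
      omega
    -- the group would be too small
    have hsmall : Nat.card (alternatingGroup (Fin r)) ≤ (q ^ d) ^ d := by
      obtain ⟨sec, hsec⟩ := hπ.hasRightInverse
      refine (Nat.card_le_card_of_injective (fun x => rep (sec x)) fun x y h => ?_).trans_eq ?_
      · have hk : x = y ∨ (sec x)⁻¹ * sec y ∈ rep.ker := Or.inr (by
          rw [MonoidHom.mem_ker, map_mul, show rep (sec y) = rep (sec x) from h.symm, ← map_mul, inv_mul_cancel,
            map_one])
        rcases hk with hk | hk
        · exact hk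
        · have := hrep hk
          rwa [MonoidHom.mem_ker, map_mul, map_inv, hsec, hsec, inv_mul_eq_one] at this
      · simp [Matrix, Nat.card_fun, Nat.card_zmod]
    have h7 : (q ^ d) ^ d ≤ 16 ^ 4 := (Nat.pow_le_pow_left h16 d).trans (Nat.pow_le_pow_right (by norm_num) hd4)
    have h8 := two_mul_card_alt (r := r) (by omega)
    have h9 : Nat.factorial 9 ≤ Nat.factorial r := Nat.factorial_le hr
    have h10 : Nat.factorial 9 = 362880 := by decide
    omega

theorem bndInj_step {n r N : ℕ} (hr : 9 ≤ r) (hn : ∀ n' r', n' < n → 9 ≤ r' → Bnd n' r')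
    (hrr : ∀ r', r' < r → 9 ≤ r' → Bnd n r') (hN : ∀ N', N' < N → BndInj n r N') : BndInj n r N := by
  intro k _ _ V _ _ _ G _ _ ρ π hπ hinj hNG hnV
  classical
  by_cases hM : ∃ M : Subgroup G, M ≠ ⊤ ∧ M.map π = ⊤
  · obtain ⟨M, hM, hMπ⟩ := hM
    refine hN (Nat.card M) ?_ k V M (ρ.comp M.subtype) (π.comp M.subtype) ?_ (hinj.comp M.subtype_injective) rfl hnV
    · rw [← hNG]
      exact lt_of_le_of_ne (Subgroup.card_le_card_group M) fun h => hM (Subgroup.eq_top_of_card_eq M h)
    · intro x
      obtain ⟨g, hg, rfl⟩ := (hMπ.symm ▸ Subgroup.mem_top x : x ∈ M.map π)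
      exact ⟨⟨g, hg⟩, rfl⟩
  have hmin : ∀ M : Subgroup G, M.map π = ⊤ → M = ⊤ := fun M h => by
    by_contra h'; exact hM ⟨M, h', h⟩
  by_cases hred : ∃ W : Submodule k V, (∀ g, ∀ w ∈ W, ρ g w ∈ W) ∧ W ≠ ⊥ ∧ W ≠ ⊤
  · obtain ⟨W, hW, hWb, hWt⟩ := hred
    have hWlt : finrank k W < n := hnV ▸ Submodule.finrank_lt hWt
    have hWpos : 0 < finrank k W := Nat.pos_of_ne_zero fun h => hWb (Submodule.finrank_eq_zero.1 h)
    have hsum := Submodule.finrank_quotient_add_finrank W
    rw [hnV] at hsum
    by_cases h1 : (subRep ρ W hW).ker ≤ π.ker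
    · have := (hn _ _ hWlt hr k W G (subRep ρ W hW) π hπ h1 rfl).1
      exact ⟨by omega, fun h => by omega⟩
    by_cases h2 : (quotRep ρ W hW).ker ≤ π.ker
    · have := (hn (finrank k (V ⧸ W)) _ (by omega) hr k (V ⧸ W) G (quotRep ρ W hW) π hπ h2 rfl).1
      exact ⟨by omega, fun h => by omega⟩
    exfalso
    have t1 := eq_top_of_not_le (by omega) hπ hmin _ h1
    have t2 := eq_top_of_not_le (by omega) hπ hmin _ h2
    have e1 : ∀ g, ∀ w ∈ W, ρ g w = w := fun g => (mem_subRep_ker ρ hW).1 (by rw [t1]; trivial)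
    have e2 : ∀ g v, ρ g v - v ∈ W := fun g v =>
      (Submodule.Quotient.eq W).1 (LinearEquiv.congr_fun (MonoidHom.mem_ker.1
        (show g ∈ (quotRep ρ W hW).ker by rw [t2]; trivial)) (Submodule.Quotient.mk v))
    refine not_comm (by omega) hπ fun a b => hinj (LinearEquiv.ext fun v => ?_)
    have ha := e1 a _ (e2 b v)
    have hb := e1 b _ (e2 a v)
    rw [map_sub, sub_eq_iff_eq_add] at ha hb
    rw [map_mul, map_mul, LinearEquiv.mul_apply, LinearEquiv.mul_apply, ha, hb]
    abel
  have hirr : ∀ W : Submodule k V, (∀ g, ∀ w ∈ W, ρ g w ∈ W) → W = ⊥ ∨ W = ⊤ := fun W hW => by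
    by_contra h
    push Not at h
    exact hred ⟨W, hW, h.1, h.2⟩
  haveI : Nontrivial V := by
    by_contra h
    rw [not_nontrivial_iff_subsingleton] at h
    exact not_comm (by omega) hπ fun a b => hinj (LinearEquiv.ext fun v => Subsingleton.elim _ _)
  by_cases hc : π.ker ≤ Subgroup.center G
  · -- a small central kernel
    obtain ⟨m, rfl⟩ : ∃ m, r = m + 2 := ⟨r - 2, by omega⟩
    have hk2 := AltCover.card_ker_le_two (m := m) (Or.inr (by omega)) π hπ hc
      (by rw [le_commutator (by omega) hπ hmin]; exact le_top)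
    have C : Cover π ρ :=
      { surj := hπ, central := hc, minimal := hmin, inj := hinj, irr := hirr
        small := fun z hz => by
          have h1 : (⟨z, hz⟩ : π.ker) ^ Nat.card π.ker = 1 := pow_card_eq_one'
          have hpos : 0 < Nat.card π.ker := Nat.card_pos
          rcases (show Nat.card π.ker = 1 ∨ Nat.card π.ker = 2 by omega) with h | h <;> rw [h] at h1
          · rw [show z = 1 by simpa using congrArg Subtype.val h1, one_mul]
          · simpa [pow_two] using congrArg Subtype.val h1 }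
    have hb := C.degree_bound hr fun S hS hSr W hW hlt => by
      by_contra hnt
      let φ : liftSub π S →* (W ≃ₗ[k] W) := subRep (ρ.comp (liftSub π S).subtype) W fun g w hw => hW g g.2 w hw
      have hmap : ∀ g : liftSub π S, ∃ y, alternatingGroup.ofSubtype S y = π g := fun g => by
        have hg : π (g : G) ∈ Subgroup.closure (cycIn S) := by rw [← C.map_liftSub]; exact Subgroup.mem_map_of_mem π g.2
        refine (alternatingGroup.mem_range_ofSubtype_iff S _).2 ((alternatingGroup.mem_range_ofSubtype_iff S _).1 ?_)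
        exact (Subgroup.closure_le _).2 (fun c hc => (alternatingGroup.mem_range_ofSubtype_iff S c).2 hc.2) hg
      choose y hy using hmap
      let ι := alternatingGroup.ofSubtype (α := Fin (m + 2)) S
      have hι : Function.Injective ι := alternatingGroup.ofSubtype_injective
      let eS : S ≃ Fin S.card := S.equivFin
      let ψ : liftSub π S →* alternatingGroup (Fin S.card) :=
        (Equiv.altCongrHom eS).toMonoidHom.comp
          { toFun := y
            map_one' := hι (by rw [hy, map_one]; simp)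
            map_mul' := fun a b => hι (by rw [map_mul, hy, hy, hy]; simp) }
      have hψ : Function.Surjective ψ := by
        intro x
        obtain ⟨g, hg, hgx⟩ : ι ((Equiv.altCongrHom eS).symm x) ∈ (liftSub π S).map π := by
          rw [C.map_liftSub]
          exact mem_closure_cycIn ((alternatingGroup.mem_range_ofSubtype_iff S _).1 ⟨_, rfl⟩)
        refine ⟨⟨g, hg⟩, ?_⟩
        show (Equiv.altCongrHom eS) (y ⟨g, hg⟩) = x
        rw [show y ⟨g, hg⟩ = (Equiv.altCongrHom eS).symm x from hι ((hy _).trans hgx), MulEquiv.apply_symm_apply]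
      have hker : φ.ker ≤ ψ.ker := by
        intro g hg
        have hg' := (mem_subRep_ker _ _).1 hg
        by_contra hne
        refine hnt (C.trivial_of_kernel (by omega) hW g.2 hg' fun h => hne ?_)
        refine MonoidHom.mem_ker.2 ?_
        show (Equiv.altCongrHom eS) (y g) = 1
        rw [show y g = 1 from hι ((hy g).trans (h.trans (map_one ι).symm)), map_one]
      have hWn : finrank k W ≤ n := hnV ▸ Submodule.finrank_le W
      have hB : Bnd (finrank k W) S.card := by
        rcases hWn.lt_or_eq with h | h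
        · exact hn _ _ h hS
        · rw [h]; exact hrr _ (by omega) hS
      have := (hB k W (liftSub π S) φ ψ hψ hker rfl).1
      omega
    rwa [hnV] at hb
  · -- a non-central kernel
    obtain ⟨q, hq, Q, hQn, hQp, hQk, hQc⟩ : ∃ q : ℕ, q.Prime ∧ ∃ Q : Subgroup G, Q.Normal ∧ IsPGroup q Q ∧
        Q ≤ π.ker ∧ ¬ Q ≤ Subgroup.center G := by
      by_contra hall
      push Not at hall
      refine hc fun z hz => ?_
      have hle : (⨆ (q : Nat.Primes) (P : Sylow q π.ker), (P : Subgroup π.ker)) ≤
          (Subgroup.center G).comap π.ker.subtype := by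
        refine iSup_le fun q => iSup_le fun P => ?_
        haveI := Fact.mk q.2
        have hN := Sylow.normalizer_sup_eq_top P
        have hnorm : Subgroup.normalizer ((P : Subgroup π.ker).map π.ker.subtype : Set G) = ⊤ := by
          refine hmin _ ?_
          have h := congrArg (Subgroup.map π) hN
          rwa [Subgroup.map_sup, (Subgroup.map_eq_bot_iff π.ker).2 le_rfl, sup_bot_eq,
            Subgroup.map_top_of_surjective π hπ] at h
        haveI := Subgroup.normalizer_eq_top_iff.1 hnorm
        exact Subgroup.map_le_iff_le_comap.1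
          (hall q q.2 _ inferInstance (P.2.map _) (Subgroup.map_subtype_le _))
      exact hle (mem_iSup_sylow (⟨z, hz⟩ : π.ker))
    haveI := Fact.mk hq
    obtain ⟨Q', ⟨hn', hp', hk', hc'⟩, hmQ⟩ := wellFounded_lt.has_min
      {Q : Subgroup G | Q.Normal ∧ IsPGroup q Q ∧ Q ≤ π.ker ∧ ¬ Q ≤ Subgroup.center G} ⟨Q, hQn, hQp, hQk, hQc⟩
    haveI : Q'.Normal := hn'
    by_cases hab : ∀ a ∈ Q', ∀ b ∈ Q', a * b = b * a
    · have := degree_of_abelian (by omega) hπ hmin hinj hirr Q' hc' hab
      exact ⟨by omega, fun h => by omega⟩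
    · have := degree_of_nonabelian hr hπ hmin hinj hirr Q' hp' (fun N hN hlt => by
        by_contra hNc
        exact hmQ N ⟨hN, hp'.to_le hlt.le, hlt.le.trans hk', hNc⟩ hlt) hab fun d hd => hn d r (hnV ▸ hd) hr
      exact ⟨by omega, fun h => by omega⟩

theorem bnd_all : ∀ n r, 9 ≤ r → Bnd n r := by
  intro n
  induction n using Nat.strong_induction_on with
  | _ n ihn =>
    intro r
    induction r using Nat.strong_induction_on with
    | _ r ihr =>
      intro hr
      refine bnd_of_inj fun N => ?_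
      induction N using Nat.strong_induction_on with
      | _ N ihN => exact bndInj_step hr (fun n' r' h h' => ihn n' h r' h') (fun r' h h' => ihr r' h h') ihN

end Cfsg.Agent.AltDegree
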